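import Cfsg.Agent.Lib.JankoFourEleven.Suborbit
import Cfsg.Agent.Lib.JankoFourBridge.Classes

/-!
# The Sylow 11-normalizer and the classes of elements of order eleven (owner: helper25)
-/

set_option autoImplicit false
set_option linter.unusedSectionVars false

namespace CfsgLib.JankoFour.Eleven

open Cfsg CfsgLib.ThreeTrans

variable {G : Type*} [Group G] [Finite G]

/-- The standard Sylow subgroup at an element commuting with `z`. -/
structure Std (z x : G) (U : Subgroup G) : Prop where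
  hx : orderOf x = 11
  hxz : Commute x z
  card_U : Nat.card ↥U = 11 ^ 3
  le_X : U ≤ CX x
  le_N : CX x ≤ Subgroup.normalizer (U : Set G)
  card_X : Nat.card ↥(CX x) = 24 * 11 ^ 3

variable [IsSimpleGroup G] {z : G}

theorem Hyp.exists_std (h : Hyp z) : ∃ x U, Std z x U := by
  haveI : Fact (Nat.Prime 11) := ⟨by norm_num⟩
  obtain ⟨a, ha⟩ := exists_prime_orderOf_dvd_card' (G := ↥(CX z)) 11
    (by rw [card_centralizer_H h.nonab h.type]; norm_num)
  have hx : orderOf (a : G) = 11 := by rw [Subgroup.orderOf_coe, ha]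
  obtain ⟨hc, U, hU1, hU2, hU3⟩ := h.z_sylow hx (mem_CX.1 a.2)
  exact ⟨a, U, hx, mem_CX.1 a.2, hU1, hU2, hU3, hc⟩

theorem Hyp.exists_second_eleven (h : Hyp z) : ∃ x : G, orderOf x = 11 ∧ Nat.card ↥(CX x) = 242 := by
  haveI : Fact (Nat.Prime 11) := ⟨by norm_num⟩
  obtain ⟨t, ht, hnc, -⟩ := CfsgLib.JankoFourBridge.exists_second_class h.nonab h.type
  obtain ⟨a, ha⟩ := exists_prime_orderOf_dvd_card' (G := ↥(CX t)) 11
    (by rw [second_facts h.nonab h.type ht hnc]; norm_num)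
  have hx : orderOf (a : G) = 11 := by rw [Subgroup.orderOf_coe, ha]
  exact ⟨a, hx, h.t_cent hx ht hnc (mem_CX.1 a.2)⟩

variable {x : G} {U : Subgroup G} (h : Hyp z) (S : Std z x U)
include h S

theorem Hyp.mem_U {a : G} (ha : Commute a x) (ha3 : a ^ 11 ^ 3 = 1) : a ∈ U := by
  haveI : Fact (Nat.Prime 11) := ⟨by norm_num⟩
  have hd : orderOf a ∣ 11 ^ 3 := orderOf_dvd_of_pow_eq_one ha3
  obtain ⟨k, -, hk⟩ := (Nat.dvd_prime_pow (Fact.out : Nat.Prime 11)).1 hd
  have hp : IsPGroup 11 (Subgroup.zpowers a) := IsPGroup.of_card (n := k) (by rw [Nat.card_zpowers, hk])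
  have hle : Subgroup.zpowers a ≤ Subgroup.normalizer (U : Set G) := Subgroup.zpowers_le.2 (S.le_N (mem_CX.2 ha))
  have hsup : IsPGroup 11 ↥(Subgroup.zpowers a ⊔ U) := hp.to_sup_of_normal_right' (IsPGroup.of_card S.card_U) hle
  obtain ⟨m, hm⟩ := IsPGroup.iff_card.1 hsup
  have hd2 : Nat.card ↥(Subgroup.zpowers a ⊔ U) ∣ 11 ^ 3 * 24 := by
    refine (Subgroup.card_dvd_of_le (sup_le (Subgroup.zpowers_le.2 (mem_CX.2 ha)) S.le_X)).trans (dvd_of_eq ?_)
    rw [S.card_X, mul_comm]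
  rw [hm] at hd2
  have hd3 := (Nat.Coprime.pow_left m (by norm_num : Nat.Coprime 11 24)).dvd_of_dvd_mul_right hd2
  have e : U = Subgroup.zpowers a ⊔ U := Subgroup.eq_of_le_of_card_ge le_sup_right (by
    rw [hm, S.card_U]; exact Nat.le_of_dvd (by norm_num) hd3)
  rw [e]
  exact Subgroup.mem_sup_left (Subgroup.mem_zpowers a)

theorem Hyp.x_mem_U : x ∈ U := h.mem_U S (Commute.refl x) (orderOf_dvd_iff_pow_eq_one.1 (by rw [S.hx]; norm_num))

theorem Hyp.U_pow {a : G} (ha : a ∈ U) : a ^ 11 ^ 3 = 1 := by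
  have := congrArg Subtype.val (pow_card_eq_one' (G := ↥U) (x := ⟨a, ha⟩))
  rwa [S.card_U] at this

theorem Hyp.sylow_eq : ∃ T : Sylow 11 G, (T : Subgroup G) = U := by
  haveI : Fact (Nat.Prime 11) := ⟨by norm_num⟩
  obtain ⟨T, hT⟩ := (IsPGroup.of_card S.card_U).exists_le_sylow
  exact ⟨T, (Subgroup.eq_of_le_of_card_ge hT (by rw [h.card_sylow T, S.card_U])).symm⟩

theorem Hyp.not_comm : ¬ IsMulCommutative ↥U := by
  haveI : Fact (Nat.Prime 11) := ⟨by norm_num⟩
  intro hU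
  obtain ⟨w, hw, hwc⟩ := h.exists_second_eleven
  obtain ⟨W, hW⟩ := (IsPGroup.of_card (n := 1) (by rw [Nat.card_zpowers, hw, pow_one]) :
    IsPGroup 11 (Subgroup.zpowers w)).exists_le_sylow
  obtain ⟨T, hT⟩ := h.sylow_eq S
  obtain ⟨g, hg⟩ := MulAction.exists_smul_eq G T W
  have hWU : (W : Subgroup G) = U.map (MulAut.conj g).toMonoidHom := by
    rw [← hg, ← hT]; rfl
  have hle : (W : Subgroup G) ≤ CX w := fun v hv => mem_CX.2 (by
    rw [hWU] at hv
    obtain ⟨v0, hv0, rfl⟩ := hv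
    obtain ⟨w0, hw0, hw0e⟩ := (hWU ▸ hW (Subgroup.mem_zpowers w) : w ∈ U.map (MulAut.conj g).toMonoidHom)
    rw [← hw0e]
    exact ((show Commute (⟨v0, hv0⟩ : ↥U) ⟨w0, hw0⟩ from hU.1.1 _ _).map U.subtype).map (MulAut.conj g).toMonoidHom)
  have := Subgroup.card_dvd_of_le hle
  rw [h.card_sylow W, hwc] at this
  norm_num at this

theorem Hyp.extraspecial : IsExtraspecial 11 ↥U := by
  haveI : Fact (Nat.Prime 11) := ⟨by norm_num⟩
  exact CfsgLib.PGroups.isExtraspecial_of_card_cube (h.not_comm S) S.card_U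

theorem Hyp.center_eq {a : G} : (a ∈ U ∧ ∀ b ∈ U, Commute b a) ↔ a ∈ Subgroup.zpowers x := by
  have hxU := h.x_mem_U S
  have hxc : ∀ b ∈ U, Commute b x := fun b hb => mem_CX.1 (S.le_X hb)
  refine ⟨fun ⟨ha, hac⟩ => ?_, fun ha => ⟨Subgroup.zpowers_le.2 hxU ha, fun b hb => ?_⟩⟩
  · have e : Subgroup.zpowers x = (Subgroup.center ↥U).map U.subtype := by
      refine Subgroup.eq_of_le_of_card_ge (Subgroup.zpowers_le.2 ⟨⟨x, hxU⟩, Subgroup.mem_center_iff.2 fun b =>
        Subtype.ext (hxc b b.2).eq, rfl⟩) ?_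
      rw [Subgroup.card_subtype, (h.extraspecial S).2, Nat.card_zpowers, S.hx]
    rw [e]
    exact ⟨⟨a, ha⟩, Subgroup.mem_center_iff.2 fun b => Subtype.ext (hac b b.2).eq, rfl⟩
  · obtain ⟨i, rfl⟩ := ha
    exact (hxc b hb).zpow_right i

/-- The normalizer of `U` is that of `⟨x⟩`. -/
theorem Hyp.mem_N {g : G} : g ∈ Subgroup.normalizer (U : Set G) ↔ g * x * g⁻¹ ∈ Subgroup.zpowers x := by
  constructor
  · intro hg
    refine (h.center_eq S).1 ⟨(Subgroup.mem_normalizer_iff.1 hg x).1 (h.x_mem_U S), fun b hb => ?_⟩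
    have h1 : g⁻¹ * b * g ∈ U := (Subgroup.mem_normalizer_iff.1 hg _).2 (by
      rwa [show g * (g⁻¹ * b * g) * g⁻¹ = b by group])
    have h2 := (commute_conj (g := g)).2 (mem_CX.1 (S.le_X h1))
    rwa [show g * (g⁻¹ * b * g) * g⁻¹ = b by group] at h2
  · intro hg
    refine mem_normalizer_of_conj fun a ha => h.mem_U S ?_ ?_
    · have hgo : orderOf (g * x * g⁻¹) = 11 := (orderOf_conj' g x).trans S.hx
      obtain ⟨j, hj⟩ : x ∈ Subgroup.zpowers (g * x * g⁻¹) := by
        rw [Subgroup.eq_of_le_of_card_ge (Subgroup.zpowers_le.2 hg) (by rw [Nat.card_zpowers, Nat.card_zpowers, hgo, S.hx])]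
        exact Subgroup.mem_zpowers x
      have hj' : (g * x * g⁻¹) ^ j = x := hj
      exact hj' ▸ ((commute_conj (g := g)).2 (mem_CX.1 (S.le_X ha))).zpow_right j
    · rw [conj_pow, h.U_pow S ha]; simp

theorem Hyp.card_N : Nat.card ↥(Subgroup.normalizer (U : Set G)) = 319440 := by
  haveI : Fact (Nat.Prime 11) := ⟨by norm_num⟩
  set N := Subgroup.normalizer (U : Set G)
  set Z := Subgroup.zpowers x
  have hNZ : N ≤ Subgroup.normalizer (Z : Set G) := fun g hg => mem_normalizer_of_conj fun a ha => by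
    obtain ⟨i, rfl⟩ := ha
    show g * x ^ i * g⁻¹ ∈ Z
    rw [← conj_zpow]
    exact zpow_mem ((h.mem_N S).1 hg) i
  let φ : ↥N →* MulAut ↥Z := (Subgroup.normalizerMonoidHom Z).comp (Subgroup.inclusion hNZ)
  have hval : ∀ (n : ↥N) (w : ↥Z), ((φ n w : ↥Z) : G) = (n : G) * w * (n : G)⁻¹ := fun n w => rfl
  have hk : Nat.card φ.ker = 24 * 11 ^ 3 := by
    rw [← S.card_X]
    refine Nat.card_congr
      { toFun := fun a => ⟨((a : ↥N) : G), mem_CX.2 (mul_inv_eq_iff_eq_mul.1 (by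
          have e := congrArg (fun f : MulAut ↥Z => ((f ⟨x, Subgroup.mem_zpowers x⟩ : ↥Z) : G)) (MonoidHom.mem_ker.1 a.2)
          rw [hval] at e
          exact e))⟩
        invFun := fun a => ⟨⟨a, S.le_N a.2⟩, MonoidHom.mem_ker.2 (MulEquiv.ext fun w => Subtype.ext (by
          rw [hval]
          obtain ⟨i, hi⟩ := w.2
          have hi' : x ^ i = (w : G) := hi
          show (a : G) * w * (a : G)⁻¹ = w
          rw [← hi', ((mem_CX.1 a.2).zpow_right i).eq, mul_inv_cancel_right]))⟩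
        left_inv := fun _ => rfl
        right_inv := fun _ => rfl }
  have hr : φ.range = ⊤ := by
    obtain ⟨-, -, g, -, hg⟩ := z_data h.nonab h.type S.hx S.hxz
    rw [eq_top_iff]
    intro α _
    have h1 : ((α ⟨x, Subgroup.mem_zpowers x⟩ : ↥Z) : G) ≠ 1 := fun e => by
      have e' : (⟨x, Subgroup.mem_zpowers x⟩ : ↥Z) = 1 := α.injective ((Subtype.ext e : _ = (1 : ↥Z)).trans (map_one α).symm)
      have hx1 : x = 1 := congrArg Subtype.val e'
      have hx := S.hx
      rw [hx1, orderOf_one] at hx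
      norm_num at hx
    obtain ⟨k, -, hk⟩ := isConj_pow_of_square S.hx hg (α ⟨x, Subgroup.mem_zpowers x⟩).2 h1
    have hkN : k ∈ N := (h.mem_N S).2 (hk ▸ (α ⟨x, Subgroup.mem_zpowers x⟩).2)
    refine ⟨⟨k, hkN⟩, MulEquiv.ext fun w => Subtype.ext ?_⟩
    obtain ⟨i, hi⟩ := w.2
    have hw : w = (⟨x, Subgroup.mem_zpowers x⟩ : ↥Z) ^ i := Subtype.ext (by rw [Subgroup.coe_zpow]; exact hi.symm)
    rw [hw, map_zpow, map_zpow, Subgroup.coe_zpow, Subgroup.coe_zpow, hval, hk]
  haveI : IsCyclic ↥Z := inferInstance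
  have h' := φ.ker.card_mul_index
  rw [Subgroup.index_ker, hr, Subgroup.card_top, hk, IsCyclic.card_mulAut, Nat.card_zpowers, S.hx,
    Nat.totient_prime (by norm_num)] at h'
  rw [← h']; norm_num

/-- The centralizer in the normalizer of a noncentral element of `U`. -/
theorem Hyp.cent_noncentral {w : G} (hw : w ∈ U) (hwx : w ∉ Subgroup.zpowers x) :
    Nat.card ↥(Subgroup.normalizer (U : Set G) ⊓ CX w) ∣ 242 := by
  classical
  haveI : Fact (Nat.Prime 11) := ⟨by norm_num⟩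
  set Z := Subgroup.zpowers x
  set M := Subgroup.normalizer (U : Set G) ⊓ CX w
  have hNZ : M ≤ Subgroup.normalizer (Z : Set G) := fun g hg => mem_normalizer_of_conj fun a ha => by
    obtain ⟨i, rfl⟩ := ha
    show g * x ^ i * g⁻¹ ∈ Z
    rw [← conj_zpow]
    exact zpow_mem ((h.mem_N S).1 (Subgroup.mem_inf.1 hg).1) i
  let φ : ↥M →* MulAut ↥Z := (Subgroup.normalizerMonoidHom Z).comp (Subgroup.inclusion hNZ)
  have hker : ∀ a : ↥M, a ∈ φ.ker → Commute (a : G) x := fun a ha => mul_inv_eq_iff_eq_mul.1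
    (congrArg (fun f : MulAut ↥Z => ((f ⟨x, Subgroup.mem_zpowers x⟩ : ↥Z) : G)) (MonoidHom.mem_ker.1 ha))
  -- no involution centralises two lines
  have h121 : ∀ s, orderOf s = 2 → Commute s x → ¬ Commute s w := by
    intro s hs hsx hsw
    set W := U ⊓ CX s
    obtain ⟨k, hk⟩ := IsPGroup.iff_card.1 ((IsPGroup.of_card S.card_U).to_le (inf_le_left : W ≤ U))
    have hd : Nat.card ↥W ∣ Nat.card ↥(CX s) := Subgroup.card_dvd_of_le inf_le_right
    refine h.not_sq_cent hs ((pow_two 11).symm.dvd.trans ?_)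
    rw [hk] at hd
    refine (pow_dvd_pow 11 ?_).trans hd
    by_contra hk2
    have e : Subgroup.zpowers x = W := Subgroup.eq_of_le_of_card_ge
      (Subgroup.zpowers_le.2 (Subgroup.mem_inf.2 ⟨h.x_mem_U S, mem_CX.2 hsx.symm⟩))
      (by
        rw [hk, Nat.card_zpowers, S.hx]
        calc 11 ^ k ≤ 11 ^ 1 := Nat.pow_le_pow_right (by norm_num) (by omega)
          _ = 11 := pow_one 11)
    refine hwx ?_
    show w ∈ Subgroup.zpowers x
    rw [e]
    exact Subgroup.mem_inf.2 ⟨hw, mem_CX.2 hsw.symm⟩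
  -- the kernel has order dividing 121
  have hk : Nat.card φ.ker ∣ 121 := by
    have hd : Nat.card φ.ker ∣ 2 ^ 3 * 3 * 11 ^ 3 := by
      refine (Subgroup.card_dvd_of_injective ((M.subtype.comp φ.ker.subtype).codRestrict (CX x)
        fun a => mem_CX.2 (hker a a.2))
        fun a b e => Subtype.ext (Subtype.ext (congrArg (fun v : ↥(CX x) => (v : G)) e :))).trans (dvd_of_eq ?_)
      rw [S.card_X]; norm_num
    have h2 : ¬ 2 ∣ Nat.card φ.ker := fun hd2 => by
      haveI : Fact (Nat.Prime 2) := ⟨Nat.prime_two⟩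
      obtain ⟨a, ha⟩ := exists_prime_orderOf_dvd_card' 2 hd2
      refine h121 ((a : ↥M) : G) (by rw [Subgroup.orderOf_coe, Subgroup.orderOf_coe, ha]) (hker a a.2) ?_
      exact mem_CX.1 (Subgroup.mem_inf.1 (a : ↥M).2).2
    have h3 : ¬ 3 ∣ Nat.card φ.ker := fun hd3 => by
      haveI : Fact (Nat.Prime 3) := ⟨Nat.prime_three⟩
      obtain ⟨a, ha⟩ := exists_prime_orderOf_dvd_card' 3 hd3
      obtain ⟨v, hv, hC⟩ := three_center h.nonab h.type (y := ((a : ↥M) : G))
        (by rw [Subgroup.orderOf_coe, Subgroup.orderOf_coe, ha])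
      obtain ⟨g, rfl⟩ := isConj_iff.1 hv
      refine h121 (g * z * g⁻¹) ((orderOf_conj' g z).trans h.type.choose_spec.1) (hC x (hker a a.2).symm).symm
        (hC w (mem_CX.1 (Subgroup.mem_inf.1 (a : ↥M).2).2).symm).symm
    have hd3 : Nat.card φ.ker ∣ 11 ^ 3 := by
      refine Nat.Coprime.dvd_of_dvd_mul_left ?_ hd
      exact Nat.Coprime.mul_right (((Nat.Prime.coprime_iff_not_dvd Nat.prime_two).2 h2).symm.pow_right 3)
        ((Nat.Prime.coprime_iff_not_dvd Nat.prime_three).2 h3).symm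
    obtain ⟨k, hk3, hk'⟩ := (Nat.dvd_prime_pow (Fact.out : Nat.Prime 11)).1 hd3
    rw [hk', show (121 : ℕ) = 11 ^ 2 from rfl]
    refine pow_dvd_pow 11 ?_
    by_contra hlt
    have hk3' : k = 3 := by omega
    -- otherwise `w` is central
    refine hwx ((h.center_eq S).1 ⟨hw, fun b hb => ?_⟩)
    let f : φ.ker → ↥U := fun a => ⟨((a : ↥M) : G), h.mem_U S (hker a a.2) (by
      have := congrArg Subtype.val (congrArg Subtype.val (pow_card_eq_one' (x := a)))
      rw [hk', hk3'] at this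
      simpa using this)⟩
    have hf : Function.Bijective f := (Nat.bijective_iff_injective_and_card f).2
      ⟨fun a b e => Subtype.ext (Subtype.ext (congrArg (fun v : ↥U => (v : G)) e :)), by rw [hk', hk3', S.card_U]⟩
    obtain ⟨a, ha⟩ := hf.2 ⟨b, hb⟩
    have hab : ((a : ↥M) : G) = b := congrArg Subtype.val ha
    exact hab ▸ mem_CX.1 (Subgroup.mem_inf.1 (a : ↥M).2).2
  have hr : Nat.card φ.range ∣ 2 := by
    haveI : IsCyclic ↥Z := inferInstance
    have h10 : Nat.card φ.range ∣ 10 := by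
      refine (Subgroup.card_subgroup_dvd_card _).trans (dvd_of_eq ?_)
      rw [IsCyclic.card_mulAut, Nat.card_zpowers, S.hx, Nat.totient_prime (by norm_num)]
    have h5 : ¬ 5 ∣ Nat.card φ.range := fun hd5 => by
      haveI : Fact (Nat.Prime 5) := ⟨by norm_num⟩
      obtain ⟨a, ha⟩ := exists_prime_orderOf_dvd_card' (G := ↥M) 5 (hd5.trans (by
        rw [← Subgroup.index_ker]; exact Subgroup.index_dvd_card _))
      have hw1 : w ≠ 1 := fun e => hwx (e ▸ one_mem _)
      obtain ⟨k, -, hk'⟩ := (Nat.dvd_prime_pow (Fact.out : Nat.Prime 11)).1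
        (orderOf_dvd_of_pow_eq_one (h.U_pow S hw))
      have hk1 : k ≠ 0 := fun e => hw1 (orderOf_eq_one_iff.1 (by rw [hk', e, pow_zero]))
      exact not_commute_five h.nonab h.type (y := (a : G)) (by rw [Subgroup.orderOf_coe, ha])
        (orderOf_pow_orderOf_div (orderOf_pos w).ne' (hk' ▸ dvd_pow_self 11 hk1))
        ((mem_CX.1 (Subgroup.mem_inf.1 a.2).2).symm.pow_left _)
    exact Nat.Coprime.dvd_of_dvd_mul_left (m := 5)
      ((Nat.Prime.coprime_iff_not_dvd (by norm_num : Nat.Prime 5)).2 h5).symm (h10.trans (dvd_of_eq rfl))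
  rw [← φ.ker.card_mul_index, Subgroup.index_ker]
  exact (mul_dvd_mul hk hr).trans (dvd_of_eq rfl)

/-- All noncentral elements of `U` are conjugate in the normalizer. -/
theorem Hyp.conj_noncentral {w v : G} (hw : w ∈ U) (hwx : w ∉ Subgroup.zpowers x) (hv : v ∈ U)
    (hvx : v ∉ Subgroup.zpowers x) : ∃ g ∈ Subgroup.normalizer (U : Set G), g * w * g⁻¹ = v := by
  classical
  set N := Subgroup.normalizer (U : Set G)
  set C : Set G := {a | ∃ g ∈ N, g * w * g⁻¹ = a}
  set T : Set G := (U : Set G) \ (Subgroup.zpowers x : Set G)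
  have hC : C ⊆ T := by
    rintro a ⟨g, hg, rfl⟩
    refine ⟨(Subgroup.mem_normalizer_iff.1 hg w).1 hw, fun hm => hwx ?_⟩
    obtain ⟨-, hc⟩ := (h.center_eq S).2 hm
    refine (h.center_eq S).1 ⟨hw, fun b hb => ?_⟩
    have := hc (g * b * g⁻¹) ((Subgroup.mem_normalizer_iff.1 hg b).1 hb)
    exact commute_conj.1 this
  have hTc : T.ncard = 1320 := by
    have h1 := Set.ncard_sdiff_add_ncard_of_subset (show (Subgroup.zpowers x : Set G) ⊆ (U : Set G) from
      fun a ha => Subgroup.zpowers_le.2 (h.x_mem_U S) ha) (Set.toFinite _)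
    rw [← Nat.card_coe_set_eq (Subgroup.zpowers x : Set G), ← Nat.card_coe_set_eq (U : Set G)] at h1
    change T.ncard + Nat.card ↥(Subgroup.zpowers x) = Nat.card ↥U at h1
    rw [S.card_U, Nat.card_zpowers, S.hx] at h1
    omega
  have hCc : 1320 ≤ C.ncard := by
    let f : ↥N → C := fun g => ⟨(g : G) * w * (g : G)⁻¹, g, g.2, rfl⟩
    have hd := h.cent_noncentral S hw hwx
    set M := (N ⊓ CX w).subgroupOf N with hM
    let q : ↥N ⧸ M → C := Quotient.lift f fun a b hab => Subtype.ext (by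
      have h1 := (Subgroup.mem_inf.1 (Subgroup.mem_subgroupOf.1 (QuotientGroup.leftRel_apply.1 hab))).2
      have h2 : Commute ((a : G)⁻¹ * b) w := mem_CX.1 h1
      show (a : G) * w * (a : G)⁻¹ = (b : G) * w * (b : G)⁻¹
      rw [show (b : G) * w * (b : G)⁻¹ = (a : G) * (((a : G)⁻¹ * b) * w * ((a : G)⁻¹ * b)⁻¹) * (a : G)⁻¹ by group,
        h2.eq, mul_inv_cancel_right])
    have hq : Function.Injective q := by
      intro a b e
      induction a using QuotientGroup.induction_on with | H a =>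
      induction b using QuotientGroup.induction_on with | H b =>
      refine QuotientGroup.eq.2 (Subgroup.mem_subgroupOf.2 (Subgroup.mem_inf.2 ⟨(a⁻¹ * b : ↥N).2, mem_CX.2 ?_⟩))
      have e' : (a : G) * w * (a : G)⁻¹ = (b : G) * w * (b : G)⁻¹ := congrArg Subtype.val e
      refine (mul_inv_eq_iff_eq_mul.1 ?_)
      show (a : G)⁻¹ * b * w * ((a : G)⁻¹ * b)⁻¹ = w
      rw [show (a : G)⁻¹ * b * w * ((a : G)⁻¹ * b)⁻¹ = (a : G)⁻¹ * ((b : G) * w * (b : G)⁻¹) * a by group, ← e']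
      group
    have h1 := M.card_mul_index
    rw [h.card_N S, hM, Nat.card_congr (Subgroup.subgroupOfEquivOfLe (inf_le_left : N ⊓ CX w ≤ N)).toEquiv] at h1
    have h2 : (Subgroup.subgroupOf (N ⊓ CX w) N).index ≤ C.ncard := by
      rw [Subgroup.index_eq_card, ← Nat.card_coe_set_eq]
      exact Nat.card_le_card_of_injective q hq
    have h3 := Nat.le_of_dvd (by norm_num) hd
    have h4 := (Nat.mul_le_mul h3 h2).trans_eq' h1
    omega
  have e : C = T := Set.eq_of_subset_of_ncard_le hC (by rw [hTc]; exact hCc) (Set.toFinite _)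
  exact (e.symm ▸ (⟨hv, hvx⟩ : v ∈ T) : v ∈ C)

omit S in
theorem Hyp.not_conj_second {w : G} (hw : orderOf w = 11) (hwc : Nat.card ↥(CX w) = 242) {x : G} {U : Subgroup G}
    (S : Std z x U) {g : G} : g * w * g⁻¹ ∉ Subgroup.zpowers x := by
  intro hm
  have he : Subgroup.zpowers (g * w * g⁻¹) = Subgroup.zpowers x := Subgroup.eq_of_le_of_card_ge
    (Subgroup.zpowers_le.2 hm) (by rw [Nat.card_zpowers, Nat.card_zpowers, (orderOf_conj' g w).trans hw, S.hx])
  have e : CX (g * w * g⁻¹) = CX x := by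
    show Subgroup.centralizer _ = Subgroup.centralizer _
    rw [← Subgroup.centralizer_closure, ← Subgroup.zpowers_eq_closure, he, Subgroup.zpowers_eq_closure,
      Subgroup.centralizer_closure]
  have h1 : Nat.card ↥(CX (g * w * g⁻¹)) = Nat.card ↥(CX w) :=
    (Nat.card_congr (Equiv.subtypeEquiv (MulAut.conj g).toEquiv fun a => by
      rw [mem_CX, mem_CX]; exact commute_conj.symm)).symm
  rw [e, S.card_X, hwc] at h1
  norm_num at h1

/-- Every element of `U` has order dividing eleven. -/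
theorem Hyp.pow_eleven {a : G} (ha : a ∈ U) : a ^ 11 = 1 := by
  haveI : Fact (Nat.Prime 11) := ⟨by norm_num⟩
  by_cases hax : a ∈ Subgroup.zpowers x
  · obtain ⟨i, rfl⟩ := hax
    show (x ^ i) ^ 11 = 1
    rw [← zpow_natCast, ← zpow_mul, mul_comm, zpow_mul, zpow_natCast, ← S.hx, pow_orderOf_eq_one, one_zpow]
  obtain ⟨w, hw, hwc⟩ := h.exists_second_eleven
  obtain ⟨W, hW⟩ := (IsPGroup.of_card (n := 1) (by rw [Nat.card_zpowers, hw, pow_one]) :
    IsPGroup 11 (Subgroup.zpowers w)).exists_le_sylow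
  obtain ⟨T, hT⟩ := h.sylow_eq S
  obtain ⟨g, hg⟩ := MulAction.exists_smul_eq G W T
  have hm : g * w * g⁻¹ ∈ U := by
    rw [← hT, ← hg]
    exact Subgroup.smul_mem_pointwise_smul _ (MulAut.conj g) (W : Subgroup G) (hW (Subgroup.mem_zpowers w))
  obtain ⟨c, -, rfl⟩ := h.conj_noncentral S hm (h.not_conj_second hw hwc S) ha hax
  rw [conj_pow, conj_pow, ← hw, pow_orderOf_eq_one]
  simp

/-- Two classes of elements of order eleven. -/
theorem Hyp.two_classes_eleven :
    ∃ a b : G, orderOf a = 11 ∧ orderOf b = 11 ∧ ¬ IsConj a b ∧ ∀ w : G, orderOf w = 11 → IsConj w a ∨ IsConj w b := by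
  classical
  haveI : Fact (Nat.Prime 11) := ⟨by norm_num⟩
  obtain ⟨w, hw, hwc⟩ := h.exists_second_eleven
  obtain ⟨T, hT⟩ := h.sylow_eq S
  have intoU : ∀ {v : G}, orderOf v = 11 → ∃ g, g * v * g⁻¹ ∈ U := by
    intro v hv
    obtain ⟨W, hW⟩ := (IsPGroup.of_card (n := 1) (by rw [Nat.card_zpowers, hv, pow_one]) :
      IsPGroup 11 (Subgroup.zpowers v)).exists_le_sylow
    obtain ⟨g, hg⟩ := MulAction.exists_smul_eq G W T
    refine ⟨g, ?_⟩
    rw [← hT, ← hg]
    exact Subgroup.smul_mem_pointwise_smul _ (MulAut.conj g) (W : Subgroup G) (hW (Subgroup.mem_zpowers v))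
  obtain ⟨g0, hg0⟩ := intoU hw
  refine ⟨x, w, S.hx, hw, fun hc => ?_, fun v hv => ?_⟩
  · obtain ⟨g, hg⟩ := isConj_iff.1 hc.symm
    exact h.not_conj_second hw hwc S (g := g) (hg ▸ Subgroup.mem_zpowers x)
  · obtain ⟨g, hgv⟩ := intoU hv
    by_cases hc : g * v * g⁻¹ ∈ Subgroup.zpowers x
    · left
      obtain ⟨-, -, r, -, hr⟩ := z_data h.nonab h.type S.hx S.hxz
      have h1 : g * v * g⁻¹ ≠ 1 := fun e => by
        rw [conj_eq_one_iff] at e; rw [e, orderOf_one] at hv; norm_num at hv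
      obtain ⟨k, -, hk⟩ := isConj_pow_of_square S.hx hr hc h1
      refine isConj_iff.2 ⟨k⁻¹ * g, ?_⟩
      rw [show k⁻¹ * g * v * (k⁻¹ * g)⁻¹ = k⁻¹ * (g * v * g⁻¹) * k by group, ← hk]
      group
    · right
      obtain ⟨c, -, hc'⟩ := h.conj_noncentral S hgv hc hg0 (h.not_conj_second hw hwc S)
      refine isConj_iff.2 ⟨g0⁻¹ * c * g, ?_⟩
      rw [show g0⁻¹ * c * g * v * (g0⁻¹ * c * g)⁻¹ = g0⁻¹ * (c * (g * v * g⁻¹) * c⁻¹) * g0 by group, hc']
      group

end CfsgLib.JankoFour.Eleven
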