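import Cfsg.Agent.Lib.JankoFourEleven.ZLocal
import Cfsg.Agent.Lib.JankoFourSevenLocal.Second
import Cfsg.Agent.S5567

/-!
# An element of order eleven in the centralizer of an involution of the second class (owner: helper25)

Its centralizer there is cyclic of order 22, also in `N(V)`; some such element exists.
-/

set_option autoImplicit false
set_option linter.unusedSectionVars false

namespace CfsgLib.JankoFour.Eleven

open Cfsg CfsgLib.ThreeTrans CfsgLib.Sporadic

variable {G : Type*} [Group G] [Finite G] [IsSimpleGroup G]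

/-- The data for an involution `t` of the second class and a commuting element `x` of order eleven. -/
structure TData (t x : G) : Prop where
  card_eq : Nat.card ↥(CC t x) = 22
  inv_unique : ∀ u, Commute u t → Commute u x → u * u = 1 → u ≠ 1 → u = t
  exV : ∃ V : Subgroup G, IsElementaryAbelian 2 V ∧ Nat.card ↥V = 2 ^ 11 ∧ t ∈ V ∧
    Subgroup.centralizer ({t} : Set G) ≤ Subgroup.normalizer (V : Set G) ∧
    ∀ v ∈ V, Commute v x → v = 1 ∨ v = t

theorem second_facts (hG : ¬ IsMulCommutative G) {z : G} (hJ : IsOfJankoFourTypeAt z) {t : G}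
    (ht : orderOf t = 2) (hnc : ¬ IsConj z t) :
    Nat.card ↥(Subgroup.centralizer ({t} : Set G)) = 2 ^ 11 * 887040 := by
  obtain ⟨V, K, hVC, hKC, -, -, hVc, hKV, hKV', ⟨e⟩⟩ := Seven.second_centralizer' hG hJ ht hnc
  set C := Subgroup.centralizer ({t} : Set G)
  obtain ⟨V', π, -, hV', hπ⟩ : ∃ (V' : Subgroup G) (π : ↥C →* MulAut ↥Spor.M22),
      IsElementaryAbelian 2 V' ∧ Nat.card ↥V' = 2 ^ 11 ∧ ∀ c, π c = 1 ↔ (c : G) ∈ V' :=
    Seven.second_quot hG hJ ht hnc
  have hs : Nat.card π.range = 887040 ∧ Nat.card π.ker = 2 ^ 11 := by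
    have hk : Nat.card π.ker ≤ 2 ^ 11 := by
      rw [← hV']
      exact Nat.card_le_card_of_injective (fun a : π.ker => (⟨((a : ↥C) : G), (hπ _).1 (MonoidHom.mem_ker.1 a.2)⟩ : ↥V'))
        fun a b h => Subtype.ext (Subtype.ext (congrArg (fun v : ↥V' => (v : G)) h :))
    have hr : Nat.card π.range ≤ 887040 := card_mulAut ▸ Subgroup.card_le_card_group _
    have hge : 2 ^ 11 * 887040 ≤ Nat.card ↥C := by
      rw [← card_mulAut, ← hVc, ← Nat.card_congr e.toEquiv, ← Nat.card_prod]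
      refine Nat.card_le_card_of_injective (fun v : ↥V × ↥K => (⟨v.1 * v.2, mul_mem (hVC v.1.2) (hKC v.2.2)⟩ : ↥C)) ?_
      rintro ⟨v, k⟩ ⟨v', k'⟩ h
      have h' : (v : G) * k = v' * k' := congrArg Subtype.val h
      have h2 : (v' : G)⁻¹ * v ∈ K ⊓ V := Subgroup.mem_inf.2 ⟨by
        rw [show (v' : G)⁻¹ * v = k' * (k : G)⁻¹ by rw [eq_mul_inv_iff_mul_eq, mul_assoc, h', inv_mul_cancel_left]]
        exact mul_mem k'.2 (inv_mem k.2), mul_mem (inv_mem v'.2) v.2⟩
      rw [hKV, Subgroup.mem_bot, inv_mul_eq_one] at h2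
      obtain rfl : v' = v := Subtype.ext h2
      exact Prod.ext rfl (Subtype.ext (mul_left_cancel h'))
    have h := π.ker.card_mul_index
    rw [Subgroup.index_ker] at h
    rw [← h] at hge
    constructor
    · refine le_antisymm hr (Nat.le_of_mul_le_mul_left ?_ (by norm_num : 0 < 2 ^ 11))
      exact hge.trans (Nat.mul_le_mul_right _ hk)
    · refine le_antisymm hk (Nat.le_of_mul_le_mul_right ?_ (by norm_num : 0 < 887040))
      exact hge.trans (Nat.mul_le_mul_left _ hr)
  have h := π.ker.card_mul_index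
  rw [Subgroup.index_ker, hs.1, hs.2] at h
  exact h.symm

/-- The data for `C(t)`. -/
theorem t_data (hG : ¬ IsMulCommutative G) {z : G} (hJ : IsOfJankoFourTypeAt z) {t : G}
    (ht : orderOf t = 2) (hnc : ¬ IsConj z t) {x : G} (hx : orderOf x = 11) (hxt : Commute x t) :
    TData t x ∧ ∃ g, Commute g t ∧ g * x * g⁻¹ = x ^ 2 := by
  classical
  haveI : Fact (Nat.Prime 11) := ⟨by norm_num⟩
  haveI : Fact (Nat.Prime 2) := ⟨Nat.prime_two⟩
  obtain ⟨V, K, hVC, hKC, hCN, hV, hVc, hKV, hKV', ⟨eK⟩⟩ := Seven.second_centralizer' hG hJ ht hnc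
  set C := Subgroup.centralizer ({t} : Set G)
  haveI : (V.subgroupOf C).Normal := (Subgroup.normal_subgroupOf_iff_le_normalizer hVC).2 hCN
  let π0 : ↥K →* ↥C ⧸ V.subgroupOf C := (QuotientGroup.mk' _).comp (Subgroup.inclusion hKC)
  have hb : Function.Bijective π0 := by
    refine ⟨(injective_iff_map_eq_one _).2 fun k hk => ?_, fun c => ?_⟩
    · have h1 : (k : G) ∈ V := Subgroup.mem_subgroupOf.1
        ((QuotientGroup.eq_one_iff (N := V.subgroupOf C) (Subgroup.inclusion hKC k)).1 hk)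
      have h2 : (k : G) ∈ K ⊓ V := ⟨k.2, h1⟩
      rw [hKV] at h2
      exact Subtype.ext (Subgroup.mem_bot.1 h2)
    · induction c using QuotientGroup.induction_on with | H c =>
      obtain ⟨k, hk, v, hv, hkv⟩ :=
        (CfsgLib.Core.mem_sup_iff_mul (hKC.trans hCN)).1 (hKV'.symm ▸ c.2 : (c : G) ∈ K ⊔ V)
      refine ⟨⟨k, hk⟩, QuotientGroup.eq.2 ?_⟩
      show k⁻¹ * (c : G) ∈ V
      rw [hkv, inv_mul_cancel_left]; exact hv
  let q := MulEquiv.ofBijective π0 hb
  let π : ↥C →* MulAut ↥Spor.M22 := eK.toMonoidHom.comp (q.symm.toMonoidHom.comp (QuotientGroup.mk' _))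
  have hker : π.ker = V.subgroupOf C := by
    ext c
    rw [MonoidHom.mem_ker]
    show eK (q.symm (QuotientGroup.mk' _ c)) = 1 ↔ _
    rw [MulEquiv.map_eq_one_iff, MulEquiv.map_eq_one_iff, QuotientGroup.mk'_apply, QuotientGroup.eq_one_iff]
  have hsurj : Function.Surjective π :=
    eK.surjective.comp (q.symm.surjective.comp (QuotientGroup.mk'_surjective _))
  have hkc : Nat.card π.ker = 2 ^ 11 := by
    rw [hker, Nat.card_congr (Subgroup.subgroupOfEquivOfLe hVC).toEquiv, hVc]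
  have hk11 : ¬ 11 ∣ Nat.card π.ker := by rw [hkc]; norm_num
  set x' : ↥C := ⟨x, mem_centralizer_singleton_iff'.2 hxt.eq⟩
  have hx' : orderOf x' = 11 := by rw [← Subgroup.orderOf_coe]; exact hx
  have hπx := orderOf_image hx' hk11
  obtain ⟨hA, g0, hg0⟩ := aut_eleven hπx
  have hx11 : x ^ 11 = 1 := hx ▸ pow_orderOf_eq_one x
  -- `t` lies in `V`
  set t' : ↥C := ⟨t, mem_centralizer_singleton_iff'.2 rfl⟩
  have htV : t ∈ V := by
    obtain ⟨i, hi⟩ := hA (π t') ((show Commute t' x' from Subtype.ext hxt.symm.eq).map π)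
    have h1 : π t' = 1 := by
      refine orderOf_eq_one_iff.1 (Nat.eq_one_of_dvd_coprimes (a := 2) (b := 11) (by norm_num)
        (orderOf_dvd_of_pow_eq_one ?_) ?_)
      · rw [← map_pow, show t' ^ 2 = 1 from Subtype.ext (by rw [Subgroup.coe_pow, ← ht, pow_orderOf_eq_one, Subgroup.coe_one]),
          map_one]
      · rw [← hi, ← hπx]
        exact orderOf_dvd_of_mem_zpowers (zpow_mem (Subgroup.mem_zpowers _) i)
    exact Subgroup.mem_subgroupOf.1 (hker ▸ (MonoidHom.mem_ker.2 h1) : t' ∈ V.subgroupOf C)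
  -- the fixed points in `V`
  have hVx : ∀ v ∈ V, x * v * x⁻¹ ∈ V := fun v hv =>
    (Subgroup.mem_normalizer_iff.1 (hCN x'.2) v).1 hv
  set F := V ⊓ Subgroup.centralizer ({x} : Set G) with hF
  have htF : t ∈ F := ⟨htV, mem_centralizer_singleton_iff'.2 hxt.symm.eq⟩
  have hFc : Nat.card ↥F = 2 := by
    have h := card_inf_cent_modEq hx11 hVx
    rw [hVc] at h
    obtain ⟨k, hk⟩ := IsPGroup.iff_card.1 ((IsPGroup.of_card hVc).to_le (inf_le_left : F ≤ V))
    rw [hk] at h ⊢
    have hk11' : k ≤ 11 := (Nat.pow_dvd_pow_iff_le_right (le_refl 2)).1 (by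
      rw [← hk, ← hVc]; exact Subgroup.card_dvd_of_le inf_le_left)
    have key : ∀ k ≤ 11, 2048 % 11 = 2 ^ k % 11 → k = 1 ∨ k = 11 := by decide
    rcases key k hk11' h with rfl | rfl
    · norm_num
    · exfalso
      have : F = V := Subgroup.eq_of_le_of_card_ge inf_le_left (by rw [hk, hVc])
      have hxC : x ∈ Subgroup.centralizer (V : Set G) := Subgroup.mem_centralizer_iff.2 fun a ha =>
        (mem_centralizer_singleton_iff'.1 ((this ▸ ha : a ∈ F) : a ∈ V ⊓ _).2)
      have hxV : x ∈ V := (Cfsg.Agent.S5567.result hG ⟨z, hJ⟩ V hV hVc).1 hxC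
      have := orderOf_dvd_natCard (⟨x, hxV⟩ : V)
      rw [← Subgroup.orderOf_coe, hx, hVc] at this
      norm_num at this
  have hfix : ∀ v ∈ V, Commute v x → v = 1 ∨ v = t := by
    intro v hv hvx
    refine mem_zpowers_of_order_two ht ?_
    have e : Subgroup.zpowers t = F :=
      Subgroup.eq_of_le_of_card_ge (Subgroup.zpowers_le.2 htF) (by rw [hFc, Nat.card_zpowers, ht])
    rw [e]
    exact ⟨hv, mem_centralizer_singleton_iff'.2 hvx.eq⟩
  refine ⟨⟨?_, fun u hut hux hu2 hu1 => ?_, V, hV, hVc, htV, hCN, hfix⟩, ?_⟩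
  · have hkx : Nat.card ↥(π.ker ⊓ Subgroup.centralizer ({x'} : Set ↥C)) = 2 := by
      rw [← hFc, hker]
      exact Nat.card_congr
        { toFun := fun a => ⟨((a : ↥C) : G), Subgroup.mem_subgroupOf.1 a.2.1,
            mem_centralizer_singleton_iff'.2 (congrArg Subtype.val (mem_centralizer_singleton_iff'.1 a.2.2))⟩
          invFun := fun a => ⟨⟨a, hVC a.2.1⟩, Subgroup.mem_subgroupOf.2 a.2.1,
            mem_centralizer_singleton_iff'.2 (Subtype.ext (mem_centralizer_singleton_iff'.1 a.2.2))⟩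
          left_inv := fun _ => rfl
          right_inv := fun _ => rfl }
    rw [show 22 = 11 * 2 from rfl, ← hkx, ← cover_card π hA hπx]
    exact Nat.card_congr
      { toFun := fun a => ⟨⟨a, a.2.1⟩, mem_centralizer_singleton_iff'.2 (Subtype.ext (mem_CC.1 a.2).2.eq)⟩
        invFun := fun a => ⟨((a : ↥C) : G), (a : ↥C).2,
          mem_centralizer_singleton_iff'.2 (congrArg Subtype.val (mem_centralizer_singleton_iff'.1 a.2))⟩
        left_inv := fun _ => rfl
        right_inv := fun _ => rfl }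
  · set u' : ↥C := ⟨u, mem_centralizer_singleton_iff'.2 hut.eq⟩
    obtain ⟨i, hi⟩ := hA (π u') ((show Commute u' x' from Subtype.ext hux.eq).map π)
    have h1 : π u' = 1 := by
      refine orderOf_eq_one_iff.1 (Nat.eq_one_of_dvd_coprimes (a := 2) (b := 11) (by norm_num)
        (orderOf_dvd_of_pow_eq_one ?_) ?_)
      · rw [← map_pow, show u' ^ 2 = 1 from Subtype.ext (by rw [Subgroup.coe_pow, pow_two]; exact hu2), map_one]
      · rw [← hi, ← hπx]
        exact orderOf_dvd_of_mem_zpowers (zpow_mem (Subgroup.mem_zpowers _) i)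
    exact (hfix u (Subgroup.mem_subgroupOf.1 (hker ▸ (MonoidHom.mem_ker.2 h1) : u' ∈ V.subgroupOf C)) hux).resolve_left hu1
  · obtain ⟨g, hgπ⟩ := hsurj g0
    obtain ⟨k, -, hk⟩ := exists_conj_lift π hx' hk11 (g := g) (j := 2) (by rw [hgπ]; exact hg0)
    exact ⟨((k * g : ↥C) : G), mem_centralizer_singleton_iff'.1 (k * g).2, by simpa using congrArg Subtype.val hk⟩

end CfsgLib.JankoFour.Eleven
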