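import Cfsg.Agent.Lib.JankoFourEleven.Mathieu
import Cfsg.Agent.Lib.ThreeTrans.LargeCriteria
import Cfsg.Agent.S5563

/-!
# An element of order eleven in `C(z)` (owner: helper25)

Its centralizer there has order 264 with `z` as only involution; it meets `E` in a quaternion group of order
eight, on which an element of order three acts without fixed points modulo `z`.
-/

set_option autoImplicit false
set_option linter.unusedSectionVars false

namespace CfsgLib.JankoFour.Eleven

open Cfsg CfsgLib.ThreeTrans CfsgLib.Sporadic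

variable {G : Type*} [Group G] [Finite G]

/-- The centralizer of two elements. -/
abbrev CC (a b : G) : Subgroup G := Subgroup.centralizer ({a} : Set G) ⊓ Subgroup.centralizer ({b} : Set G)

theorem mem_CC {a b g : G} : g ∈ CC a b ↔ Commute g a ∧ Commute g b :=
  Subgroup.mem_inf.trans (and_congr mem_centralizer_singleton_iff' mem_centralizer_singleton_iff')

theorem card_mulAut : Nat.card (MulAut ↥Spor.M22) = 887040 := by
  obtain ⟨e⟩ := nonempty_pairGroup_equiv
  rw [← Nat.card_congr e.toEquiv, Hexad22.card_pairGroup]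

/-- The data at `z` of a commuting element of order eleven. -/
structure ZData (z x : G) : Prop where
  card_eq : Nat.card ↥(CC z x) = 264
  inv_unique : ∀ u, Commute u z → Commute u x → u * u = 1 → u ≠ 1 → u = z
  quat : ∃ Q : Subgroup G, Q ≤ CC z x ∧ Nat.card ↥Q = 8 ∧ z ∈ Q ∧
    (∀ i ∈ Q, i ∉ Subgroup.zpowers z → i * i = z) ∧
    (∀ g, Commute g z → g * x * g⁻¹ ∈ Subgroup.zpowers x → ∀ q ∈ Q, g * q * g⁻¹ ∈ Q) ∧
    ∃ y, orderOf y = 3 ∧ y ∈ CC z x ∧ (∀ g, Commute g y → Commute g z) ∧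
      ∀ q ∈ Q, Commute q y → q ∈ Subgroup.zpowers z

theorem quat_commutator {z : G} (hz : z * z = 1) {Q : Subgroup G} (hc : Nat.card ↥Q = 8) (hzQ : z ∈ Q)
    (hzc : ∀ i ∈ Q, Commute i z) (hsq : ∀ i ∈ Q, i ∉ Subgroup.zpowers z → i * i = z) :
    ∃ i ∈ Q, ∃ j ∈ Q, i * j * i⁻¹ * j⁻¹ = z := by
  classical
  by_cases hz1 : z = 1
  · exact ⟨z, hzQ, z, hzQ, by subst hz1; simp⟩
  have hzp : ∀ {a : G}, a ∈ Subgroup.zpowers z → a = 1 ∨ a = z := fun ha =>
    mem_zpowers_of_order_two (orderOf_eq_prime (by rw [pow_two, hz]) hz1) ha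
  have hout : ∀ F : Finset G, F.card ≤ 7 → ∃ u ∈ Q, u ∉ F := by
    intro F hF
    by_contra hno
    simp only [not_exists, not_and, not_not] at hno
    have h := Set.ncard_le_ncard (show (Q : Set G) ⊆ (F : Set G) from hno) F.finite_toSet
    rw [Set.ncard_coe_finset, ← Nat.card_coe_set_eq] at h
    change Nat.card ↥Q ≤ _ at h
    omega
  obtain ⟨i, hi, hiF⟩ := hout {1, z} (Finset.card_le_two.trans (by norm_num))
  simp only [Finset.mem_insert, Finset.mem_singleton, not_or] at hiF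
  obtain ⟨j, hj, hjF⟩ := hout {1, z, i, i * z} (Finset.card_le_four.trans (by norm_num))
  simp only [Finset.mem_insert, Finset.mem_singleton, not_or] at hjF
  have hi2 : i * i = z := hsq i hi fun h => (hzp h).elim hiF.1 hiF.2
  have hj2 : j * j = z := hsq j hj fun h => (hzp h).elim hjF.1 hjF.2.1
  have hii : i⁻¹ = i * z := inv_eq_of_mul_eq_one_right (by rw [← mul_assoc, hi2, hz])
  have hij : i * j * (i * j) = z := hsq _ (mul_mem hi hj) fun h => by
    rcases hzp h with e | e
    · exact hjF.2.2.2 (by rw [← hii]; exact (inv_eq_of_mul_eq_one_right e).symm)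
    · exact hjF.2.2.1 (mul_left_cancel (e.trans hi2.symm))
  refine ⟨i, hi, j, hj, ?_⟩
  have hjj : j⁻¹ = j * z := inv_eq_of_mul_eq_one_right (by rw [← mul_assoc, hj2, hz])
  calc i * j * i⁻¹ * j⁻¹ = i * j * (i * z) * (j * z) := by rw [hii, hjj]
    _ = i * j * i * (z * j) * z := by group
    _ = i * j * (i * j) * (z * z) := by rw [(hzc j hj).symm.eq]; group
    _ = z := by rw [hij, hz, mul_one]

variable [IsSimpleGroup G]

/-- The data for `C(z)`. -/
theorem z_data (hG : ¬ IsMulCommutative G) {z : G} (hJ : IsOfJankoFourTypeAt z) {x : G} (hx : orderOf x = 11)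
    (hxz : Commute x z) :
    ZData z x ∧ Nat.card ↥(Subgroup.centralizer ({z} : Set G)) = 3 * 2 ^ 13 * 887040 ∧
      ∃ g, Commute g z ∧ g * x * g⁻¹ = x ^ 2 := by
  classical
  obtain ⟨P, hP⟩ := hJ
  have hNP : Subgroup.normalizer (P : Set G) ≤ Subgroup.centralizer ({z} : Set G) :=
    (Cfsg.Agent.S5563.result hG z P hP).2.2.2.2
  haveI : Fact (Nat.Prime 2) := ⟨Nat.prime_two⟩
  haveI : Fact (Nat.Prime 3) := ⟨Nat.prime_three⟩
  haveI : Fact (Nat.Prime 11) := ⟨by norm_num⟩
  obtain ⟨hz, hE, hEc, hCE, ⟨N, hEN, hNH, hHN, hNc, ⟨hn, ⟨e⟩⟩, hPN⟩, hPc, hCP, -, -⟩ := hP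
  set E := twoCoreOfCentralizer z with hEdef
  set H := Subgroup.centralizer ({z} : Set G) with hHdef
  have hEH : E ≤ H := Subgroup.map_subtype_le _
  have hHE : H ≤ Subgroup.normalizer (E : Set G) := by
    refine Subgroup.normal_subgroupOf_iff_le_normalizer hEH |>.1 ?_
    rw [hEdef, twoCoreOfCentralizer, Subgroup.subgroupOf, Subgroup.comap_map_eq_self_of_injective
      H.subtype_injective]
    exact inferInstance
  have hzE : z ∈ E := (hCP ▸ Subgroup.mem_zpowers z : z ∈ E ⊓ _).1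
  have hcz : ∀ a ∈ E, Commute a z := fun a ha => mem_centralizer_singleton_iff'.1 (hEH ha)
  have hcenter : (Subgroup.center E).map E.subtype = Subgroup.zpowers z := by
    have hzc : z ∈ (Subgroup.center E).map E.subtype := Subgroup.mem_map.2 ⟨⟨z, hzE⟩,
      Subgroup.mem_center_iff.2 fun a => Subtype.ext (hcz a a.2).eq, rfl⟩
    refine (Subgroup.eq_of_le_of_card_ge (Subgroup.zpowers_le.2 hzc) ?_).symm
    rw [Subgroup.card_subtype, hE.2, Nat.card_zpowers, hz]
  have hcent : Subgroup.centralizer (E : Set G) = Subgroup.zpowers z := by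
    refine le_antisymm (fun c hc => ?_) (Subgroup.zpowers_le.2 ?_)
    · have hcH : c ∈ H := mem_centralizer_singleton_iff'.2 (Subgroup.mem_centralizer_iff.1 hc z hzE).symm
      rw [← hcenter]
      exact ⟨⟨c, hCE ⟨hcH, hc⟩⟩, Subgroup.mem_center_iff.2 fun a =>
        Subtype.ext (Subgroup.mem_centralizer_iff.1 hc a a.2), rfl⟩
    · rw [Subgroup.mem_centralizer_iff]; exact fun a ha => (hcz a ha).eq
  have L : LargeData z E := ⟨hz, hE, hcenter, hcent, hHE⟩
  have hxH : x ∈ H := mem_centralizer_singleton_iff'.2 hxz.eq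
  have hx11 : x ^ 11 = 1 := hx ▸ pow_orderOf_eq_one x
  have hEx : ∀ a ∈ E, x * a * x⁻¹ ∈ E := fun a ha => (Subgroup.mem_normalizer_iff.1 (hHE hxH) a).1 ha
  -- the fixed points in `E`
  set Q := E ⊓ Subgroup.centralizer ({x} : Set G) with hQdef
  have hmQ : ∀ {a}, a ∈ Q ↔ a ∈ E ∧ Commute a x := fun {a} =>
    Subgroup.mem_inf.trans (and_congr_right fun _ => mem_centralizer_singleton_iff')
  have hQ8 : Nat.card ↥Q = 8 := by
    have h := card_inf_cent_modEq hx11 hEx
    rw [hEc] at h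
    have hQp : IsPGroup 2 ↥Q := (IsPGroup.of_card hEc).to_le inf_le_left
    obtain ⟨k, hk⟩ := IsPGroup.iff_card.1 hQp
    rw [hk] at h ⊢
    have hk13 : k ≤ 13 := (Nat.pow_dvd_pow_iff_le_right (le_refl 2)).1 (by
      rw [← hk, ← hEc]; exact Subgroup.card_dvd_of_le inf_le_left)
    have key : ∀ k ≤ 13, 8192 % 11 = 2 ^ k % 11 → k = 3 ∨ k = 13 := by decide
    rcases key k hk13 h with rfl | rfl
    · norm_num
    · exfalso
      have : Q = E := Subgroup.eq_of_le_of_card_ge inf_le_left (by rw [hk, hEc])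
      have hxC : x ∈ Subgroup.centralizer (E : Set G) := Subgroup.mem_centralizer_iff.2 fun a ha =>
        (hmQ.1 (this ▸ ha : a ∈ Q)).2.eq
      rw [hcent] at hxC
      have := orderOf_dvd_of_mem_zpowers hxC
      rw [hx, hz] at this
      norm_num at this
  have hzQ : z ∈ Q := hmQ.2 ⟨hzE, hxz.symm⟩
  -- the quotient
  let π : ↥H →* MulAut ↥Spor.M22 := e.toMonoidHom.comp (QuotientGroup.mk' (N.subgroupOf H))
  have hker : π.ker = N.subgroupOf H := by
    ext a
    rw [MonoidHom.mem_ker]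
    show e (QuotientGroup.mk' (N.subgroupOf H) a) = 1 ↔ _
    rw [MulEquiv.map_eq_one_iff, QuotientGroup.mk'_apply, QuotientGroup.eq_one_iff]
  have hkc : Nat.card π.ker = 3 * 2 ^ 13 := by
    rw [hker, Nat.card_congr (Subgroup.subgroupOfEquivOfLe hNH).toEquiv, hNc, hEc]
  have hHc : Nat.card ↥H = 3 * 2 ^ 13 * 887040 := by
    have hs : Function.Surjective π := e.surjective.comp (QuotientGroup.mk'_surjective _)
    have h := π.ker.card_mul_index
    rw [Subgroup.index_ker, MonoidHom.range_eq_top.2 hs, Subgroup.card_top, card_mulAut, hkc] at h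
    exact h.symm
  have hk11 : ¬ 11 ∣ Nat.card π.ker := by rw [hkc]; norm_num
  set x' : ↥H := ⟨x, hxH⟩
  have hx' : orderOf x' = 11 := by rw [← Subgroup.orderOf_coe]; exact hx
  have hπx := orderOf_image hx' hk11
  obtain ⟨hA, g0, hg0⟩ := aut_eleven hπx
  -- an element of order three
  obtain ⟨p, hp⟩ := exists_prime_orderOf_dvd_card' (G := ↥P) 3 (by rw [hPc])
  have hp3 : orderOf (p : G) = 3 := by rw [Subgroup.orderOf_coe, hp]
  have hpE : (p : G) ∉ E := fun h => by
    have := orderOf_dvd_natCard (⟨p, h⟩ : E)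
    rw [← Subgroup.orderOf_coe, hp3, hEc] at this
    norm_num at this
  have hmul : ∀ a b : G, a ∈ N → b ∈ E → x * (a * b) * x⁻¹ = (x * a * x⁻¹) * (x * b * x⁻¹) := fun a b _ _ => by group
  have hNn : ∀ a ∈ N, a ∈ Subgroup.normalizer (E : Set G) := fun a ha => hHE (hNH ha)
  have hEn : (E.subgroupOf N).Normal := (Subgroup.normal_subgroupOf_iff_le_normalizer hEN).2 hNn
  have hidx : (E.subgroupOf N).index = 3 := by
    have h := (E.subgroupOf N).card_mul_index
    rw [Nat.card_congr (Subgroup.subgroupOfEquivOfLe hEN).toEquiv, hNc, mul_comm 3 _] at h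
    exact Nat.eq_of_mul_eq_mul_left Nat.card_pos h
  have hxN : ∀ a ∈ N, x * a * x⁻¹ ∈ N := fun a ha => (Subgroup.mem_normalizer_iff.1 (hHN hxH) a).1 ha
  let q : ↥N →* ↥N ⧸ E.subgroupOf N := QuotientGroup.mk' _
  have hq : ∀ a : N, q a = 1 ↔ (a : G) ∈ E := fun a => by
    rw [QuotientGroup.mk'_apply, QuotientGroup.eq_one_iff, Subgroup.mem_subgroupOf]
  have hQc : Nat.card (↥N ⧸ E.subgroupOf N) = 3 := by rw [← Subgroup.index_eq_card]; exact hidx
  have hfixq : ∀ a : N, q ⟨x * a * x⁻¹, hxN a a.2⟩ = q a := by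
    intro a
    let σ : (↥N ⧸ E.subgroupOf N) →* (↥N ⧸ E.subgroupOf N) :=
      QuotientGroup.map (E.subgroupOf N) (E.subgroupOf N)
        { toFun := fun b => ⟨x * b * x⁻¹, hxN b b.2⟩
          map_one' := Subtype.ext (by simp)
          map_mul' := fun b c => Subtype.ext (by show x * (b * c : G) * x⁻¹ = _ * _; group) }
        (fun b hb => Subgroup.mem_comap.2 (Subgroup.mem_subgroupOf.2 (hEx b (Subgroup.mem_subgroupOf.1 hb))))
    show σ (q a) = q a
    have hit : ∀ (k : ℕ) (b : N), (σ ^[k]) (q b) = q ⟨x ^ k * b * (x ^ k)⁻¹, by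
        have : x ^ k ∈ Subgroup.normalizer (N : Set G) := pow_mem (hHN hxH) k
        exact (Subgroup.mem_normalizer_iff.1 this b).1 b.2⟩ := by
      intro k
      induction k with
      | zero => intro b; exact congrArg q (Subtype.ext (by simp))
      | succ k ih =>
        intro b
        rw [Function.iterate_succ_apply', ih]
        exact congrArg q (Subtype.ext (by
          show x * (x ^ k * (b : G) * (x ^ k)⁻¹) * x⁻¹ = x ^ (k + 1) * (b : G) * (x ^ (k + 1))⁻¹
          rw [pow_succ']; group))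
    have h11 : ∀ v, (σ^[11]) v = v := fun v => by
      obtain ⟨b, rfl⟩ := QuotientGroup.mk'_surjective _ v
      refine (hit 11 b).trans (congrArg q (Subtype.ext ?_))
      show x ^ 11 * (b : G) * (x ^ 11)⁻¹ = b
      rw [hx11]; simp
    -- an automorphism of a group of order three has order at most two
    have hcyc : IsCyclic (↥N ⧸ E.subgroupOf N) := isCyclic_of_prime_card hQc
    obtain ⟨m, hm⟩ := MonoidHom.map_cyclic σ
    have hpow : ∀ (k : ℕ) v, (σ^[k]) v = v ^ (m ^ k) := by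
      intro k
      induction k with
      | zero => intro v; simp
      | succ k ih => intro v; rw [Function.iterate_succ_apply', ih, map_zpow, hm, ← zpow_mul, pow_succ']
    have h3 : ∀ v : ↥N ⧸ E.subgroupOf N, v ^ (3 : ℤ) = 1 := fun v => by
      rw [show (3 : ℤ) = ((3 : ℕ) : ℤ) from rfl, zpow_natCast, ← hQc, pow_card_eq_one']
    by_cases h1 : q a = 1
    · rw [h1, map_one]
    rw [hm]
    have hord : orderOf (q a) = 3 := orderOf_eq_prime (by rw [← zpow_natCast]; exact h3 _) h1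
    have he : (q a) ^ (m ^ 11) = q a := (hpow 11 _).symm.trans (h11 _)
    conv_rhs at he => rw [← zpow_one (q a)]
    rw [zpow_eq_zpow_iff_modEq, hord] at he
    conv_rhs => rw [← zpow_one (q a)]
    rw [zpow_eq_zpow_iff_modEq, hord]
    have key : ∀ r : ℤ, 0 ≤ r → r < 3 → r ^ 11 % 3 = 1 % 3 → r % 3 = 1 % 3 := by
      intro r h0 h3 h
      interval_cases r <;> simp_all
    have hmod : (m % 3) ^ 11 % 3 = 1 % 3 := ((Int.mod_modEq m 3).pow 11).trans he
    have := key _ (Int.emod_nonneg m (by norm_num)) (Int.emod_lt_of_pos m (by norm_num)) hmod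
    rwa [Int.emod_emod_of_dvd _ (dvd_refl 3)] at this
  -- the coset of `p`
  set pN : N := ⟨p, hPN p.2⟩
  set s : Set G := {a | ∃ h : a ∈ N, q ⟨a, h⟩ = q pN} with hs
  have hsx : ∀ a ∈ s, x * a * x⁻¹ ∈ s := by
    rintro a ⟨h, ha⟩
    exact ⟨hxN a h, (hfixq ⟨a, h⟩).trans ha⟩
  have hscard : s.ncard = 2 ^ 13 := by
    rw [← hEc, ← Nat.card_coe_set_eq]
    refine Nat.card_congr
      { toFun := fun a => ⟨(p : G)⁻¹ * a, by
          obtain ⟨h, ha⟩ := a.2
          exact (hq (pN⁻¹ * ⟨a, h⟩)).1 (by rw [map_mul, map_inv, ha, inv_mul_cancel])⟩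
        invFun := fun b => ⟨(p : G) * b, mul_mem (hPN p.2) (hEN b.2), by
          show q (pN * ⟨b, hEN b.2⟩) = _
          rw [map_mul, (hq ⟨b, hEN b.2⟩).2 b.2, mul_one]⟩
        left_inv := fun a => Subtype.ext (mul_inv_cancel_left _ _)
        right_inv := fun b => Subtype.ext (inv_mul_cancel_left _ _) }
  obtain ⟨a, ⟨haN, hqa⟩, hax⟩ := exists_fixed hx11 hsx (by rw [hscard]; norm_num)
  have hqa1 : q ⟨a, haN⟩ ≠ 1 := fun h => hpE ((hq pN).1 (hqa ▸ h))
  obtain ⟨k, hk⟩ : ∃ k, orderOf (q ⟨a, haN⟩) * k = orderOf (⟨a, haN⟩ : N) := ⟨_, (Nat.mul_div_cancel'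
    (orderOf_map_dvd q _))⟩
  have hqo : orderOf (q ⟨a, haN⟩) = 3 := by
    refine ((Nat.dvd_prime Nat.prime_three).1 (hQc ▸ orderOf_dvd_natCard _)).resolve_left fun h => hqa1 ?_
    exact orderOf_eq_one_iff.1 h
  rw [hqo] at hk
  set y : G := a ^ k with hy
  have hy3 : orderOf y = 3 := by
    rw [hy, show a = ((⟨a, haN⟩ : N) : G) from rfl, ← Subgroup.coe_pow, Subgroup.orderOf_coe,
      orderOf_pow_of_dvd (fun h0 => by rw [h0, mul_zero] at hk; exact (orderOf_pos _).ne' hk.symm)
        ⟨3, by rw [mul_comm]; exact hk.symm⟩, ← hk, Nat.mul_div_left 3 (Nat.pos_of_ne_zero fun h0 => by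
        rw [h0, mul_zero] at hk; exact (orderOf_pos _).ne' hk.symm)]
  have hyN : y ∈ N := pow_mem haN k
  have hyx : Commute y x := hax.pow_left k
  have hyz : Commute y z := mem_centralizer_singleton_iff'.1 (hNH hyN)
  -- conjugate to a generator of `P`
  have hfac : (Nat.card ↥N).factorization 3 = 1 := by
    rw [hNc, hEc, Nat.factorization_mul (by norm_num) (by norm_num), Finsupp.add_apply,
      Nat.Prime.factorization_self Nat.prime_three, Nat.factorization_eq_zero_of_not_dvd (by norm_num)]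
  let Y : Sylow 3 N := Sylow.ofCard (Subgroup.zpowers ⟨y, hyN⟩)
    (by rw [Nat.card_zpowers, ← Subgroup.orderOf_coe, hy3, hfac, pow_one])
  let P3 : Sylow 3 N := Sylow.ofCard (P.subgroupOf N)
    (by rw [Nat.card_congr (Subgroup.subgroupOfEquivOfLe hPN).toEquiv, hPc, hfac, pow_one])
  obtain ⟨n, hn'⟩ := MulAction.exists_smul_eq N Y P3
  have hnz : Commute (n : G) z := mem_centralizer_singleton_iff'.1 (hNH n.2)
  have hmem : ∀ {w : G}, w ∈ P ↔ (n : G)⁻¹ * w * n ∈ Subgroup.zpowers y := by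
    intro w
    constructor
    · intro hw
      have h1 : (⟨w, hPN hw⟩ : N) ∈ ((n • Y : Sylow 3 N) : Subgroup N) := by
        rw [hn', Sylow.coe_ofCard]; exact hw
      rw [Sylow.coe_subgroup_smul, Sylow.coe_ofCard, CfsgLib.Core.conj_smul_eq_map] at h1
      obtain ⟨v, hv, hvw⟩ := h1
      obtain ⟨i, hi⟩ := hv
      refine ⟨i, ?_⟩
      have h2 : (n : G) * y ^ i * (n : G)⁻¹ = w := by
        have := congrArg Subtype.val hvw
        rw [← hi] at this
        simpa using this
      show y ^ i = _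
      rw [← h2]; group
    · rintro ⟨i, hi⟩
      have h1 : n * ⟨y, hyN⟩ ^ i * n⁻¹ ∈ (P3 : Subgroup N) := by
        rw [← hn']
        exact Subgroup.smul_mem_pointwise_smul _ (MulAut.conj n) (Y : Subgroup N)
          (by rw [Sylow.coe_ofCard]; exact zpow_mem (Subgroup.mem_zpowers _) i)
      rw [Sylow.coe_ofCard, Subgroup.mem_subgroupOf] at h1
      have hi' : y ^ i = (n : G)⁻¹ * w * n := hi
      rw [Subgroup.coe_mul, Subgroup.coe_mul, Subgroup.coe_inv, Subgroup.coe_zpow] at h1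
      rw [show w = (n : G) * y ^ i * (n : G)⁻¹ by rw [hi']; group]
      exact h1
  have hCy : ∀ g, Commute g y → Commute g z := by
    intro g hg
    have h1 : (n : G) * g * (n : G)⁻¹ ∈ Subgroup.centralizer ({z} : Set G) := hNP (by
      refine Subgroup.mem_normalizer_iff.2 fun w => ?_
      rw [hmem, hmem]
      have key : (n : G)⁻¹ * ((n : G) * g * (n : G)⁻¹ * w * ((n : G) * g * (n : G)⁻¹)⁻¹) * n =
          g * ((n : G)⁻¹ * w * n) * g⁻¹ := by group
      rw [key]
      constructor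
      · rintro ⟨i, hi⟩
        exact ⟨i, by show y ^ i = _; rw [← (show y ^ i = _ from hi), (hg.zpow_right i).eq, mul_inv_cancel_right]⟩
      · rintro ⟨i, hi⟩
        refine ⟨i, ?_⟩
        have hi' : y ^ i = g * ((n : G)⁻¹ * w * n) * g⁻¹ := hi
        have h2 := (hg.zpow_right i).inv_left.eq
        show y ^ i = _
        rw [show y ^ i = g⁻¹ * y ^ i * g by rw [h2, inv_mul_cancel_right], hi']
        group)
    have h2 := mem_centralizer_singleton_iff'.1 h1
    have := ((hnz.inv_left).mul_left h2).mul_left hnz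
    rwa [show (n : G)⁻¹ * ((n : G) * g * (n : G)⁻¹) * n = g by group] at this
  have hCEy : ∀ b ∈ E, Commute b y → b ∈ Subgroup.zpowers z := by
    intro b hb hby
    have h1 : (n : G) * b * (n : G)⁻¹ ∈ E ⊓ Subgroup.centralizer (P : Set G) := by
      refine ⟨(Subgroup.mem_normalizer_iff.1 (hNn n n.2) b).1 hb, Subgroup.mem_centralizer_iff.2 fun w hw => ?_⟩
      obtain ⟨i, hi⟩ := hmem.1 hw
      have hi' : y ^ i = (n : G)⁻¹ * w * n := hi
      rw [show w = (n : G) * y ^ i * (n : G)⁻¹ by rw [hi']; group]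
      exact ((LargeData.commute_conj_iff' (g := (n : G))).2 (hby.zpow_right i).symm).eq
    rw [hCP] at h1
    rcases mem_zpowers_of_order_two hz h1 with e1 | e1
    · rw [conj_eq_one_iff] at e1; rw [e1]; exact one_mem _
    · rw [show b = (n : G)⁻¹ * z * n by rw [← e1]; group, hnz.inv_left.eq, inv_mul_cancel_right]
      exact Subgroup.mem_zpowers z
  -- squares in `Q`
  have hQy : ∀ i ∈ Q, y * i * y⁻¹ ∈ Q := fun i hi => hmQ.2
    ⟨(Subgroup.mem_normalizer_iff.1 (hNn y hyN) i).1 (hmQ.1 hi).1, by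
      have := (LargeData.commute_conj_iff' (g := y)).2 (hmQ.1 hi).2
      rwa [show y * x * y⁻¹ = x by rw [hyx.eq, mul_inv_cancel_right]] at this⟩
  have hsqz : ∀ i ∈ Q, i ∉ Subgroup.zpowers z → i * i = z := by
    intro i hi hiz
    -- an element of `Q` not commuting with `i`
    obtain ⟨e0, he0⟩ : ∃ e0 ∈ E, ¬ Commute e0 i := by
      by_contra hno
      simp only [not_exists, not_and, not_not] at hno
      exact hiz (hcent ▸ Subgroup.mem_centralizer_iff.2 fun b hb => (hno b hb).eq)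
    have hcomm : ∀ b ∈ E, ¬ Commute b i → b * i * b⁻¹ = z * i := fun b hb hn => by
      rcases L.conj_eq_or hb (hmQ.1 hi).1 with h | h
      · exact absurd (mul_inv_eq_iff_eq_mul.1 h) hn
      · exact h
    set K := E ⊓ Subgroup.centralizer ({i} : Set G)
    set t : Set G := (E : Set G) \ (K : Set G)
    have ht : ∀ b, b ∈ t ↔ b ∈ E ∧ ¬ Commute b i := fun b => by
      simp only [t, K, Set.mem_sdiff, SetLike.mem_coe, Subgroup.mem_inf, mem_centralizer_singleton_iff']
      exact ⟨fun h => ⟨h.1, fun c => h.2 ⟨h.1, c⟩⟩, fun h => ⟨h.1, fun c => h.2 c.2⟩⟩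
    have hKc : Nat.card ↥K = t.ncard := by
      rw [← Nat.card_coe_set_eq]
      refine Nat.card_congr
        { toFun := fun b => ⟨e0 * b, (ht _).2 ⟨mul_mem he0.1 b.2.1, fun c => he0.2 ?_⟩⟩
          invFun := fun b => ⟨e0⁻¹ * b, Subgroup.mem_inf.2 ⟨mul_mem (inv_mem he0.1) ((ht _).1 b.2).1, ?_⟩⟩
          left_inv := fun b => Subtype.ext (inv_mul_cancel_left _ _)
          right_inv := fun b => Subtype.ext (mul_inv_cancel_left _ _) }
      · have hb : Commute (b : G) i := mem_centralizer_singleton_iff'.1 b.2.2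
        have := c.mul_left hb.inv_left
        rwa [mul_inv_cancel_right] at this
      · obtain ⟨hbE, hbn⟩ := (ht _).1 b.2
        refine mem_centralizer_singleton_iff'.2 (mul_inv_eq_iff_eq_mul.1 ?_)
        rw [show e0⁻¹ * (b : G) * i * (e0⁻¹ * b)⁻¹ = e0⁻¹ * ((b : G) * i * (b : G)⁻¹) * e0 by group,
          hcomm _ hbE hbn, ← hcomm _ he0.1 he0.2]
        group
    have hsum : t.ncard + t.ncard = 2 ^ 13 := by
      have h := Set.ncard_sdiff_add_ncard_of_subset (show (K : Set G) ⊆ (E : Set G) from fun b hb => hb.1)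
        (Set.toFinite _)
      rw [← Nat.card_coe_set_eq (K : Set G), ← Nat.card_coe_set_eq (E : Set G)] at h
      change t.ncard + Nat.card ↥K = Nat.card ↥E at h
      rw [hKc, hEc] at h
      exact h
    obtain ⟨b, hbt, hbx⟩ := exists_fixed hx11 (s := t) (fun b hb => by
      obtain ⟨hbE, hbn⟩ := (ht _).1 hb
      refine (ht _).2 ⟨hEx b hbE, fun c => hbn ?_⟩
      have := (LargeData.commute_conj_iff' (g := x⁻¹)).2 c
      rwa [inv_inv, show x⁻¹ * (x * b * x⁻¹) * x = b by group, show x⁻¹ * i * x = i by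
        rw [(hmQ.1 hi).2.symm.inv_left.eq, inv_mul_cancel_right]] at this) (by
      have h4 : t.ncard = 4096 := by omega
      rw [h4]; norm_num)
    obtain ⟨hbE, hbn⟩ := (ht _).1 hbt
    by_contra hne
    have hi2 : i * i = 1 := (L.eq_or (L.sq_mem (hmQ.1 hi).1)).resolve_right hne
    have hall : ∀ c ∈ Q, c * c = 1 := by
      set S : Set G := {c | c ∈ Q ∧ c * c = 1} with hS
      have hy31 : y ^ 3 = 1 := hy3 ▸ pow_orderOf_eq_one y
      have hzS : ∀ c ∈ S, c * z ∈ S := fun c hc => ⟨mul_mem hc.1 hzQ, by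
        rw [(hcz c (hmQ.1 hc.1).1).symm.mul_mul_mul_comm, hc.2, L.mul_self_z, one_mul]⟩
      have hmod := ncard_fixed_modEq hy31 (s := S) fun c hc => ⟨hQy c hc.1, by
        rw [show y * c * y⁻¹ * (y * c * y⁻¹) = y * (c * c) * y⁻¹ by group, hc.2]; simp⟩
      have hfix : {c ∈ S | Commute c y} = {1, z} := by
        ext c
        simp only [Set.mem_setOf_eq, Set.mem_insert_iff, Set.mem_singleton_iff]
        constructor
        · exact fun hc => mem_zpowers_of_order_two hz (hCEy c (hmQ.1 hc.1.1).1 hc.2)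
        · rintro (rfl | rfl)
          exacts [⟨⟨one_mem _, one_mul 1⟩, Commute.one_left _⟩, ⟨⟨hzQ, L.mul_self_z⟩, hyz.symm⟩]
      rw [hfix, Set.ncard_pair L.z_ne_one.symm] at hmod
      have h1S : (1 : G) ∈ S := ⟨one_mem _, one_mul 1⟩
      have hiS : i ∈ S := ⟨hi, hi2⟩
      have hi1 : i ≠ 1 := fun h => hiz (h ▸ one_mem _)
      have hinez : i ≠ z := fun h => hiz (h ▸ Subgroup.mem_zpowers z)
      have hizne : i * z ≠ 1 := fun h => hinez (by
        rw [← mul_one i, ← L.mul_self_z, ← mul_assoc, h, one_mul])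
      have hize : i * z ≠ z := fun h => hi1 (mul_eq_right.1 h)
      have hizi : i * z ≠ i := fun h => L.z_ne_one (mul_eq_left.1 h)
      have h4 : 4 ≤ S.ncard := by
        have hsub : ({1, z, i, i * z} : Set G) ⊆ S := by
          rintro c (rfl | rfl | rfl | rfl)
          exacts [h1S, ⟨hzQ, L.mul_self_z⟩, hiS, hzS i hiS]
        refine le_trans (le_of_eq ?_) (Set.ncard_le_ncard hsub (Set.toFinite _))
        rw [Set.ncard_insert_of_notMem (by simp [hi1.symm, L.z_ne_one.symm, hizne.symm]),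
          Set.ncard_insert_of_notMem (by simp [hinez.symm, hize.symm]),
          Set.ncard_pair hizi.symm]
      have hle : S.ncard ≤ 8 := by
        rw [← hQ8]
        exact (Set.ncard_le_ncard (fun c hc => hc.1) (Set.toFinite _)).trans_eq
          (Nat.card_coe_set_eq (Q : Set G)).symm
      have h5 : 4 < S.ncard := by
        unfold Nat.ModEq at hmod
        omega
      obtain ⟨j, hjS, hjF⟩ := Set.exists_mem_notMem_of_ncard_lt_ncard
        (s := ({1, z, i, i * z} : Set G)) (t := S) (lt_of_le_of_lt (by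
          refine (Set.ncard_insert_le _ _).trans (Nat.succ_le_succ ((Set.ncard_insert_le _ _).trans
            (Nat.succ_le_succ ((Set.ncard_insert_le _ _).trans (Nat.succ_le_succ (le_of_eq (Set.ncard_singleton _)))))))) h5)
      simp only [Set.mem_insert_iff, Set.mem_singleton_iff, not_or] at hjF
      obtain ⟨hj1, hjz, hji, hjiz⟩ := hjF
      have h6 : 6 ≤ S.ncard := by
        have hsub : ({j, j * z, 1, z, i, i * z} : Set G) ⊆ S := by
          rintro c (rfl | rfl | rfl | rfl | rfl | rfl)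
          exacts [hjS, hzS j hjS, h1S, ⟨hzQ, L.mul_self_z⟩, hiS, hzS i hiS]
        have hjz1 : j * z ≠ 1 := fun h => hjz (by rw [← mul_one j, ← L.mul_self_z, ← mul_assoc, h, one_mul])
        have hjzz : j * z ≠ z := fun h => hj1 (mul_eq_right.1 h)
        have hjzj : j * z ≠ j := fun h => L.z_ne_one (mul_eq_left.1 h)
        have hjzi : j * z ≠ i := fun h => hjiz (by rw [← h, mul_assoc, L.mul_self_z, mul_one])
        have hjziz : j * z ≠ i * z := fun h => hji (mul_right_cancel h)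
        refine le_trans (le_of_eq ?_) (Set.ncard_le_ncard hsub (Set.toFinite _))
        rw [Set.ncard_insert_of_notMem (by simp [hjzj.symm, hj1, hjz, hji, hjiz]),
          Set.ncard_insert_of_notMem (by simp [hjz1, hjzz, hjzi, hjziz]),
          Set.ncard_insert_of_notMem (by simp [hi1.symm, L.z_ne_one.symm, hizne.symm]),
          Set.ncard_insert_of_notMem (by simp [hinez.symm, hize.symm]),
          Set.ncard_pair hizi.symm]
      have h8 : S.ncard = 8 := by
        unfold Nat.ModEq at hmod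
        omega
      intro c hc
      have heq : S = (Q : Set G) := Set.eq_of_subset_of_ncard_le (fun c hc => hc.1)
        (by rw [h8, ← hQ8, ← Nat.card_coe_set_eq (Q : Set G)]; exact le_rfl) (Set.toFinite _)
      exact (heq.symm ▸ hc : c ∈ S).2
    have hbQ : b ∈ Q := hmQ.2 ⟨hbE, hbx⟩
    refine hbn ?_
    calc b * i = b⁻¹ * i⁻¹ := by rw [inv_eq_of_mul_eq_one_right (hall b hbQ), inv_eq_of_mul_eq_one_right hi2]
      _ = (i * b)⁻¹ := by group
      _ = i * b := inv_eq_of_mul_eq_one_right (hall _ (mul_mem hi hbQ))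
  -- the centralizer
  have hkx : Nat.card ↥(π.ker ⊓ Subgroup.centralizer ({x'} : Set ↥H)) = 24 := by
    set M := N ⊓ Subgroup.centralizer ({x} : Set G)
    let φ : ↥M →* ↥N ⧸ E.subgroupOf N := q.comp (Subgroup.inclusion inf_le_left)
    have hr : φ.range = ⊤ := by
      refine Subgroup.eq_top_of_card_eq _ ?_
      rw [hQc]
      refine ((Nat.dvd_prime Nat.prime_three).1
        (hQc ▸ Subgroup.card_subgroup_dvd_card φ.range)).resolve_left fun h => ?_
      have h1 : φ ⟨y, hyN, mem_centralizer_singleton_iff'.2 hyx.eq⟩ = 1 :=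
        Subgroup.mem_bot.1 ((Subgroup.card_eq_one.1 h) ▸ ⟨_, rfl⟩)
      have h2 := orderOf_dvd_natCard (⟨y, (hq _).1 h1⟩ : E)
      rw [← Subgroup.orderOf_coe, hy3, hEc] at h2
      norm_num at h2
    have hk' : Nat.card φ.ker = 8 := by
      rw [← hQ8]
      exact Nat.card_congr
        { toFun := fun a => ⟨((a : ↥M) : G), hmQ.2 ⟨(hq _).1 a.2, mem_centralizer_singleton_iff'.1 (a : ↥M).2.2⟩⟩
          invFun := fun a => ⟨⟨a, hEN (hmQ.1 a.2).1, mem_centralizer_singleton_iff'.2 (hmQ.1 a.2).2.eq⟩,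
            (hq _).2 (hmQ.1 a.2).1⟩
          left_inv := fun _ => rfl
          right_inv := fun _ => rfl }
    have h := φ.ker.card_mul_index
    rw [Subgroup.index_ker, hr, Subgroup.card_top, hQc, hk'] at h
    rw [show 24 = 8 * 3 from rfl, h, hker]
    exact Nat.card_congr
      { toFun := fun a => ⟨((a : ↥H) : G), Subgroup.mem_subgroupOf.1 a.2.1,
          mem_centralizer_singleton_iff'.2 (congrArg Subtype.val (mem_centralizer_singleton_iff'.1 a.2.2))⟩
        invFun := fun a => ⟨⟨a, hNH a.2.1⟩, Subgroup.mem_subgroupOf.2 a.2.1,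
          mem_centralizer_singleton_iff'.2 (Subtype.ext (mem_centralizer_singleton_iff'.1 a.2.2))⟩
        left_inv := fun _ => rfl
        right_inv := fun _ => rfl }
  refine ⟨⟨?_, ?_, Q, fun a ha => mem_CC.2 ⟨hcz a (hmQ.1 ha).1, (hmQ.1 ha).2⟩, hQ8, hzQ, hsqz, ?_, y, hy3,
    mem_CC.2 ⟨hyz, hyx⟩, hCy, fun q hq => hCEy q (hmQ.1 hq).1⟩, hHc, ?_⟩
  · rw [show 264 = 11 * 24 from rfl, ← hkx, ← cover_card π hA hπx]
    refine Nat.card_congr
      { toFun := fun a => ⟨⟨a, a.2.1⟩, mem_centralizer_singleton_iff'.2 (Subtype.ext (mem_CC.1 a.2).2.eq)⟩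
        invFun := fun a => ⟨((a : ↥H) : G), (a : ↥H).2,
          mem_centralizer_singleton_iff'.2 (congrArg Subtype.val (mem_centralizer_singleton_iff'.1 a.2))⟩
        left_inv := fun _ => rfl
        right_inv := fun _ => rfl }
  · intro u huz hux hu2 hu1
    set u' : ↥H := ⟨u, mem_centralizer_singleton_iff'.2 huz.eq⟩
    obtain ⟨i, hi⟩ := hA (π u') ((show Commute u' x' from Subtype.ext hux.eq).map π)
    have h1 : π u' = 1 := by
      refine orderOf_eq_one_iff.1 (Nat.eq_one_of_dvd_coprimes (a := 2) (b := 11) (by norm_num)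
        (orderOf_dvd_of_pow_eq_one ?_) ?_)
      · rw [← map_pow, show u' ^ 2 = 1 from Subtype.ext (by rw [Subgroup.coe_pow, pow_two]; exact hu2), map_one]
      · rw [← hi, ← hπx]
        exact orderOf_dvd_of_mem_zpowers (zpow_mem (Subgroup.mem_zpowers _) i)
    have huN : u ∈ N := Subgroup.mem_subgroupOf.1 (hker ▸ (MonoidHom.mem_ker.2 h1) : u' ∈ N.subgroupOf H)
    have huE : u ∈ E := by
      rw [← hq ⟨u, huN⟩]
      refine orderOf_eq_one_iff.1 (Nat.eq_one_of_dvd_coprimes (a := 2) (b := 3) (by norm_num)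
        (orderOf_dvd_of_pow_eq_one ?_) (hQc ▸ orderOf_dvd_natCard _))
      rw [← map_pow, show (⟨u, huN⟩ : N) ^ 2 = 1 from Subtype.ext (by rw [Subgroup.coe_pow, pow_two]; exact hu2),
        map_one]
    by_contra hne
    have := hsqz u (hmQ.2 ⟨huE, hux⟩) fun h => (mem_zpowers_of_order_two hz h).elim hu1 hne
    exact L.z_ne_one (this.symm.trans hu2)
  · intro g hgz hgx a ha
    refine hmQ.2 ⟨(Subgroup.mem_normalizer_iff.1 (hHE (mem_centralizer_singleton_iff'.2 hgz.eq)) a).1 (hmQ.1 ha).1, ?_⟩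
    obtain ⟨i, hi⟩ := hgx
    have hi' : x ^ i = g * x * g⁻¹ := hi
    have h1 : Commute a (g⁻¹ * x * g) := by
      have hgo : orderOf (g * x * g⁻¹) = 11 := by
        rw [show g * x * g⁻¹ = MulAut.conj g x from rfl, MulEquiv.orderOf_eq, hx]
      have heq : Subgroup.zpowers (g * x * g⁻¹) = Subgroup.zpowers x :=
        Subgroup.eq_of_le_of_card_ge (Subgroup.zpowers_le.2 ⟨i, hi⟩) (by rw [Nat.card_zpowers, Nat.card_zpowers, hgo, hx])
      obtain ⟨j, hj⟩ : x ∈ Subgroup.zpowers (g * x * g⁻¹) := heq ▸ Subgroup.mem_zpowers x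
      have hj' : (g * x * g⁻¹) ^ j = x := hj
      rw [conj_zpow] at hj'
      rw [show g⁻¹ * x * g = x ^ j from Eq.symm (by
        calc x ^ j = g⁻¹ * (g * x ^ j * g⁻¹) * g := by group
          _ = g⁻¹ * x * g := by rw [hj'])]
      exact (hmQ.1 ha).2.zpow_right j
    have h2 := (LargeData.commute_conj_iff' (g := g)).2 h1
    rwa [show g * (g⁻¹ * x * g) * g⁻¹ = x by group] at h2
  · obtain ⟨g, hgπ⟩ : ∃ g, π g = g0 := (e.surjective.comp (QuotientGroup.mk'_surjective _)) g0
    obtain ⟨k, -, hk⟩ := exists_conj_lift π hx' hk11 (g := g) (j := 2) (by rw [hgπ]; exact hg0)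
    exact ⟨((k * g : ↥H) : G), mem_centralizer_singleton_iff'.1 (k * g).2, by
      simpa using congrArg Subtype.val hk⟩

end CfsgLib.JankoFour.Eleven
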