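import Cfsg.Agent.Lib.JankoFourEleven.Primes

/-!
# The centralizer of an element of order eleven, up to its Sylow subgroup (owner: helper25)

Under the order of the group and the self-centralising of the five large primes: an element of order eleven
commuting with a conjugate of `z` has centralizer of order `24 * 11^c`, one commuting with another involution has
`2 * 11^c`, and these are exclusive.
-/

set_option autoImplicit false
set_option linter.unusedSectionVars false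

namespace CfsgLib.JankoFour.Eleven

open Cfsg CfsgLib.ThreeTrans

variable {G : Type*} [Group G] [Finite G] [IsSimpleGroup G]

/-- The hypotheses of the eleven-local analysis. -/
structure Hyp (z : G) : Prop where
  nonab : ¬ IsMulCommutative G
  type : IsOfJankoFourTypeAt z
  order : Nat.card G = 2 ^ 21 * 3 ^ 3 * 5 * 7 * 11 ^ 3 * 23 * 29 * 31 * 37 * 43
  big : ∀ p ∈ [23, 29, 31, 37, 43], ∀ y g : G, orderOf y = p → Commute g y → g ∈ Subgroup.zpowers y

/-- The centralizer of `x`. -/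
abbrev CX (x : G) : Subgroup G := Subgroup.centralizer ({x} : Set G)

theorem mem_CX {x g : G} : g ∈ CX x ↔ Commute g x := mem_centralizer_singleton_iff'

variable {z : G} (h : Hyp z)
include h

theorem Hyp.not_sq_H : ¬ 11 * 11 ∣ Nat.card ↥(CX z) := by
  rw [card_centralizer_H h.nonab h.type]; norm_num

theorem Hyp.not_sq_cent {u : G} (hu : orderOf u = 2) : ¬ 11 * 11 ∣ Nat.card ↥(CX u) := by
  by_cases hc : IsConj z u
  · obtain ⟨g, rfl⟩ := isConj_iff.1 hc
    intro hd
    refine h.not_sq_H (hd.trans (dvd_of_eq ?_))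
    exact (Nat.card_congr (Equiv.subtypeEquiv (MulAut.conj g).toEquiv fun a => by
      rw [mem_CX, mem_CX]; exact commute_conj.symm)).symm
  · rw [second_facts h.nonab h.type hu hc]; norm_num

/-- All elements of order eleven commuting with `z` are conjugate there. -/
theorem Hyp.conj_in_H {x y : G} (hx : orderOf x = 11) (hxz : Commute x z) (hy : orderOf y = 11) (hyz : Commute y z) :
    ∃ g, Commute g z ∧ g * x * g⁻¹ = y := by
  obtain ⟨-, -, g, hgz, hg⟩ := z_data h.nonab h.type hy hyz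
  obtain ⟨k, hk, e⟩ := exists_conj_eq (K := CX z) h.not_sq_H hx (mem_CX.2 hxz) hy (mem_CX.2 hyz) (mem_CX.2 hgz) hg
  exact ⟨k, mem_CX.1 hk, e⟩

/-- No element of order three in the centralizer unless a conjugate of `z` is there. -/
theorem Hyp.three_z {x y : G} (hy : orderOf y = 3) (hxy : Commute x y) : ∃ w, IsConj z w ∧ Commute w x ∧ Commute w y := by
  obtain ⟨w, hw, hC⟩ := three_center h.nonab h.type hy
  exact ⟨w, hw, (hC x hxy).symm, (hC y (Commute.refl y)).symm⟩

/-- The order of the centralizer involves only two, three and eleven. -/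
theorem Hyp.dvd_CX {x : G} (hx : orderOf x = 11) :
    Nat.card ↥(CX x) ∣ 2 ^ 21 * 3 ^ 3 * 11 ^ 3 := by
  classical
  have hno : ∀ p ∈ [5, 7, 23, 29, 31, 37, 43], ¬ p ∣ Nat.card ↥(CX x) := by
    intro p hp hd
    have hpp : p.Prime := by fin_cases hp <;> norm_num
    haveI := Fact.mk hpp
    obtain ⟨y, hy⟩ := exists_prime_orderOf_dvd_card' p hd
    have hyo : orderOf (y : G) = p := by rw [Subgroup.orderOf_coe, hy]
    have hxy : Commute x (y : G) := (mem_CX.1 y.2).symm
    have hbig : p ∈ [23, 29, 31, 37, 43] → False := fun hb => by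
      have := orderOf_dvd_of_mem_zpowers (h.big p hb (y : G) x hyo hxy)
      rw [hyo, hx] at this
      exact absurd ((Nat.prime_dvd_prime_iff_eq (by norm_num) hpp).1 this) (by fin_cases hb <;> norm_num)
    fin_cases hp
    · exact not_commute_five h.nonab h.type hyo hx hxy
    · exact not_commute_seven h.nonab h.type hyo hx hxy
    all_goals exact hbig (by simp)
  have hd : Nat.card ↥(CX x) ∣ (2 ^ 21 * 3 ^ 3 * 11 ^ 3) * (5 * 7 * 23 * 29 * 31 * 37 * 43) := by
    refine (Subgroup.card_subgroup_dvd_card _).trans (dvd_of_eq ?_)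
    rw [h.order]; ring
  have hc : ∀ p ∈ [5, 7, 23, 29, 31, 37, 43], Nat.Coprime (Nat.card ↥(CX x)) p := fun p hp =>
    ((Nat.Prime.coprime_iff_not_dvd (by fin_cases hp <;> norm_num)).2 (hno p hp)).symm
  refine Nat.Coprime.dvd_of_dvd_mul_right ?_ hd
  refine Nat.Coprime.mul_right (Nat.Coprime.mul_right (Nat.Coprime.mul_right (Nat.Coprime.mul_right
    (Nat.Coprime.mul_right (Nat.Coprime.mul_right ?_ ?_) ?_) ?_) ?_) ?_) ?_
  all_goals exact hc _ (by simp)

/-- Two-subgroups of the centralizer, for a conjugate of `z`. -/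
theorem Hyp.two_group_z {x : G} (hx : orderOf x = 11) (hxz : Commute x z) {R : Subgroup G} (hR : IsPGroup 2 ↥R)
    (hzR : z ∈ R) (hRx : R ≤ CX x) : R ≤ CC z x := by
  classical
  haveI : Fact (Nat.Prime 2) := ⟨Nat.prime_two⟩
  obtain ⟨hD, -, -⟩ := z_data h.nonab h.type hx hxz
  haveI : Nontrivial ↥R := ⟨⟨⟨z, hzR⟩, 1, fun e => by
    have e' : z = 1 := congrArg Subtype.val e
    have hz := h.type.choose_spec.1
    rw [e', orderOf_one] at hz
    norm_num at hz⟩⟩
  haveI : Nontrivial (Subgroup.center ↥R) := hR.center_nontrivial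
  obtain ⟨k, hk0, hk⟩ := (hR.to_subgroup (Subgroup.center ↥R)).nontrivial_iff_card.1 inferInstance
  obtain ⟨c, hc⟩ := exists_prime_orderOf_dvd_card' (G := Subgroup.center ↥R) 2
    (hk ▸ dvd_pow_self 2 hk0.ne')
  have hcu : orderOf (((c : ↥R) : G)) = 2 := by rw [Subgroup.orderOf_coe, Subgroup.orderOf_coe, hc]
  have hcc : ∀ r : ↥R, Commute ((c : ↥R) : G) r := fun r =>
    (congrArg Subtype.val (Subgroup.mem_center_iff.1 c.2 r)).symm
  have hcz : ((c : ↥R) : G) = z := hD.inv_unique _ (hcc ⟨z, hzR⟩) (mem_CX.1 (hRx (c : ↥R).2))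
    (by rw [← pow_two, ← hcu, pow_orderOf_eq_one]) fun e => by rw [e, orderOf_one] at hcu; norm_num at hcu
  exact fun r hr => mem_CC.2 ⟨(hcz ▸ hcc ⟨r, hr⟩ : Commute z r).symm, mem_CX.1 (hRx hr)⟩

/-- An element of order eleven commuting with `z` commutes only with conjugates of `z` among involutions. -/
theorem Hyp.inv_conj_z {x : G} (hx : orderOf x = 11) (hxz : Commute x z) {u : G} (hu : orderOf u = 2)
    (hux : Commute u x) : IsConj z u := by
  classical
  haveI : Fact (Nat.Prime 2) := ⟨Nat.prime_two⟩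
  obtain ⟨hD, -, -⟩ := z_data h.nonab h.type hx hxz
  have hz2 : orderOf z = 2 := h.type.choose_spec.1
  set X := CX x
  let z' : ↥X := ⟨z, mem_CX.2 hxz.symm⟩
  let u' : ↥X := ⟨u, mem_CX.2 hux⟩
  obtain ⟨Sz, hSz⟩ := ((IsPGroup.of_card (n := 1) (by
    rw [Nat.card_zpowers, ← Subgroup.orderOf_coe]; exact hz2.trans (pow_one 2).symm)) :
    IsPGroup 2 (Subgroup.zpowers z')).exists_le_sylow
  obtain ⟨Su, hSu⟩ := ((IsPGroup.of_card (n := 1) (by
    rw [Nat.card_zpowers, ← Subgroup.orderOf_coe]; exact hu.trans (pow_one 2).symm)) :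
    IsPGroup 2 (Subgroup.zpowers u')).exists_le_sylow
  obtain ⟨k, hk⟩ := MulAction.exists_smul_eq ↥X Su Sz
  have hm : k * u' * k⁻¹ ∈ (Sz : Subgroup ↥X) := by
    rw [← hk]
    exact Subgroup.smul_mem_pointwise_smul _ (MulAut.conj k) (Su : Subgroup ↥X) (hSu (Subgroup.mem_zpowers _))
  have hle := h.two_group_z hx hxz (R := (Sz : Subgroup ↥X).map X.subtype) (Sz.2.map _)
    ⟨z', hSz (Subgroup.mem_zpowers _), rfl⟩ (Subgroup.map_subtype_le _)
  have hm' : (k : G) * u * (k : G)⁻¹ ∈ CC z x := hle ⟨_, hm, rfl⟩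
  refine isConj_iff.2 ⟨(k : G)⁻¹, ?_⟩
  rw [← hD.inv_unique ((k : G) * u * (k : G)⁻¹) (mem_CC.1 hm').1 (mem_CC.1 hm').2
    (by rw [← pow_two, conj_pow, ← hu, pow_orderOf_eq_one]; simp)
    (fun e => by rw [conj_eq_one_iff] at e; rw [e, orderOf_one] at hu; norm_num at hu)]
  group

/-- The two kinds are exclusive. -/
theorem Hyp.exclusive {x w t : G} (hx : orderOf x = 11) (hw : IsConj z w) (hwx : Commute w x)
    (ht : orderOf t = 2) (htx : Commute t x) : IsConj z t := by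
  obtain ⟨g, hg⟩ := isConj_iff.1 hw.symm
  have hgt : orderOf (g * t * g⁻¹) = 2 := (orderOf_conj' g t).trans ht
  have := h.inv_conj_z (x := g * x * g⁻¹) ((orderOf_conj' g x).trans hx) (hg ▸ commute_conj.2 hwx.symm)
    hgt (commute_conj.2 htx)
  exact this.trans (isConj_iff.2 ⟨g⁻¹, by group⟩)

/-- The order for the first kind. -/
theorem Hyp.card_z {x : G} (hx : orderOf x = 11) (hxz : Commute x z) :
    ∃ c, c ≤ 3 ∧ Nat.card ↥(CX x) = 24 * 11 ^ c := by
  classical
  haveI : Fact (Nat.Prime 2) := ⟨Nat.prime_two⟩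
  haveI : Fact (Nat.Prime 3) := ⟨Nat.prime_three⟩
  obtain ⟨hD, hHc, -⟩ := z_data h.nonab h.type hx hxz
  have hz2 : orderOf z = 2 := h.type.choose_spec.1
  set X := CX x
  have h264 : 264 ∣ Nat.card ↥X := hD.card_eq ▸ Subgroup.card_dvd_of_le inf_le_right
  -- the two-part
  have h16 : ¬ 2 ^ 4 ∣ Nat.card ↥X := by
    intro hd
    let z' : ↥X := ⟨z, mem_CX.2 hxz.symm⟩
    obtain ⟨Sz, hSz⟩ := ((IsPGroup.of_card (n := 1) (by
      rw [Nat.card_zpowers, ← Subgroup.orderOf_coe]; exact hz2.trans (pow_one 2).symm)) :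
      IsPGroup 2 (Subgroup.zpowers z')).exists_le_sylow
    have h1 : 2 ^ 4 ∣ Nat.card (Sz : Subgroup ↥X) := Sz.pow_dvd_card_of_pow_dvd_card hd
    have hle := h.two_group_z hx hxz (R := (Sz : Subgroup ↥X).map X.subtype) (Sz.2.map _)
      ⟨z', hSz (Subgroup.mem_zpowers _), rfl⟩ (Subgroup.map_subtype_le _)
    have h2 := Subgroup.card_dvd_of_le hle
    rw [Subgroup.card_map_of_injective X.subtype_injective, hD.card_eq] at h2
    have := h1.trans h2
    norm_num at this
  -- the three-part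
  have h9 : ¬ 3 ^ 2 ∣ Nat.card ↥X := by
    intro hd
    obtain ⟨R, hR⟩ := Sylow.exists_subgroup_card_pow_prime 3 hd
    haveI hcomm := IsPGroup.isMulCommutative_of_card_eq_prime_sq (p := 3) hR
    obtain ⟨y, hy⟩ := exists_prime_orderOf_dvd_card' (G := ↥R) 3 (by rw [hR]; norm_num)
    have hy3 : orderOf ((y : ↥X) : G) = 3 := by rw [Subgroup.orderOf_coe, Subgroup.orderOf_coe, hy]
    obtain ⟨w, hw, hC⟩ := three_center h.nonab h.type hy3
    obtain ⟨g, hg⟩ := isConj_iff.1 hw.symm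
    have hwx : Commute x w := hC x (mem_CX.1 (y : ↥X).2).symm
    have hx1 := (orderOf_conj' g x).trans hx
    have hxz1 : Commute (g * x * g⁻¹) z := hg ▸ commute_conj.2 hwx
    let f : ↥R → ↥(CC z (g * x * g⁻¹)) := fun r => ⟨g * ((r : ↥X) : G) * g⁻¹, mem_CC.2
      ⟨hg ▸ commute_conj.2 (hC _ ((show Commute r y from hcomm.1.1 r y).map (X.subtype.comp R.subtype))),
        commute_conj.2 (mem_CX.1 (r : ↥X).2)⟩⟩
    let F : ↥R →* ↥(CC z (g * x * g⁻¹)) := MonoidHom.mk' f fun a b => Subtype.ext (by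
      show g * (((a * b : ↥R) : ↥X) : G) * g⁻¹ = g * ((a : ↥X) : G) * g⁻¹ * (g * ((b : ↥X) : G) * g⁻¹)
      rw [Subgroup.coe_mul, Subgroup.coe_mul]; group)
    have h2 := Subgroup.card_dvd_of_injective F fun a b e => by
      have e' : g * ((a : ↥X) : G) * g⁻¹ = g * ((b : ↥X) : G) * g⁻¹ := congrArg Subtype.val e
      exact Subtype.ext (Subtype.ext (mul_left_cancel (mul_right_cancel e')))
    rw [hR, (z_data h.nonab h.type hx1 hxz1).1.card_eq] at h2
    norm_num at h2
  obtain ⟨m, hm⟩ := h264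
  have hm' : 264 * m ∣ 2 ^ 21 * 3 ^ 3 * 11 ^ 3 := hm ▸ h.dvd_CX hx
  have hm2 : m ∣ 2 ^ 18 * 3 ^ 2 * 11 ^ 2 := Nat.dvd_of_mul_dvd_mul_left (by norm_num : 0 < 264)
    (hm'.trans (dvd_of_eq (by norm_num)))
  have hc2 : Nat.Coprime m (2 ^ 18 * 3 ^ 2) := by
    refine Nat.Coprime.mul_right (Nat.Coprime.pow_right _ ?_) (Nat.Coprime.pow_right _ ?_)
    · refine ((Nat.Prime.coprime_iff_not_dvd Nat.prime_two).2 fun h2 => h16 ?_).symm
      rw [hm, show 264 = 2 ^ 3 * 33 from rfl, mul_assoc, pow_succ]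
      exact mul_dvd_mul_left _ (h2.mul_left 33)
    · refine ((Nat.Prime.coprime_iff_not_dvd Nat.prime_three).2 fun h3 => h9 ?_).symm
      rw [hm, show 264 = 3 * 88 from rfl, mul_assoc, pow_two]
      exact mul_dvd_mul_left _ (h3.mul_left 88)
  obtain ⟨d, hd, rfl⟩ := (Nat.dvd_prime_pow (by norm_num : Nat.Prime 11)).1 (hc2.dvd_of_dvd_mul_left hm2)
  exact ⟨d + 1, by omega, by rw [hm, pow_succ]; ring⟩

/-- The order for the second kind. -/
theorem Hyp.card_t {x t : G} (hx : orderOf x = 11) (ht : orderOf t = 2) (hnc : ¬ IsConj z t) (hxt : Commute x t) :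
    ∃ c, c ≤ 3 ∧ Nat.card ↥(CX x) = 2 * 11 ^ c := by
  classical
  haveI : Fact (Nat.Prime 2) := ⟨Nat.prime_two⟩
  haveI : Fact (Nat.Prime 3) := ⟨Nat.prime_three⟩
  obtain ⟨hD, -⟩ := t_data h.nonab h.type ht hnc hx hxt
  set X := CX x
  have h22 : 22 ∣ Nat.card ↥X := hD.card_eq ▸ Subgroup.card_dvd_of_le inf_le_right
  have h4 : ¬ 2 ^ 2 ∣ Nat.card ↥X := by
    intro hd
    let t' : ↥X := ⟨t, mem_CX.2 hxt.symm⟩
    obtain ⟨St, hSt⟩ := ((IsPGroup.of_card (n := 1) (by
      rw [Nat.card_zpowers, ← Subgroup.orderOf_coe]; exact ht.trans (pow_one 2).symm)) :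
      IsPGroup 2 (Subgroup.zpowers t')).exists_le_sylow
    have h1 : 2 ^ 2 ∣ Nat.card (St : Subgroup ↥X) := St.pow_dvd_card_of_pow_dvd_card hd
    set R := (St : Subgroup ↥X).map X.subtype with hRdef
    have hR : IsPGroup 2 ↥R := St.2.map _
    have htR : t ∈ R := ⟨t', hSt (Subgroup.mem_zpowers _), rfl⟩
    have hRx : R ≤ X := Subgroup.map_subtype_le _
    haveI : Nontrivial ↥R := ⟨⟨⟨t, htR⟩, 1, fun e => by
      have e' : t = 1 := congrArg Subtype.val e
      rw [e', orderOf_one] at ht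
      norm_num at ht⟩⟩
    haveI : Nontrivial (Subgroup.center ↥R) := hR.center_nontrivial
    obtain ⟨k, hk0, hk⟩ := (hR.to_subgroup (Subgroup.center ↥R)).nontrivial_iff_card.1 inferInstance
    obtain ⟨c, hc⟩ := exists_prime_orderOf_dvd_card' (G := Subgroup.center ↥R) 2
      (hk ▸ dvd_pow_self 2 hk0.ne')
    have hcu : orderOf (((c : ↥R) : G)) = 2 := by rw [Subgroup.orderOf_coe, Subgroup.orderOf_coe, hc]
    have hcc : ∀ r : ↥R, Commute ((c : ↥R) : G) r := fun r =>
      (congrArg Subtype.val (Subgroup.mem_center_iff.1 c.2 r)).symm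
    have hct : ((c : ↥R) : G) = t := hD.inv_unique _ (hcc ⟨t, htR⟩) (mem_CX.1 (hRx (c : ↥R).2))
      (by rw [← pow_two, ← hcu, pow_orderOf_eq_one]) fun e => by rw [e, orderOf_one] at hcu; norm_num at hcu
    have hle : R ≤ CC t x := fun r hr =>
      mem_CC.2 ⟨(hct ▸ hcc ⟨r, hr⟩ : Commute t r).symm, mem_CX.1 (hRx hr)⟩
    have h2 := Subgroup.card_dvd_of_le hle
    rw [hRdef, Subgroup.card_map_of_injective X.subtype_injective, hD.card_eq] at h2
    have := h1.trans h2
    norm_num at this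
  have h3 : ¬ 3 ∣ Nat.card ↥X := by
    intro hd
    obtain ⟨y, hy⟩ := exists_prime_orderOf_dvd_card' 3 hd
    obtain ⟨w, hw, hwx, -⟩ := h.three_z (x := x) (y := (y : G)) (by rw [Subgroup.orderOf_coe, hy])
      (mem_CX.1 y.2).symm
    exact hnc (h.exclusive hx hw hwx ht hxt.symm)
  obtain ⟨m, hm⟩ := h22
  have hm2 : m ∣ 2 ^ 20 * 3 ^ 3 * 11 ^ 2 := Nat.dvd_of_mul_dvd_mul_left (by norm_num : 0 < 22)
    ((hm ▸ h.dvd_CX hx).trans (dvd_of_eq (by norm_num)))
  have hc2 : Nat.Coprime m (2 ^ 20 * 3 ^ 3) := by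
    refine Nat.Coprime.mul_right (Nat.Coprime.pow_right _ ?_) (Nat.Coprime.pow_right _ ?_)
    · refine ((Nat.Prime.coprime_iff_not_dvd Nat.prime_two).2 fun h2 => h4 ?_).symm
      rw [hm, show 22 = 2 * 11 from rfl, mul_assoc, pow_two]
      exact mul_dvd_mul_left _ (h2.mul_left 11)
    · refine ((Nat.Prime.coprime_iff_not_dvd Nat.prime_three).2 fun h2 => h3 ?_).symm
      rw [hm]
      exact h2.mul_left 22
  obtain ⟨d, hd, rfl⟩ := (Nat.dvd_prime_pow (by norm_num : Nat.Prime 11)).1 (hc2.dvd_of_dvd_mul_left hm2)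
  exact ⟨d + 1, by omega, by rw [hm, pow_succ]; ring⟩

end CfsgLib.JankoFour.Eleven
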