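import Mathlib

/-!
# A presentation of GL(2,3) by normal forms (owner: helper25)

Three elements `i, y, s` with the relations of GL(2,3) and distinct normal forms give a subgroup isomorphic
to GL(2,3).
-/

set_option autoImplicit false
set_option linter.unusedSectionVars false

namespace CfsgLib.JankoFour.Eleven

/-- Normal forms. -/
abbrev Form := (Fin 4 × Fin 2) × Fin 3 × Fin 2

/-- The relations. -/
structure GLRel {A : Type*} [Group A] (i y s : A) : Prop where
  i4 : i ^ 4 = 1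
  y3 : y ^ 3 = 1
  s2 : s * s = 1
  sy : s * y = y ^ 2 * s
  si : s * i = i ^ 3 * s
  jj : y * i * y⁻¹ * (y * i * y⁻¹) = i ^ 2
  ij : i * (y * i * y⁻¹) = y ^ 2 * i * (y ^ 2)⁻¹
  ji : y * i * y⁻¹ * i = i ^ 3 * (y * i * y⁻¹)

variable {A : Type*} [Group A]

/-- The element of a normal form. -/
def formQ (i y : A) (q : Fin 4 × Fin 2) : A := i ^ (q.1 : ℕ) * (y * i * y⁻¹) ^ (q.2 : ℕ)

/-- The element of a normal form. -/
def form (i y s : A) (t : Form) : A := formQ i y t.1 * y ^ (t.2.1 : ℕ) * s ^ (t.2.2 : ℕ)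

/-- Right multiplication of the quaternion part by the first generator. -/
def qI (q : Fin 4 × Fin 2) : Fin 4 × Fin 2 := if q.2 = 0 then (q.1 + 1, 0) else (q.1 + 3, 1)

/-- Right multiplication of the quaternion part by the second generator. -/
def qJ (q : Fin 4 × Fin 2) : Fin 4 × Fin 2 := if q.2 = 0 then (q.1, 1) else (q.1 + 2, 0)

/-- Right multiplication by `i` when no `s` is present. -/
def mI0 (t : Form) : Form :=
  (if t.2.1 = 0 then qI t.1 else if t.2.1 = 1 then qJ t.1 else qJ (qI t.1), t.2.1, t.2.2)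

/-- Right multiplication by `i`. -/
def mI (t : Form) : Form := if t.2.2 = 0 then mI0 t else mI0 (mI0 (mI0 t))

/-- Right multiplication by `y`. -/
def mY (t : Form) : Form := if t.2.2 = 0 then (t.1, t.2.1 + 1, 0) else (t.1, t.2.1 + 2, 1)

/-- Right multiplication by `s`. -/
def mS (t : Form) : Form := (t.1, t.2.1, t.2.2 + 1)

variable {i y s : A} (R : GLRel i y s)
include R

theorem pow_fin4 (a b : Fin 4) : i ^ (((a + b : Fin 4)) : ℕ) = i ^ (a : ℕ) * i ^ (b : ℕ) := by
  rw [← pow_add, Fin.val_add, ← pow_mul_pow_sub (m := 0) i (Nat.zero_le _)]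
  simp only [pow_zero, one_mul, Nat.sub_zero]
  conv_rhs => rw [← Nat.mod_add_div ((a : ℕ) + b) 4, pow_add, pow_mul, R.i4, one_pow, mul_one]

theorem pow_fin3 (a b : Fin 3) : y ^ (((a + b : Fin 3)) : ℕ) = y ^ (a : ℕ) * y ^ (b : ℕ) := by
  rw [← pow_add, Fin.val_add]
  conv_rhs => rw [← Nat.mod_add_div ((a : ℕ) + b) 3, pow_add, pow_mul, R.y3, one_pow, mul_one]

theorem formQ_I (q : Fin 4 × Fin 2) : formQ i y (qI q) = formQ i y q * i := by
  obtain ⟨a, b⟩ := q
  fin_cases b
  · show i ^ ((a + 1 : Fin 4) : ℕ) * (y * i * y⁻¹) ^ 0 = i ^ (a : ℕ) * (y * i * y⁻¹) ^ 0 * i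
    rw [pow_fin4 R, show (((1 : Fin 4)) : ℕ) = 1 from rfl]
    simp
  · show i ^ ((a + 3 : Fin 4) : ℕ) * (y * i * y⁻¹) ^ 1 = i ^ (a : ℕ) * (y * i * y⁻¹) ^ 1 * i
    rw [pow_fin4 R, show (((3 : Fin 4)) : ℕ) = 3 from rfl, pow_one, mul_assoc, mul_assoc (i ^ (a : ℕ)), R.ji]

theorem formQ_J (q : Fin 4 × Fin 2) : formQ i y (qJ q) = formQ i y q * (y * i * y⁻¹) := by
  obtain ⟨a, b⟩ := q
  fin_cases b
  · show i ^ (a : ℕ) * (y * i * y⁻¹) ^ 1 = i ^ (a : ℕ) * (y * i * y⁻¹) ^ 0 * (y * i * y⁻¹)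
    simp
  · show i ^ ((a + 2 : Fin 4) : ℕ) * (y * i * y⁻¹) ^ 0 = i ^ (a : ℕ) * (y * i * y⁻¹) ^ 1 * (y * i * y⁻¹)
    rw [pow_fin4 R, show (((2 : Fin 4)) : ℕ) = 2 from rfl, pow_one, pow_zero, mul_one,
      mul_assoc (i ^ (a : ℕ)) (y * i * y⁻¹), R.jj]

theorem form_I0 (t : Form) (ht : t.2.2 = 0) : form i y s (mI0 t) = form i y s t * i := by
  obtain ⟨q, c, d⟩ := t
  obtain rfl : d = 0 := ht
  have key : ∀ c : ℕ, y ^ c * i = (y ^ c * i * (y ^ c)⁻¹) * y ^ c := fun c => by group
  fin_cases c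
  · simp [mI0, form, formQ_I R]
  · show formQ i y (qJ q) * y ^ 1 * s ^ 0 = formQ i y q * y ^ 1 * s ^ 0 * i
    rw [formQ_J R, pow_one, pow_zero, mul_one, mul_one]
    group
  · show formQ i y (qJ (qI q)) * y ^ 2 * s ^ 0 = formQ i y q * y ^ 2 * s ^ 0 * i
    rw [formQ_J R, formQ_I R, pow_zero, mul_one, mul_one, mul_assoc (formQ i y q) i, R.ij]
    group

theorem form_I (t : Form) : form i y s (mI t) = form i y s t * i := by
  obtain ⟨q, c, d⟩ := t
  fin_cases d
  · exact form_I0 R _ rfl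
  · set t0 : Form := (q, c, 0) with ht0
    have e : ∀ u : Form, form i y s (u.1, u.2.1, 1) = form i y s (u.1, u.2.1, 0) * s := fun u => by
      simp [form]
    have e3 : mI0 (mI0 (mI0 (q, c, (1 : Fin 2)))) = ((mI0 (mI0 (mI0 t0))).1, (mI0 (mI0 (mI0 t0))).2.1, 1) := rfl
    show form i y s (mI0 (mI0 (mI0 (q, c, (1 : Fin 2))))) = form i y s (q, c, 1) * i
    rw [e3, e, show ((mI0 (mI0 (mI0 t0))).1, (mI0 (mI0 (mI0 t0))).2.1, (0 : Fin 2)) = mI0 (mI0 (mI0 t0)) from rfl,
      form_I0 R _ rfl, form_I0 R _ rfl, form_I0 R _ rfl, e (q, c, 1), mul_assoc _ s i, R.si, pow_succ, pow_two]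
    simp only [mul_assoc]
    rfl

theorem form_Y (t : Form) : form i y s (mY t) = form i y s t * y := by
  obtain ⟨q, c, d⟩ := t
  fin_cases d
  · show formQ i y q * y ^ ((c + 1 : Fin 3) : ℕ) * s ^ 0 = formQ i y q * y ^ (c : ℕ) * s ^ 0 * y
    rw [pow_fin3 R]; simp [mul_assoc]
  · show formQ i y q * y ^ ((c + 2 : Fin 3) : ℕ) * s ^ 1 = formQ i y q * y ^ (c : ℕ) * s ^ 1 * y
    rw [pow_fin3 R, pow_one, mul_assoc _ s y, R.sy]
    simp only [mul_assoc]
    rfl

theorem form_S (t : Form) : form i y s (mS t) = form i y s t * s := by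
  obtain ⟨q, c, d⟩ := t
  fin_cases d
  · simp [mS, form]
  · simp [mS, form, mul_assoc, R.s2]

end CfsgLib.JankoFour.Eleven

namespace CfsgLib.JankoFour.Eleven

open Matrix

/-- The group GL(2,3). -/
abbrev GL23 := GL (Fin 2) (ZMod 3)

/-- First generator. -/
def gI : GL23 := ⟨!![0, 1; 2, 0], !![0, 2; 1, 0], by decide +kernel, by decide +kernel⟩

/-- Second generator. -/
def gY : GL23 := ⟨!![1, 2; 0, 1], !![1, 1; 0, 1], by decide +kernel, by decide +kernel⟩

/-- Third generator. -/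
def gS : GL23 := ⟨!![1, 0; 0, 2], !![1, 0; 0, 2], by decide +kernel, by decide +kernel⟩

theorem gl_rel : GLRel gI gY gS where
  i4 := by decide +kernel
  y3 := by decide +kernel
  s2 := by decide +kernel
  sy := by decide +kernel
  si := by decide +kernel
  jj := by decide +kernel
  ij := by decide +kernel
  ji := by decide +kernel

theorem gl_form_injective : Function.Injective (form gI gY gS) := by
  have h : ∀ a b : Form, form gI gY gS a = form gI gY gS b → a = b := by decide +kernel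
  exact h

theorem gl_card : Fintype.card GL23 = Fintype.card Form := by
  rw [← Nat.card_eq_fintype_card, Matrix.card_GL_field]
  decide +kernel

theorem gl_form_bijective : Function.Bijective (form gI gY gS) :=
  (Fintype.bijective_iff_injective_and_card _).2 ⟨gl_form_injective, gl_card.symm⟩

/-- Three elements with the relations and distinct normal forms span a copy of GL(2,3). -/
theorem exists_gl23 {A : Type*} [Group A] {i y s : A} (R : GLRel i y s)
    (hinj : Function.Injective (form i y s)) {P : Subgroup A} (hi : i ∈ P) (hy : y ∈ P) (hs : s ∈ P) :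
    ∃ K : Subgroup A, K ≤ P ∧ Nonempty (↥K ≃* GL23) := by
  classical
  let e0 := Equiv.ofBijective _ gl_form_bijective
  let e : GL23 → A := fun g => form i y s (e0.symm g)
  have he : ∀ t, e (form gI gY gS t) = form i y s t := fun t => by
    show form i y s (e0.symm (e0 t)) = _
    rw [Equiv.symm_apply_apply]
  have h1 : form gI gY gS ((0, 0), 0, 0) = 1 := by decide +kernel
  have e1 : e 1 = 1 := by rw [← h1, he]; simp [form, formQ]
  have hgen : ∀ (f : Form → Form) (g : GL23) (a : A), (∀ t, form gI gY gS (f t) = form gI gY gS t * g) →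
      (∀ t, form i y s (f t) = form i y s t * a) → ∀ h, e (h * g) = e h * a := by
    intro f g a hg ha h
    obtain ⟨t, rfl⟩ := gl_form_bijective.2 h
    rw [← hg, he, he, ha]
  have hI := hgen mI gI i (form_I gl_rel) (form_I R)
  have hY := hgen mY gY y (form_Y gl_rel) (form_Y R)
  have hS := hgen mS gS s (form_S gl_rel) (form_S R)
  let M : Submonoid GL23 :=
    { carrier := {g | ∀ h, e (h * g) = e h * e g}
      mul_mem' := fun {a b} ha hb h => by
        show e (h * (a * b)) = e h * e (a * b)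
        rw [← mul_assoc, hb, ha, hb a, mul_assoc]
      one_mem' := fun h => by rw [mul_one, e1, mul_one] }
  have hg : ∀ {g : GL23} {a : A}, (∀ h, e (h * g) = e h * a) → g ∈ M := fun {g a} hh h => by
    show e (h * g) = e h * e g
    rw [show e g = a by have := hh 1; rwa [one_mul, e1, one_mul] at this]
    exact hh h
  have hIM : gI ∈ M := hg hI
  have hYM : gY ∈ M := hg hY
  have hSM : gS ∈ M := hg hS
  have hall : ∀ g, g ∈ M := fun g => by
    obtain ⟨t, rfl⟩ := gl_form_bijective.2 g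
    refine mul_mem (mul_mem (mul_mem (pow_mem hIM _) (pow_mem (mul_mem (mul_mem hYM hIM) ?_) _)) (pow_mem hYM _))
      (pow_mem hSM _)
    rw [show gY⁻¹ = gY ^ 2 by decide +kernel]
    exact pow_mem hYM 2
  let f : GL23 →* A := MonoidHom.mk' e fun a b => hall b a
  have hf : Function.Injective f := fun a b h => e0.symm.injective (hinj h)
  refine ⟨f.range, ?_, ⟨(MonoidHom.ofInjective hf).symm⟩⟩
  rintro _ ⟨g, rfl⟩
  show form i y s _ ∈ P
  exact mul_mem (mul_mem (mul_mem (pow_mem hi _) (pow_mem (mul_mem (mul_mem hy hi) (inv_mem hy)) _)) (pow_mem hy _))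
    (pow_mem hs _)

end CfsgLib.JankoFour.Eleven
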