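import Cfsg.Agent.Lib.JankoFourEleven.Classes
import Cfsg.Agent.Lib.JankoFourEleven.GLTwoThree

/-!
# A GL(2,3) in the Sylow 11-normalizer (owner: helper25)

The quaternion group and the element of order three of `C(x) ∩ C(z)` together with an involution inverting `x`
satisfy the relations of GL(2,3).
-/

set_option autoImplicit false
set_option linter.unusedSectionVars false
set_option linter.style.haveILetI false

namespace CfsgLib.JankoFour.Eleven

open Cfsg CfsgLib.ThreeTrans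

variable {G : Type*} [Group G] [Finite G]

/-- A normal Sylow subgroup holds every element of prime power order. -/
theorem mem_of_pgroup {p : ℕ} [hp : Fact p.Prime] {P C : Subgroup G} {k m : ℕ} (hPc : Nat.card ↥P = p ^ k)
    (hPC : P ≤ C) (hCc : Nat.card ↥C = p ^ k * m) (hm : ¬ p ∣ m) (hn : C ≤ Subgroup.normalizer (P : Set G))
    {a : G} (ha : a ∈ C) {j : ℕ} (haj : a ^ p ^ j = 1) : a ∈ P := by
  obtain ⟨i, -, hi⟩ := (Nat.dvd_prime_pow hp.out).1 (orderOf_dvd_of_pow_eq_one haj)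
  have hz : IsPGroup p (Subgroup.zpowers a) := IsPGroup.of_card (n := i) (by rw [Nat.card_zpowers, hi])
  have hsup : IsPGroup p ↥(Subgroup.zpowers a ⊔ P) :=
    hz.to_sup_of_normal_right' (IsPGroup.of_card hPc) (Subgroup.zpowers_le.2 (hn ha))
  obtain ⟨n, hn'⟩ := IsPGroup.iff_card.1 hsup
  have hd : Nat.card ↥(Subgroup.zpowers a ⊔ P) ∣ p ^ k * m := by
    rw [← hCc]; exact Subgroup.card_dvd_of_le (sup_le (Subgroup.zpowers_le.2 ha) hPC)
  rw [hn'] at hd
  have hd' := (Nat.Coprime.pow_left n ((Nat.Prime.coprime_iff_not_dvd hp.out).2 hm)).dvd_of_dvd_mul_right hd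
  have e : P = Subgroup.zpowers a ⊔ P := Subgroup.eq_of_le_of_card_ge le_sup_right (by
    rw [hn', hPc]; exact Nat.le_of_dvd (pow_pos hp.out.pos k) hd')
  rw [e]
  exact Subgroup.mem_sup_left (Subgroup.mem_zpowers a)

variable [IsSimpleGroup G] {z x : G} {U : Subgroup G} (h : Hyp z) (S : Std z x U)
include h S

theorem Hyp.comm_mem {a b : G} (ha : a ∈ U) (hb : b ∈ U) : a * b * a⁻¹ * b⁻¹ ∈ Subgroup.zpowers x := by
  have h1 : (⟨a, ha⟩ * ⟨b, hb⟩ * (⟨a, ha⟩ : ↥U)⁻¹ * (⟨b, hb⟩ : ↥U)⁻¹) ∈ Subgroup.center ↥U := by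
    rw [← (h.extraspecial S).1.2.2, commutator_def, ← commutatorElement_def]
    exact Subgroup.commutator_mem_commutator (Subgroup.mem_top _) (Subgroup.mem_top _)
  refine (h.center_eq S).1 ⟨mul_mem (mul_mem (mul_mem ha hb) (inv_mem ha)) (inv_mem hb), fun c hc => ?_⟩
  exact congrArg Subtype.val (Subgroup.mem_center_iff.1 h1 ⟨c, hc⟩)

omit h in
theorem Std.pow_x : x ^ 11 = 1 := by rw [← S.hx, pow_orderOf_eq_one]

/-- The points of `U` fixed by `z`. -/
theorem Hyp.cent_U_z {a : G} (ha : a ∈ U) (haz : Commute a z) : a ∈ Subgroup.zpowers x := by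
  haveI : Fact (Nat.Prime 11) := ⟨by norm_num⟩
  have hC := (z_data h.nonab h.type S.hx S.hxz).1.card_eq
  refine mem_of_pgroup (p := 11) (k := 1) (m := 24) (C := CC z x) (by rw [Nat.card_zpowers, S.hx, pow_one])
    (Subgroup.zpowers_le.2 (mem_CC.2 ⟨S.hxz, Commute.refl x⟩)) (by rw [hC]; norm_num) (by norm_num) ?_
    (mem_CC.2 ⟨haz, mem_CX.1 (S.le_X ha)⟩) (j := 3) (h.U_pow S ha)
  intro c hc
  refine mem_normalizer_of_conj fun b hb => ?_
  obtain ⟨i, rfl⟩ := hb
  show c * x ^ i * c⁻¹ ∈ _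
  rw [((mem_CC.1 hc).2.zpow_right i).eq, mul_inv_cancel_right]
  exact zpow_mem (Subgroup.mem_zpowers x) i

/-- `z` inverts `U` modulo `⟨x⟩`. -/
theorem Hyp.z_inverts {u : G} (hu : u ∈ U) : u * (z * u * z⁻¹) ∈ Subgroup.zpowers x := by
  haveI : Fact (Nat.Prime 2) := ⟨Nat.prime_two⟩
  set Z := Subgroup.zpowers x
  have hz : orderOf z = 2 := h.type.choose_spec.1
  have hzz : z * z = 1 := by rw [← pow_two, ← hz, pow_orderOf_eq_one]
  have hzi : z⁻¹ = z := inv_eq_of_mul_eq_one_right hzz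
  have hzN : z ∈ Subgroup.normalizer (U : Set G) := S.le_N (mem_CX.2 S.hxz.symm)
  have hconj : ∀ a ∈ U, z * a * z⁻¹ ∈ U := fun a ha => (Subgroup.mem_normalizer_iff.1 hzN a).1 ha
  have hw : u * (z * u * z⁻¹) ∈ U := mul_mem hu (hconj u hu)
  have hcm := h.comm_mem S (hconj u hu) hu
  obtain ⟨a, ha, haz⟩ := exists_fixed_coset (p := 2) (s := z) (u := u * (z * u * z⁻¹)) (I := Z)
    (by rw [pow_two, hzz]) (by rw [Nat.card_zpowers, S.hx]; norm_num)
    (fun b hb => by
      obtain ⟨i, rfl⟩ := hb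
      show z * x ^ i * z⁻¹ ∈ Z
      rw [((S.hxz.zpow_left i).symm).eq, mul_inv_cancel_right]
      exact zpow_mem (Subgroup.mem_zpowers x) i)
    (by
      have e : z * (u * (z * u * z⁻¹)) * z⁻¹ * (u * (z * u * z⁻¹))⁻¹ =
          z * u * z⁻¹ * u * (z * u * z⁻¹)⁻¹ * u⁻¹ := by
        simp only [mul_inv_rev, hzi]
        have e1 : ∀ b : G, z * (z * b) = b := fun b => by rw [← mul_assoc, hzz, one_mul]
        simp only [mul_assoc, e1]
      rw [e]; exact hcm)
  have haU : a ∈ U := by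
    have h1 : a * (u * (z * u * z⁻¹))⁻¹ ∈ U :=
      (Subgroup.zpowers_le.2 (h.x_mem_U S) : Z ≤ U) ha
    have h2 := mul_mem h1 hw
    rwa [inv_mul_cancel_right] at h2
  have haZ := h.cent_U_z S haU haz
  have h2 := mul_mem (inv_mem ha) haZ
  simpa using h2

/-- No element inverting `x` squares to `z`. -/
theorem Hyp.sq_ne_z {g : G} (hgz : Commute g z) (hgx : g * x * g⁻¹ = x⁻¹) : g * g ≠ z := by
  classical
  haveI : Fact (Nat.Prime 11) := ⟨by norm_num⟩
  intro hgg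
  set Z := Subgroup.zpowers x
  have hxc : ∀ b ∈ U, ∀ i : ℤ, Commute b (x ^ i) := fun b hb i => (mem_CX.1 (S.le_X hb)).zpow_right i
  have hZU : Z ≤ U := Subgroup.zpowers_le.2 (h.x_mem_U S)
  have hgN : g ∈ Subgroup.normalizer (U : Set G) := (h.mem_N S).2 (hgx ▸ inv_mem (Subgroup.mem_zpowers x))
  have hgU : ∀ a ∈ U, g * a * g⁻¹ ∈ U := fun a ha => (Subgroup.mem_normalizer_iff.1 hgN a).1 ha
  have hgZ : ∀ i : ℤ, g * x ^ i * g⁻¹ = x ^ (-i) := fun i => by
    rw [← conj_zpow, hgx, inv_zpow, zpow_neg]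
  obtain ⟨u, hu, huZ⟩ : ∃ u ∈ U, u ∉ Z := by
    by_contra hno
    simp only [not_exists, not_and, not_not] at hno
    have h1 := Subgroup.card_le_of_le (show U ≤ Z from hno)
    rw [S.card_U, Nat.card_zpowers, S.hx] at h1
    norm_num at h1
  set v := g * u * g⁻¹ with hv
  have hvU : v ∈ U := hgU u hu
  obtain ⟨e, he⟩ := h.z_inverts S hu
  have he' : x ^ e = u * (z * u * z⁻¹) := he
  have hgv : g * v * g⁻¹ = u⁻¹ * x ^ e := by
    rw [he', hv, ← hgg]; group
  -- `u` and `v` commute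
  obtain ⟨c, hc⟩ := h.comm_mem S hu hvU
  have hc' : x ^ c = u * v * u⁻¹ * v⁻¹ := hc
  have huv : Commute v u := by
    have h1 : g * (x ^ c) * g⁻¹ = x ^ c := by
      have hxe : Commute v (x ^ e) := hxc v hvU e
      have hue : Commute u (x ^ e) := hxc u hu e
      calc g * x ^ c * g⁻¹ = v * (g * v * g⁻¹) * v⁻¹ * (g * v * g⁻¹)⁻¹ := by rw [hc', hv]; group
        _ = v * u⁻¹ * (x ^ e * v⁻¹) * (x ^ e)⁻¹ * u := by rw [hgv]; group
        _ = v * u⁻¹ * v⁻¹ * u := by rw [← hxe.inv_left.eq]; group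
        _ = u⁻¹ * (u * v * u⁻¹ * v⁻¹) * u := by group
        _ = x ^ c := by rw [← hc', ((hxc u hu c).inv_left).eq, inv_mul_cancel_right]
    rw [hgZ, zpow_eq_zpow_iff_modEq, S.hx] at h1
    have h2 : x ^ c = 1 := by
      rw [← zpow_zero x, zpow_eq_zpow_iff_modEq, S.hx]
      unfold Int.ModEq at h1 ⊢
      omega
    rw [hc'] at h2
    have h3 : u * v * u⁻¹ = v := mul_inv_eq_one.1 h2
    exact Commute.symm (mul_inv_eq_iff_eq_mul.1 h3)
  -- the centralizer of `u` in `U`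
  set W := U ⊓ CX u
  obtain ⟨k, hk3, hk⟩ : ∃ k ≤ 3, Nat.card ↥W = 11 ^ k :=
    (Nat.dvd_prime_pow (Fact.out : Nat.Prime 11)).1 (S.card_U ▸ Subgroup.card_dvd_of_le inf_le_left)
  have hk2 : Nat.card ↥W ≤ 121 := by
    rw [hk]
    refine (Nat.pow_le_pow_right (by norm_num) (show k ≤ 2 from ?_)).trans_eq (by norm_num)
    by_contra hlt
    have e : W = U := Subgroup.eq_of_le_of_card_ge inf_le_left (by rw [hk, S.card_U, show k = 3 by omega])
    exact huZ ((h.center_eq S).1 ⟨hu, fun b hb => mem_CX.1 (Subgroup.mem_inf.1 (e.symm ▸ hb : b ∈ W)).2⟩)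
  have hu11 : u ^ 11 = 1 := h.pow_eleven S hu
  have hx11 : x ^ 11 = 1 := S.pow_x
  have hpow : ∀ n : ℕ, u ^ n ∈ Z → 11 ∣ n := by
    intro n hn
    by_contra hnd
    obtain ⟨m, hm⟩ := exists_pow_eq_self_of_coprime (x := u) (n := n) (by
      rw [orderOf_eq_prime hu11 fun e => huZ (e ▸ one_mem Z)]
      exact ((Nat.Prime.coprime_iff_not_dvd (Fact.out : Nat.Prime 11)).2 hnd).symm)
    exact huZ (hm ▸ pow_mem hn m)
  let f : Fin 11 × Fin 11 → ↥W := fun t => ⟨u ^ (t.1 : ℕ) * x ^ (t.2 : ℕ), Subgroup.mem_inf.2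
    ⟨mul_mem (pow_mem hu _) (pow_mem (h.x_mem_U S) _),
      mem_CX.2 (((Commute.refl u).pow_left _).mul_left ((mem_CX.1 (S.le_X hu)).symm.pow_left _))⟩⟩
  have hf : Function.Injective f := by
    intro a b hab
    have e : u ^ (a.1 : ℕ) * x ^ (a.2 : ℕ) = u ^ (b.1 : ℕ) * x ^ (b.2 : ℕ) := congrArg Subtype.val hab
    have e1 : (a.1 : ℕ) = b.1 := by
      have hmem : ∀ p q : Fin 11, ∀ r t : ℕ, (q : ℕ) ≤ p → u ^ (p : ℕ) * x ^ r = u ^ (q : ℕ) * x ^ t →
          (p : ℕ) = q := by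
        intro p q r t hle e
        have h1 : u ^ ((p : ℕ) - q) = x ^ t * (x ^ r)⁻¹ := by
          rw [pow_sub u hle, eq_mul_inv_iff_mul_eq]
          have hcm : Commute ((u ^ (q : ℕ))⁻¹) (u ^ (p : ℕ)) := ((Commute.refl u).pow_pow _ _).inv_left
          rw [← hcm.eq, mul_assoc, e, inv_mul_cancel_left]
        have h2 := hpow _ (h1 ▸ mul_mem (pow_mem (Subgroup.mem_zpowers x) t)
          (inv_mem (pow_mem (Subgroup.mem_zpowers x) r)))
        have h3 := Nat.eq_zero_of_dvd_of_lt h2 (by omega)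
        omega
      rcases le_total (b.1 : ℕ) a.1 with hle | hle
      · exact hmem _ _ _ _ hle e
      · exact (hmem _ _ _ _ hle e.symm).symm
    rw [e1] at e
    refine Prod.ext (Fin.ext e1) (Fin.ext (pow_injOn_Iio_orderOf ?_ ?_ (mul_left_cancel e)))
    · exact Set.mem_Iio.2 (by rw [S.hx]; exact a.2.2)
    · exact Set.mem_Iio.2 (by rw [S.hx]; exact b.2.2)
  have hfs : Function.Bijective f := (Nat.bijective_iff_injective_and_card f).2 ⟨hf, le_antisymm
    (Nat.card_le_card_of_injective f hf) (hk2.trans_eq (by simp))⟩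
  obtain ⟨⟨a, b⟩, hab⟩ := hfs.2 ⟨v, Subgroup.mem_inf.2 ⟨hvU, mem_CX.2 huv⟩⟩
  have hv' : u ^ (a : ℕ) * x ^ (b : ℕ) = v := congrArg Subtype.val hab
  have hzmem : u ^ ((a : ℕ) * a + 1) ∈ Z := by
    have h1 : g * v * g⁻¹ = v ^ (a : ℕ) * x ^ (-(b : ℤ)) := by
      conv_lhs => rw [← hv']
      rw [show g * (u ^ (a : ℕ) * x ^ (b : ℕ)) * g⁻¹ = g * u ^ (a : ℕ) * g⁻¹ * (g * x ^ ((b : ℕ) : ℤ) * g⁻¹) by
        rw [zpow_natCast]; group, hgZ, ← conj_pow]
    have hcu : Commute (u ^ (a : ℕ)) (x ^ (b : ℕ)) := ((mem_CX.1 (S.le_X hu)).pow_pow _ _)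
    rw [hgv, ← hv', hcu.mul_pow, ← pow_mul] at h1
    have h2 : u ^ ((a : ℕ) * a + 1) = x ^ e * ((x ^ (b : ℕ)) ^ (a : ℕ) * x ^ (-(b : ℤ)))⁻¹ := by
      rw [pow_succ', eq_mul_inv_iff_mul_eq, mul_assoc, ← mul_assoc (u ^ ((a : ℕ) * a)), ← h1, mul_inv_cancel_left]
    rw [h2]
    exact mul_mem (zpow_mem (Subgroup.mem_zpowers x) _) (inv_mem (mul_mem (pow_mem (pow_mem
      (Subgroup.mem_zpowers x) _) _) (zpow_mem (Subgroup.mem_zpowers x) _)))
  have hno : ∀ a : Fin 11, ¬ 11 ∣ (a : ℕ) * a + 1 := by decide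
  exact hno a (hpow _ hzmem)

/-- An involution of `C(z)` inverting `x` and normalizing a given subgroup of order three. -/
theorem Hyp.exists_inverter {Q : Subgroup G} {y : G} (hQC : Q ≤ CC z x) (hQ8 : Nat.card ↥Q = 8)
    (hQn : ∀ g, Commute g z → g * x * g⁻¹ ∈ Subgroup.zpowers x → ∀ q ∈ Q, g * q * g⁻¹ ∈ Q)
    (hy : orderOf y = 3) (hyC : y ∈ CC z x) (hQy : ∀ q ∈ Q, Commute q y → q ∈ Subgroup.zpowers z) :
    ∃ s, s * s = 1 ∧ Commute s z ∧ s * x * s⁻¹ = x⁻¹ ∧ (s * y * s⁻¹ = y ∨ s * y * s⁻¹ = y⁻¹) := by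
  classical
  haveI : Fact (Nat.Prime 2) := ⟨Nat.prime_two⟩
  haveI : Fact (Nat.Prime 3) := ⟨Nat.prime_three⟩
  obtain ⟨D, -, g0, hg0z, hg0⟩ := z_data h.nonab h.type S.hx S.hxz
  have hx1 : x⁻¹ ≠ 1 := fun e => by
    have := S.hx
    rw [inv_eq_one.1 e, orderOf_one] at this
    norm_num at this
  obtain ⟨g, hgm, hgx⟩ := isConj_pow_of_square S.hx hg0 (inv_mem (Subgroup.mem_zpowers x)) hx1
  have hgz : Commute g z := by
    obtain ⟨i, rfl⟩ := hgm; exact hg0z.zpow_left i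
  set C := CC z x
  have hgyC : g * y * g⁻¹ ∈ C := by
    refine mem_CC.2 ⟨?_, ?_⟩
    · exact ((hgz.mul_left (mem_CC.1 hyC).1).mul_left hgz.inv_left)
    · have h1 := (commute_conj (g := g)).2 (mem_CC.1 hyC).2
      rw [hgx] at h1
      simpa using h1.inv_right
  have hC : Nat.card ↥C = 264 := D.card_eq
  have hfac : (Nat.card ↥C).factorization 3 = 1 := by
    rw [hC, show (264 : ℕ) = 3 ^ 1 * 88 from rfl, Nat.factorization_mul (by norm_num) (by norm_num),
      Finsupp.add_apply, Nat.Prime.factorization_pow Nat.prime_three, Finsupp.single_eq_same,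
      Nat.factorization_eq_zero_of_not_dvd (by norm_num)]
  let A : Sylow 3 C := Sylow.ofCard (Subgroup.zpowers ⟨y, hyC⟩)
    (by rw [Nat.card_zpowers, ← Subgroup.orderOf_coe, hy, hfac, pow_one])
  let B : Sylow 3 C := Sylow.ofCard (Subgroup.zpowers ⟨g * y * g⁻¹, hgyC⟩)
    (by rw [Nat.card_zpowers, ← Subgroup.orderOf_coe, orderOf_conj', hy, hfac, pow_one])
  obtain ⟨c, hc⟩ := MulAction.exists_smul_eq C B A
  obtain ⟨i, hi⟩ : c * ⟨g * y * g⁻¹, hgyC⟩ * c⁻¹ ∈ Subgroup.zpowers (⟨y, hyC⟩ : C) := by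
    have h1 : c * ⟨g * y * g⁻¹, hgyC⟩ * c⁻¹ ∈ (A : Subgroup C) := by
      rw [← hc]
      exact Subgroup.smul_mem_pointwise_smul _ (MulAut.conj c) (B : Subgroup C)
        (by rw [Sylow.coe_ofCard]; exact Subgroup.mem_zpowers _)
    rwa [Sylow.coe_ofCard] at h1
  have hi' : y ^ i = (c : G) * (g * y * g⁻¹) * (c : G)⁻¹ := congrArg Subtype.val hi
  set g1 := (c : G) * g with hg1
  have h1z : Commute g1 z := (mem_CC.1 c.2).1.mul_left hgz
  have h1x : g1 * x * g1⁻¹ = x⁻¹ := by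
    rw [show g1 * x * g1⁻¹ = (c : G) * (g * x * g⁻¹) * (c : G)⁻¹ by rw [hg1]; group, hgx,
      (mem_CC.1 c.2).2.inv_right.eq, mul_inv_cancel_right]
  have h1y : g1 ∈ Subgroup.normalizer (Subgroup.zpowers y : Set G) := mem_normalizer_of_conj fun a ha => by
    obtain ⟨j, rfl⟩ := ha
    show g1 * y ^ j * g1⁻¹ ∈ _
    rw [← conj_zpow, show g1 * y * g1⁻¹ = y ^ i by rw [hi', hg1]; group]
    exact zpow_mem (zpow_mem (Subgroup.mem_zpowers y) i) j
  obtain ⟨a, m, hm, ham⟩ := Nat.exists_eq_two_pow_mul_odd (orderOf_pos g1).ne'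
  obtain ⟨l, hl⟩ := hm
  set s := g1 ^ m with hs
  have hsz : Commute s z := h1z.pow_left m
  have hsx : s * x * s⁻¹ = x⁻¹ := by
    have h2 : Commute ((g1 * g1) ^ l) x := by
      refine Commute.pow_left (mul_inv_eq_iff_eq_mul.1 ?_) l
      rw [show g1 * g1 * x * (g1 * g1)⁻¹ = g1 * (g1 * x * g1⁻¹) * g1⁻¹ by group, h1x,
        show g1 * x⁻¹ * g1⁻¹ = (g1 * x * g1⁻¹)⁻¹ by group, h1x, inv_inv]
    rw [hs, hl, pow_succ', pow_mul, pow_two,
      show g1 * (g1 * g1) ^ l * x * (g1 * (g1 * g1) ^ l)⁻¹ =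
        g1 * ((g1 * g1) ^ l * x * ((g1 * g1) ^ l)⁻¹) * g1⁻¹ by group, h2.eq, mul_inv_cancel_right, h1x]
  have hsy : s * y * s⁻¹ = y ∨ s * y * s⁻¹ = y⁻¹ := by
    obtain ⟨j, hj⟩ := (Subgroup.mem_normalizer_iff.1 (pow_mem h1y m) y).1 (Subgroup.mem_zpowers y)
    have hj' : y ^ (j % 3) = s * y * s⁻¹ := by
      rw [← show y ^ j = s * y * s⁻¹ from hj]
      conv_rhs => rw [← zpow_mod_orderOf, hy]
      rfl
    have h0 := Int.emod_nonneg j (show (3 : ℤ) ≠ 0 by norm_num)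
    have h3 := Int.emod_lt_of_pos j (show (0 : ℤ) < 3 by norm_num)
    rcases (show j % 3 = 0 ∨ j % 3 = 1 ∨ j % 3 = 2 by omega) with e | e | e
    · rw [e, zpow_zero] at hj'
      rw [eq_comm, conj_eq_one_iff] at hj'
      rw [hj', orderOf_one] at hy
      norm_num at hy
    · left; rw [← hj', e, zpow_one]
    · right
      rw [← hj', e]
      refine (inv_eq_of_mul_eq_one_right ?_).symm
      rw [show (2 : ℤ) = ((2 : ℕ) : ℤ) from rfl, zpow_natCast, ← pow_succ']
      show y ^ 3 = 1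
      rw [← hy, pow_orderOf_eq_one]
  -- the square
  have hssC : s * s ∈ C := by
    refine mem_CC.2 ⟨hsz.mul_left hsz, mul_inv_eq_iff_eq_mul.1 ?_⟩
    rw [show s * s * x * (s * s)⁻¹ = s * (s * x * s⁻¹) * s⁻¹ by group, hsx,
      show s * x⁻¹ * s⁻¹ = (s * x * s⁻¹)⁻¹ by group, hsx, inv_inv]
  have hssy : Commute (s * s) y := by
    refine mul_inv_eq_iff_eq_mul.1 ?_
    rw [show s * s * y * (s * s)⁻¹ = s * (s * y * s⁻¹) * s⁻¹ by group]
    rcases hsy with e | e
    · rw [e, e]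
    · rw [e, show s * y⁻¹ * s⁻¹ = (s * y * s⁻¹)⁻¹ by group, e, inv_inv]
  have hssp : (s * s) ^ 2 ^ a = 1 := by
    rw [((Commute.refl s).mul_pow _), hs, ← pow_mul, mul_comm m, ← ham, pow_orderOf_eq_one, one_mul]
  have hssQ : s * s ∈ Q := by
    refine mem_of_pgroup (p := 2) (k := 3) (m := 33) (C := C) (by rw [hQ8]; norm_num) hQC (by rw [hC]; norm_num)
      (by norm_num) (fun b hb => mem_normalizer_of_conj (hQn b (mem_CC.1 hb).1 ?_)) hssC hssp
    rw [(mem_CC.1 hb).2.eq, mul_inv_cancel_right]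
    exact Subgroup.mem_zpowers x
  rcases mem_zpowers_of_order_two h.type.choose_spec.1 (hQy _ hssQ hssy) with e | e
  · exact ⟨s, e, hsz, hsx, hsy⟩
  · exact absurd e (h.sq_ne_z S hsz hsx)

/-- A subgroup GL(2,3) of the normalizer. -/
theorem Hyp.exists_complement :
    ∃ K : Subgroup G, K ≤ Subgroup.normalizer (U : Set G) ∧ Nonempty (↥K ≃* GL (Fin 2) (ZMod 3)) := by
  classical
  obtain ⟨D, -, -⟩ := z_data h.nonab h.type S.hx S.hxz
  obtain ⟨Q, hQC, hQ8, hzQ, hsq, hQn, y, hy, hyC, -, hQy⟩ := D.quat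
  obtain ⟨s, hss, hsz, hsx, hsy⟩ := h.exists_inverter S hQC hQ8 hQn hy hyC hQy
  have hz : orderOf z = 2 := h.type.choose_spec.1
  have hzz : z * z = 1 := by rw [← pow_two, ← hz, pow_orderOf_eq_one]
  have hsi : s⁻¹ = s := inv_eq_of_mul_eq_one_right hss
  have hy3 : y ^ 3 = 1 := hy ▸ pow_orderOf_eq_one y
  have hyi : y⁻¹ = y ^ 2 := inv_eq_of_mul_eq_one_right (by rw [← pow_succ', hy3])
  have hy2i : (y ^ 2)⁻¹ = y := by rw [← hyi, inv_inv]
  have hqz : ∀ {q : G}, q ∈ Q → Commute q z := fun hq => (mem_CC.1 (hQC hq)).1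
  have hqx : ∀ {q : G}, q ∈ Q → Commute q x := fun hq => (mem_CC.1 (hQC hq)).2
  have hyz : Commute y z := (mem_CC.1 hyC).1
  have hyQ : ∀ {q : G}, q ∈ Q → y * q * y⁻¹ ∈ Q := fun hq => hQn y hyz (by
    rw [(mem_CC.1 hyC).2.eq, mul_inv_cancel_right]; exact Subgroup.mem_zpowers x) _ hq
  have hsQ : ∀ {q : G}, q ∈ Q → s * q * s ∈ Q := fun hq => by
    have := hQn s hsz (hsx ▸ inv_mem (Subgroup.mem_zpowers x)) _ hq
    rwa [hsi] at this
  -- the three cosets
  have hne : ∀ {i : G}, i ∈ Q → i ∉ Subgroup.zpowers z → ∀ e ∈ Subgroup.zpowers z,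
      y * i * y⁻¹ ≠ i * e := by
    intro i hi hiz e he heq
    rcases mem_zpowers_of_order_two hz he with e1 | e1
    · rw [e1, mul_one] at heq
      exact hiz (hQy i hi (mul_inv_eq_iff_eq_mul.1 heq).symm)
    · rw [e1] at heq
      refine hiz (hQy i hi (Commute.symm ?_))
      have h2 : Commute (y ^ 2) i := mul_inv_eq_iff_eq_mul.1 (by
        rw [show y ^ 2 * i * (y ^ 2)⁻¹ = y * (y * i * y⁻¹) * y⁻¹ by rw [pow_two]; group, heq,
          show y * (i * z) * y⁻¹ = y * i * y⁻¹ * (y * z * y⁻¹) by group, heq, hyz.eq, mul_inv_cancel_right,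
          mul_assoc, hzz, mul_one])
      rw [← hyi] at h2
      simpa using h2.inv_left
  have hzp : ∀ {e : G}, e ∈ ({1, z} : Set G) → e ∈ Subgroup.zpowers z := by
    intro e he
    rcases he with rfl | rfl
    exacts [one_mem _, Subgroup.mem_zpowers _]
  have hout : ∀ {i : G}, i ∈ Q → i ∉ Subgroup.zpowers z →
      i ≠ 1 ∧ i ≠ z ∧ y * i * y⁻¹ ∉ Subgroup.zpowers z ∧ y ^ 2 * i * (y ^ 2)⁻¹ ∉ Subgroup.zpowers z := by
    intro i hi hiz
    refine ⟨fun e => hiz (e ▸ one_mem _), fun e => hiz (e ▸ Subgroup.mem_zpowers z), fun hm => hiz ?_,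
      fun hm => hiz ?_⟩
    · rcases mem_zpowers_of_order_two hz hm with e | e
      · rw [conj_eq_one_iff] at e; rw [e]; exact one_mem _
      · rw [show i = y⁻¹ * (y * i * y⁻¹) * y by group, e, hyz.inv_left.eq, inv_mul_cancel_right]
        exact Subgroup.mem_zpowers z
    · rcases mem_zpowers_of_order_two hz hm with e | e
      · rw [conj_eq_one_iff] at e; rw [e]; exact one_mem _
      · rw [show i = (y ^ 2)⁻¹ * (y ^ 2 * i * (y ^ 2)⁻¹) * y ^ 2 by group, e, (hyz.pow_left 2).inv_left.eq,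
          inv_mul_cancel_right]
        exact Subgroup.mem_zpowers z
  have hcases : ∀ {i : G}, i ∈ Q → i ∉ Subgroup.zpowers z → ∀ q ∈ Q, q ∉ Subgroup.zpowers z →
      ∃ e ∈ ({1, z} : Set G), q = i * e ∨ q = y * i * y⁻¹ * e ∨ q = y ^ 2 * i * (y ^ 2)⁻¹ * e := by
    intro i hi hiz q hq hqn
    obtain ⟨h1, h2, h3, h4⟩ := hout hi hiz
    set j := y * i * y⁻¹ with hj
    set k := y ^ 2 * i * (y ^ 2)⁻¹ with hk
    have hjk : y * j * y⁻¹ = k := by rw [hj, hk, pow_two]; group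
    have hne1 := hne hi hiz
    have hne2 : ∀ e ∈ Subgroup.zpowers z, k ≠ j * e := hjk ▸ hne (hyQ hi) h3
    have hne3 : ∀ e ∈ Subgroup.zpowers z, i ≠ k * e := by
      have e3 : y * k * y⁻¹ = i := by
        rw [hk, show y * (y ^ 2 * i * (y ^ 2)⁻¹) * y⁻¹ = y ^ 3 * i * (y ^ 3)⁻¹ by group, hy3]; simp
      exact e3 ▸ hne (hjk ▸ hyQ (hyQ hi)) h4
    have hkQ : k ∈ Q := hjk ▸ hyQ (hyQ hi)
    let F : Finset G := {1, z, i, i * z, j, j * z, k, k * z}
    have hFQ : (F : Set G) ⊆ Q := by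
      intro a ha
      simp only [F, Finset.coe_insert, Finset.coe_singleton, Set.mem_insert_iff, Set.mem_singleton_iff] at ha
      rcases ha with rfl | rfl | rfl | rfl | rfl | rfl | rfl | rfl
      exacts [one_mem _, hzQ, hi, mul_mem hi hzQ, hyQ hi, mul_mem (hyQ hi) hzQ, hkQ, mul_mem hkQ hzQ]
    have hF : F.card = 8 := by
      have z1 := Subgroup.mem_zpowers z
      have o1 : (1 : G) ∈ Subgroup.zpowers z := one_mem _
      have hz1 : z ≠ 1 := fun e => by rw [e, orderOf_one] at hz; norm_num at hz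
      have sw : ∀ {p q : G}, p * z = q → p = q * z := fun e => by rw [← e, mul_assoc, hzz, mul_one]
      have hmz : ∀ {p : G}, p ∉ Subgroup.zpowers z → p * z ∉ Subgroup.zpowers z := fun hp hm =>
        hp (by simpa [mul_assoc, hzz] using mul_mem hm z1)
      have a1 := hmz hiz
      have a2 := hmz h3
      have a3 := hmz h4
      have d : ∀ {p : G}, p ≠ p * z := fun e => hz1 (mul_eq_left.1 e.symm)
      have c1 : i ≠ j := fun e => hne1 1 o1 (by rw [mul_one]; exact e.symm)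
      have c2 : i ≠ j * z := fun e => hne1 z z1 (sw e.symm)
      have c3 : i * z ≠ j := fun e => hne1 z z1 e.symm
      have c4 : i * z ≠ j * z := fun e => c1 (mul_right_cancel e)
      have c5 : j ≠ k := fun e => hne2 1 o1 (by rw [mul_one]; exact e.symm)
      have c6 : j ≠ k * z := fun e => hne2 z z1 (sw e.symm)
      have c7 : j * z ≠ k := fun e => hne2 z z1 e.symm
      have c8 : j * z ≠ k * z := fun e => c5 (mul_right_cancel e)
      have c9 : i ≠ k := fun e => hne3 1 o1 (by rw [mul_one]; exact e)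
      have c10 : i ≠ k * z := fun e => hne3 z z1 e
      have c11 : i * z ≠ k := fun e => hne3 z z1 (sw e)
      have c12 : i * z ≠ k * z := fun e => c9 (mul_right_cancel e)
      have m : ∀ {p : G}, p ∉ Subgroup.zpowers z → (1 : G) ≠ p ∧ z ≠ p := fun hp =>
        ⟨fun e => hp (e ▸ o1), fun e => hp (e ▸ z1)⟩
      simp [F, Ne.symm hz1, m hiz, m h3, m h4, m a1, m a2, m a3, c1, c2, c3, c4, c5, c6, c7, c8, c9, c10, c11,
        c12, d]
    have e : (F : Set G) = Q := Set.eq_of_subset_of_ncard_le hFQ (by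
      rw [Set.ncard_coe_finset, hF, ← Nat.card_coe_set_eq]; exact hQ8.le) (Set.toFinite _)
    have hqF : q ∈ (F : Set G) := e ▸ hq
    simp only [F, Finset.coe_insert, Finset.coe_singleton, Set.mem_insert_iff, Set.mem_singleton_iff] at hqF
    rcases hqF with rfl | rfl | rfl | rfl | rfl | rfl | rfl | rfl
    · exact absurd (one_mem _) hqn
    · exact absurd (Subgroup.mem_zpowers q) hqn
    · exact ⟨1, Or.inl rfl, Or.inl (mul_one _).symm⟩
    · exact ⟨z, Or.inr rfl, Or.inl rfl⟩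
    · exact ⟨1, Or.inl rfl, Or.inr (Or.inl (mul_one _).symm)⟩
    · exact ⟨z, Or.inr rfl, Or.inr (Or.inl rfl)⟩
    · exact ⟨1, Or.inl rfl, Or.inr (Or.inr (mul_one _).symm)⟩
    · exact ⟨z, Or.inr rfl, Or.inr (Or.inr rfl)⟩
  have hnofix : ∀ i ∈ Q, i ∉ Subgroup.zpowers z → s * i * s ≠ i := by
    intro i hi hiz e
    refine h.sq_ne_z S (g := s * i) (hsz.mul_left (hqz hi)) ?_ ?_
    · rw [show s * i * x * (s * i)⁻¹ = s * (i * x * i⁻¹) * s⁻¹ by group, (hqx hi).eq, mul_inv_cancel_right, hsx]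
    · rw [show s * i * (s * i) = s * i * s * i by group, e]; exact hsq i hi hiz
  -- an element whose coset is fixed
  obtain ⟨i₀, hi₀, hi₀z⟩ : ∃ i ∈ Q, i ∉ Subgroup.zpowers z := by
    by_contra hno
    simp only [not_exists, not_and, not_not] at hno
    have h1 := Subgroup.card_le_of_le (show Q ≤ Subgroup.zpowers z from hno)
    rw [hQ8, Nat.card_zpowers, hz] at h1
    norm_num at h1
  have hsne : ∀ {i : G}, i ∈ Q → i ∉ Subgroup.zpowers z → s * i * s ∉ Subgroup.zpowers z := by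
    intro i hi hiz hm
    apply hiz
    rw [show i = s * (s * i * s) * s by simp [mul_assoc, hss, ← mul_assoc s s]]
    rcases mem_zpowers_of_order_two hz hm with e | e <;> rw [e]
    · rw [mul_one, hss]; exact one_mem _
    · rw [hsz.eq, mul_assoc, hss, mul_one]; exact Subgroup.mem_zpowers z
  obtain ⟨i₁, hi₁, hi₁z, hinv₁, hinvy⟩ : ∃ i ∈ Q, i ∉ Subgroup.zpowers z ∧ s * i * s = i * z ∧
      s * y * s = y⁻¹ := by
    obtain ⟨e, he, hcase⟩ := hcases hi₀ hi₀z _ (hsQ hi₀) (hsne hi₀ hi₀z)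
    have hez : e * e = 1 := by rcases he with rfl | rfl; exacts [one_mul 1, hzz]
    have hes : s * e * s = e := by
      rcases he with rfl | rfl
      · rw [mul_one, hss]
      · rw [hsz.eq, mul_assoc, hss, mul_one]
    have hey : Commute y e := by rcases he with rfl | rfl; exacts [Commute.one_right y, hyz]
    obtain ⟨h1, h2, h3, h4⟩ := hout hi₀ hi₀z
    set j := y * i₀ * y⁻¹ with hj
    set k := y ^ 2 * i₀ * (y ^ 2)⁻¹ with hk
    have hjQ : j ∈ Q := hyQ hi₀
    have hkQ : k ∈ Q := by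
      rw [hk, show y ^ 2 * i₀ * (y ^ 2)⁻¹ = y * j * y⁻¹ by rw [hj, pow_two]; group]
      exact hyQ hjQ
    have fin : ∀ w ∈ Q, w ∉ Subgroup.zpowers z → ∀ d ∈ ({1, z} : Set G), s * w * s = w * d →
        s * w * s = w * z := by
      intro w hw hwz d hd hwd
      rcases hd with rfl | rfl
      · exact absurd (hwd.trans (mul_one w)) (hnofix w hw hwz)
      · exact hwd
    have hconjs : ∀ a b : G, s * (a * b * a⁻¹) * s = (s * a * s) * (s * b * s) * (s * a * s)⁻¹ := by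
      intro a b
      simp only [mul_inv_rev, hsi]
      have e1 : ∀ c : G, s * (s * c) = c := fun c => by rw [← mul_assoc, hss, one_mul]
      simp only [mul_assoc, e1]
    rw [hsi] at hsy
    have hyk : y * k * y⁻¹ = i₀ := by
      rw [hk, show y * (y ^ 2 * i₀ * (y ^ 2)⁻¹) * y⁻¹ = y ^ 3 * i₀ * (y ^ 3)⁻¹ by group, hy3]; simp
    have hjk : y * j * y⁻¹ = k := by rw [hj, hk, pow_two]; group
    rcases hsy with hy1 | hy1
    · exfalso
      -- the three cosets would be fixed, so some element is centralised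
      have hj' : ∀ b : G, s * (y * b * y⁻¹) * s = y * (s * b * s) * y⁻¹ := fun b => by rw [hconjs, hy1]
      have hmove : ∀ a b : G, y * (a * e) * y⁻¹ = y * a * y⁻¹ * e := fun a b => by
        rw [show y * (a * e) * y⁻¹ = y * a * y⁻¹ * (y * e * y⁻¹) by group, hey.eq, mul_inv_cancel_right]
      have hi : s * i₀ * s = i₀ * e := by
        rcases hcase with hc | hc | hc
        · exact hc
        · exfalso
          have hsj : s * j * s = k * e := by rw [hj, hj', hc, hmove j j, hjk]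
          have h5 : i₀ = k * (e * e) := by
            conv_lhs => rw [show i₀ = s * (s * i₀ * s) * s by simp [mul_assoc, hss, ← mul_assoc s s]]
            rw [hc, show s * (j * e) * s = (s * j * s) * (s * e * s) by simp [mul_assoc, ← mul_assoc s s, hss], hsj,
              hes, mul_assoc]
          rw [hez, mul_one] at h5
          have h7 : y * i₀ * y⁻¹ = i₀ := by conv_lhs => rw [h5, hyk]
          exact hne hi₀ hi₀z 1 (one_mem _) (by rw [mul_one]; exact h7)
        · exfalso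
          have hsk : s * k * s = j * e := by
            have h5 : s * j * s = i₀ * e := by rw [hj, hj', hc, hmove k k, hyk]
            rw [← hjk, hj', h5, hmove i₀ i₀]
          have h5 : i₀ = j * (e * e) := by
            conv_lhs => rw [show i₀ = s * (s * i₀ * s) * s by simp [mul_assoc, hss, ← mul_assoc s s]]
            rw [hc, show s * (k * e) * s = (s * k * s) * (s * e * s) by simp [mul_assoc, ← mul_assoc s s, hss], hsk,
              hes, mul_assoc]
          rw [hez, mul_one] at h5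
          exact hne hi₀ hi₀z 1 (one_mem _) (by rw [← hj, ← h5, mul_one])
      have hi' := fin i₀ hi₀ hi₀z e he hi
      have hsj : s * j * s = j * z := by
        rw [hj, hj', hi', show y * (i₀ * z) * y⁻¹ = y * i₀ * y⁻¹ * (y * z * y⁻¹) by group, hyz.eq,
          mul_inv_cancel_right]
      refine hnofix (i₀ * j) (mul_mem hi₀ hjQ) (fun hm => ?_) ?_
      · rcases mem_zpowers_of_order_two hz hm with e' | e'
        · refine hne hi₀ hi₀z z (Subgroup.mem_zpowers z) ?_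
          rw [← hj, ← inv_eq_of_mul_eq_one_right e']
          exact inv_eq_of_mul_eq_one_right (by rw [← mul_assoc, hsq i₀ hi₀ hi₀z, hzz])
        · refine hne hi₀ hi₀z 1 (one_mem _) ?_
          rw [← hj, mul_one]
          exact mul_left_cancel (e'.trans (hsq i₀ hi₀ hi₀z).symm)
      · rw [show s * (i₀ * j) * s = (s * i₀ * s) * (s * j * s) by simp [mul_assoc, ← mul_assoc s s, hss], hi', hsj,
          show i₀ * z * (j * z) = i₀ * (z * j) * z by group, (hqz hjQ).symm.eq]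
        simp [mul_assoc, hzz]
    · have hy1' : s * y⁻¹ * s = y := by
        have := congrArg Inv.inv hy1
        rw [mul_inv_rev, mul_inv_rev, hsi, inv_inv, ← mul_assoc] at this
        exact this
      have hmove : ∀ a : G, y⁻¹ * (a * e) * y = y⁻¹ * a * y * e := fun a => by
        rw [show y⁻¹ * (a * e) * y = y⁻¹ * a * y * (y⁻¹ * e * y) by group, hey.inv_left.eq, inv_mul_cancel_right]
      have hj' : ∀ b : G, s * (y * b * y⁻¹) * s = y⁻¹ * (s * b * s) * y := fun b => by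
        rw [hconjs, hy1, inv_inv]
      rcases hcase with hc | hc | hc
      · exact ⟨i₀, hi₀, hi₀z, fin i₀ hi₀ hi₀z e he hc, hy1⟩
      · refine ⟨k, hkQ, h4, fin k hkQ h4 e he ?_, hy1⟩
        have hsj : s * j * s = i₀ * e := by
          rw [hj, hj', hc, hmove, hj]; group
        rw [← hjk, hj', hsj, hmove, hjk, hk, hy2i, ← hyi]
      · refine ⟨j, hjQ, h3, fin j hjQ h3 e he ?_, hy1⟩
        rw [hj, hj', hc, hmove, hk, ← hyi, inv_inv]
        rw [show y⁻¹ * (y⁻¹ * i₀ * y) * y = (y ^ 2)⁻¹ * i₀ * y ^ 2 by rw [pow_two]; group, hy2i, ← hyi]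
  -- fix the sign
  obtain ⟨i, hi, hiz, hinv, hij⟩ : ∃ i ∈ Q, i ∉ Subgroup.zpowers z ∧ s * i * s = i * z ∧
      i * (y * i * y⁻¹) = y ^ 2 * i * (y ^ 2)⁻¹ := by
    obtain ⟨h1, h2, h3, h4⟩ := hout hi₁ hi₁z
    set j := y * i₁ * y⁻¹ with hj
    have hne1 := hne hi₁ hi₁z
    have hn : i₁ * j ∉ Subgroup.zpowers z := fun hm => by
      rcases mem_zpowers_of_order_two hz hm with e | e
      · refine hne1 z (Subgroup.mem_zpowers z) ?_
        rw [← hj, ← inv_eq_of_mul_eq_one_right e]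
        exact inv_eq_of_mul_eq_one_right (by rw [← mul_assoc, hsq i₁ hi₁ hi₁z, hzz])
      · refine hne1 1 (one_mem _) ?_
        rw [← hj, mul_one]
        exact mul_left_cancel (e.trans (hsq i₁ hi₁ hi₁z).symm)
    obtain ⟨e, he, hcase⟩ := hcases hi₁ hi₁z _ (mul_mem hi₁ (hyQ hi₁)) hn
    rcases hcase with hc | hc | hc
    · exact absurd ((mul_left_cancel hc).symm ▸ hzp he : y * i₁ * y⁻¹ ∈ Subgroup.zpowers z) h3
    · refine absurd (show i₁ ∈ Subgroup.zpowers z from ?_) hi₁z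
      have he2 : Commute (y * i₁ * y⁻¹) e := by
        rcases he with rfl | rfl
        exacts [Commute.one_right _, hqz (hyQ hi₁)]
      rw [← hj] at he2 hc
      rw [he2.eq] at hc
      rw [mul_right_cancel hc]
      exact hzp he
    · rcases he with rfl | rfl
      · exact ⟨i₁, hi₁, hi₁z, hinv₁, by rw [← hj]; exact hc.trans (mul_one _)⟩
      · refine ⟨i₁ * e, mul_mem hi₁ hzQ, fun hm => hi₁z (by
          simpa [mul_assoc, hzz] using mul_mem hm (Subgroup.mem_zpowers e)), ?_, ?_⟩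
        · rw [show s * (i₁ * e) * s = (s * i₁ * s) * (s * e * s) by simp [mul_assoc, ← mul_assoc s s, hss], hinv₁,
            hsz.eq, mul_assoc e s s, hss, mul_one]
        · have e1 : ∀ a : G, Commute a e → a * (i₁ * e) * a⁻¹ = a * i₁ * a⁻¹ * e := fun a ha => by
            rw [show a * (i₁ * e) * a⁻¹ = a * i₁ * a⁻¹ * (a * e * a⁻¹) by group, ha.eq, mul_inv_cancel_right]
          rw [e1 y hyz, e1 _ (hyz.pow_left 2), ← hc]
          calc i₁ * e * (y * i₁ * y⁻¹ * e) = i₁ * (e * (y * i₁ * y⁻¹)) * e := by group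
            _ = i₁ * (y * i₁ * y⁻¹) * (e * e) := by rw [(hqz (hyQ hi₁)).symm.eq]; group
            _ = i₁ * (y * i₁ * y⁻¹) := by rw [hzz, mul_one]
  set j := y * i * y⁻¹ with hj
  obtain ⟨h1, h2, h3, h4⟩ := hout hi hiz
  have hi2 : i * i = z := hsq i hi hiz
  have hj2 : j * j = z := hsq j (hyQ hi) h3
  have hii : i⁻¹ = i * z := inv_eq_of_mul_eq_one_right (by rw [← mul_assoc, hi2, hzz])
  have hjj : j⁻¹ = j * z := inv_eq_of_mul_eq_one_right (by rw [← mul_assoc, hj2, hzz])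
  have hi3 : i ^ 3 = i * z := by rw [pow_succ', pow_two, hi2]
  have R : GLRel i y s :=
    { i4 := by rw [show (4 : ℕ) = 2 * 2 from rfl, pow_mul, pow_two i, hi2, pow_two, hzz]
      y3 := hy3
      s2 := hss
      sy := by rw [← hyi, ← hinvy, mul_assoc _ s s, hss, mul_one]
      si := by rw [hi3, ← hinv, mul_assoc _ s s, hss, mul_one]
      jj := by rw [pow_two, hi2]; exact hj2
      ij := hij
      ji := by
        have h5 : i * j * (i * j) = z := by
          rw [hij]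
          refine hsq _ ?_ h4
          rw [← hij]; exact mul_mem hi (hyQ hi)
        have h6 : j * i = i⁻¹ * z * j⁻¹ := by rw [← h5]; group
        rw [← hj, h6, hii, hjj, hi3, mul_assoc i z z, hzz, mul_one]
        calc i * (j * z) = i * (z * j) := by rw [(hqz (hyQ hi)).eq]
          _ = i * z * j := (mul_assoc _ _ _).symm }
  have hinj : Function.Injective (form i y s) := by
    have hQm : ∀ q, formQ i y q ∈ Q := fun q => mul_mem (pow_mem hi _) (pow_mem (hyQ hi) _)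
    have hcx : ∀ (q : Fin 4 × Fin 2) (c : ℕ), Commute (formQ i y q * y ^ c) x := fun q c =>
      (hqx (hQm q)).mul_left ((mem_CC.1 hyC).2.pow_left c)
    have hd : ∀ (q : Fin 4 × Fin 2) (c : ℕ) (q' : Fin 4 × Fin 2) (c' : ℕ),
        formQ i y q * y ^ c * s ≠ formQ i y q' * y ^ c' := by
      intro q c q' c' e
      have h5 : Commute s x := by
        rw [show s = (formQ i y q * y ^ c)⁻¹ * (formQ i y q' * y ^ c') by rw [← e]; group]
        exact (hcx q c).inv_left.mul_left (hcx q' c')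
      rw [h5.eq, mul_inv_cancel_right] at hsx
      have h6 : x ^ 2 = 1 := by rw [pow_two]; nth_rw 2 [hsx]; rw [mul_inv_cancel]
      have h7 := orderOf_dvd_of_pow_eq_one h6
      rw [S.hx] at h7
      norm_num at h7
    have hq : Function.Injective (formQ i y) := by
      rintro ⟨a, b⟩ ⟨a', b'⟩ e
      have hjpow : ∀ n : ℕ, j ≠ i ^ n := by
        intro n e
        rcases Nat.even_or_odd' n with ⟨m, rfl | rfl⟩
        · rw [pow_mul, pow_two, hi2] at e
          exact h3 (show j ∈ _ by rw [e]; exact pow_mem (Subgroup.mem_zpowers z) m)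
        · rw [pow_succ', pow_mul, pow_two, hi2] at e
          exact hne hi hiz _ (pow_mem (Subgroup.mem_zpowers z) m) e
      have ho : orderOf i = 4 := by
        refine orderOf_eq_prime_pow (p := 2) (n := 1) ?_ ?_
        · rw [pow_one, pow_two, hi2]; exact fun e => by rw [e, orderOf_one] at hz; norm_num at hz
        · exact R.i4
      have e' : i ^ (a : ℕ) * j ^ (b : ℕ) = i ^ (a' : ℕ) * j ^ (b' : ℕ) := e
      have hbb : b = b' := by
        have key : ∀ a a' : Fin 4, i ^ (a : ℕ) * j ≠ i ^ (a' : ℕ) := by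
          intro a a' e
          refine hjpow (4 - (a : ℕ) + a') ?_
          rw [pow_add, ← e, ← mul_assoc, ← pow_add, Nat.sub_add_cancel a.2.le, R.i4, one_mul]
        fin_cases b <;> fin_cases b' <;> first | rfl | (exfalso; simp at e')
        · exact key a' a e'.symm
        · exact key a a' e'
      subst hbb
      exact Prod.ext (Fin.ext (pow_injOn_Iio_orderOf (Set.mem_Iio.2 (ho.symm ▸ a.2))
        (Set.mem_Iio.2 (ho.symm ▸ a'.2)) (mul_right_cancel e'))) rfl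
    rintro ⟨q, c, d⟩ ⟨q', c', d'⟩ e
    have e' : formQ i y q * y ^ (c : ℕ) * s ^ (d : ℕ) = formQ i y q' * y ^ (c' : ℕ) * s ^ (d' : ℕ) := e
    have hdd : d = d' := by
      fin_cases d <;> fin_cases d' <;> first | rfl | (exfalso; simp at e')
      · exact hd q' c' q c e'.symm
      · exact hd q c q' c' e'
    subst hdd
    have e2 := mul_right_cancel e'
    have hcc : (c : ℕ) = c' := by
      have h5 : y ^ (c : ℕ) * (y ^ (c' : ℕ))⁻¹ ∈ Q := by
        rw [show y ^ (c : ℕ) * (y ^ (c' : ℕ))⁻¹ =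
          (formQ i y q)⁻¹ * (formQ i y q * y ^ (c : ℕ)) * (y ^ (c' : ℕ))⁻¹ by group, e2,
          show (formQ i y q)⁻¹ * (formQ i y q' * y ^ (c' : ℕ)) * (y ^ (c' : ℕ))⁻¹ =
            (formQ i y q)⁻¹ * formQ i y q' by group]
        exact mul_mem (inv_mem (hQm q)) (hQm q')
      have h6 := orderOf_dvd_natCard (⟨_, h5⟩ : Q)
      rw [← Subgroup.orderOf_coe, hQ8] at h6
      have h7 : orderOf (y ^ (c : ℕ) * (y ^ (c' : ℕ))⁻¹) ∣ 3 := orderOf_dvd_of_pow_eq_one (by
        have hcm : Commute (y ^ (c : ℕ)) (y ^ (c' : ℕ))⁻¹ := ((Commute.refl y).pow_pow _ _).inv_right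
        rw [hcm.mul_pow, inv_pow, ← pow_mul, ← pow_mul, mul_comm (c : ℕ), mul_comm (c' : ℕ), pow_mul, pow_mul,
          hy3, one_pow, one_pow, inv_one, one_mul])
      have h8 : y ^ (c : ℕ) * (y ^ (c' : ℕ))⁻¹ = 1 := by
        rw [← orderOf_eq_one_iff]
        exact Nat.dvd_one.1 ((Nat.dvd_gcd h6 h7).trans (dvd_of_eq (by norm_num)))
      exact pow_injOn_Iio_orderOf (Set.mem_Iio.2 (hy.symm ▸ c.2)) (Set.mem_Iio.2 (hy.symm ▸ c'.2))
        (mul_inv_eq_one.1 h8)
    obtain rfl : c = c' := Fin.ext hcc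
    rw [hq (mul_right_cancel e2)]
  refine exists_gl23 R hinj (S.le_N (mem_CX.2 (hqx hi))) (S.le_N (mem_CX.2 (mem_CC.1 hyC).2)) ?_
  exact (h.mem_N S).2 (hsx ▸ inv_mem (Subgroup.mem_zpowers x))

end CfsgLib.JankoFour.Eleven
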