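import Cfsg.Agent.Lib.JankoFourEleven.Complement
import Cfsg.Agent.Lib.JankoFourLocals.Facts
import Cfsg.Agent.Lib.ThreeTrans.LargeExtra

/-!
# The 11-locals of a group of Janko-four type of the known order (owner: helper25)

The Sylow 11-subgroups, their normalizers and the two classes of elements of order eleven.
-/

set_option autoImplicit false
set_option linter.style.haveILetI false

namespace CfsgLib.JankoFour.Eleven

open Cfsg CfsgLib.ThreeTrans

variable {G : Type*} [Group G] [Finite G] [IsSimpleGroup G]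

/-- The hypotheses follow from the order. -/
theorem Hyp.of_order (hG : ¬ IsMulCommutative G) {z : G} (hJ : IsOfJankoFourTypeAt z)
    (hord : Nat.card G = 2 ^ 21 * 3 ^ 3 * 5 * 7 * 11 ^ 3 * 23 * 29 * 31 * 37 * 43) : Hyp z where
  nonab := hG
  type := hJ
  order := hord
  big p hp y g hy hgy := by
    rw [← CfsgLib.JankoFourLocals.self_centralising hG ⟨z, hJ⟩ (by rw [hord]; rfl) hp hy]
    exact mem_CX.2 hgy

/-- The centralizer of an element of order eleven commuting with an involution of the second class. -/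
theorem card_cent_second (hG : ¬ IsMulCommutative G) {z : G} (hJ : IsOfJankoFourTypeAt z)
    (hord : Nat.card G = 2 ^ 21 * 3 ^ 3 * 5 * 7 * 11 ^ 3 * 23 * 29 * 31 * 37 * 43) {x t : G} (hx : orderOf x = 11)
    (ht : orderOf t = 2) (hnc : ¬ IsConj z t) (hxt : Commute x t) :
    Nat.card ↥(Subgroup.centralizer ({x} : Set G)) = 242 :=
  (Hyp.of_order hG hJ hord).t_cent hx ht hnc hxt

/-- The structure of a Sylow 11-subgroup and its normalizer. -/
theorem sylow_eleven_structure (hG : ¬ IsMulCommutative G) (hJ : IsOfJankoFourType G)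
    (hord : Nat.card G = 2 ^ 21 * 3 ^ 3 * 5 * 7 * 11 ^ 3 * 23 * 29 * 31 * 37 * 43) (U : Sylow 11 G) :
    IsExtraspecial 11 ↥(U : Subgroup G) ∧ Nat.card ↥(U : Subgroup G) = 11 ^ 3 ∧
    Monoid.exponent ↥(U : Subgroup G) = 11 ∧
    Nat.card ↥(Subgroup.normalizer ((U : Subgroup G) : Set G)) = 2 ^ 4 * 3 * 5 * 11 ^ 3 ∧
    ∃ K : Subgroup G, K ≤ Subgroup.normalizer ((U : Subgroup G) : Set G) ∧
      Nonempty (↥K ≃* GL (Fin 2) (ZMod 3)) := by
  classical
  haveI : Fact (Nat.Prime 11) := ⟨by norm_num⟩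
  obtain ⟨z, hz⟩ := hJ
  have h := Hyp.of_order hG hz hord
  obtain ⟨x, U₀, S⟩ := h.exists_std
  obtain ⟨T, hT⟩ := h.sylow_eq S
  obtain ⟨g, hg⟩ := MulAction.exists_smul_eq G T U
  set c : G →* G := (MulAut.conj g).toMonoidHom with hc
  have hU : (U : Subgroup G) = U₀.map c := by rw [← hg, ← hT]; rfl
  have hinj : Function.Injective c := (MulAut.conj g).injective
  let e : ↥U₀ ≃* ↥(U : Subgroup G) :=
    (Subgroup.equivMapOfInjective U₀ c hinj).trans (MulEquiv.subgroupCongr hU.symm)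
  have hN : Subgroup.normalizer ((U : Subgroup G) : Set G) = (Subgroup.normalizer (U₀ : Set G)).map c := by
    rw [hU]
    ext a
    rw [Subgroup.mem_map]
    constructor
    · intro ha
      refine ⟨g⁻¹ * a * g, mem_normalizer_of_conj fun b hb => ?_, ?_⟩
      · obtain ⟨b', hb', hbb⟩ := (Subgroup.mem_normalizer_iff.1 ha (c b)).1 (Subgroup.mem_map_of_mem c hb)
        have h1 : g * b' * g⁻¹ = a * (g * b * g⁻¹) * a⁻¹ := hbb
        rw [show g⁻¹ * a * g * b * (g⁻¹ * a * g)⁻¹ = g⁻¹ * (a * (g * b * g⁻¹) * a⁻¹) * g by group, ← h1,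
          show g⁻¹ * (g * b' * g⁻¹) * g = b' by group]
        exact hb'
      · show g * (g⁻¹ * a * g) * g⁻¹ = a
        group
    · rintro ⟨a', ha', rfl⟩
      refine mem_normalizer_of_conj fun b hb => ?_
      obtain ⟨b', hb', rfl⟩ := Subgroup.mem_map.1 hb
      rw [← map_inv, ← map_mul, ← map_mul]
      exact Subgroup.mem_map_of_mem c ((Subgroup.mem_normalizer_iff.1 ha' b').1 hb')
  obtain ⟨K, hK, ⟨f⟩⟩ := h.exists_complement S
  have hUc : Nat.card ↥(U : Subgroup G) = 11 ^ 3 := h.card_sylow U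
  refine ⟨isExtraspecial_congr (h.extraspecial S) e, hUc, ?_, ?_, K.map c, ?_,
    ⟨(Subgroup.equivMapOfInjective K c hinj).symm.trans f⟩⟩
  · refine ((Nat.dvd_prime (Fact.out : Nat.Prime 11)).1 ?_).resolve_left fun h1 => ?_
    · refine Monoid.exponent_dvd_of_forall_pow_eq_one fun a => ?_
      obtain ⟨b, rfl⟩ := e.surjective a
      rw [← map_pow, ← map_one e]
      exact congrArg e (Subtype.ext (h.pow_eleven S b.2))
    · have hs := Monoid.exp_eq_one_iff.1 h1
      rw [Nat.card_unique] at hUc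
      norm_num at hUc
  · rw [hN, Subgroup.card_map_of_injective hinj, h.card_N S]
    norm_num
  · rw [hN]; exact Subgroup.map_mono hK

/-- Exactly two classes of elements of order eleven. -/
theorem two_classes (hG : ¬ IsMulCommutative G) (hJ : IsOfJankoFourType G)
    (hord : Nat.card G = 2 ^ 21 * 3 ^ 3 * 5 * 7 * 11 ^ 3 * 23 * 29 * 31 * 37 * 43) :
    ∃ x y : G, orderOf x = 11 ∧ orderOf y = 11 ∧ ¬ IsConj x y ∧
      ∀ w : G, orderOf w = 11 → IsConj w x ∨ IsConj w y := by
  obtain ⟨z, hz⟩ := hJ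
  have h := Hyp.of_order hG hz hord
  obtain ⟨x, U₀, S⟩ := h.exists_std
  exact h.two_classes_eleven S

end CfsgLib.JankoFour.Eleven
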