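import Cfsg.Agent.Lib.JankoFourEleven.Tools
import Cfsg.Agent.Lib.JankoFour.PairAut
import Cfsg.Agent.Lib.JankoFour.PointFixerRank
import Cfsg.Agent.Lib.Sporadic.MathieuDefectZero
import Cfsg.Agent.Lib.Sporadic.MathieuAut

/-!
# Elements of order eleven in M24 and in the automorphism group of M22 (owner: helper25)

They are self-centralising and conjugate to their squares; no Sylow 2-subgroup of M24 is abelian.
-/

set_option autoImplicit false
set_option linter.unusedSectionVars false

namespace CfsgLib.JankoFour.Eleven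

open Cfsg CfsgLib.Sporadic CfsgLib.Sporadic.Hexad22 MulAction

/-- An element of order eleven of M24 is self-centralising and conjugate to its square. -/
theorem m24_eleven {a : ↥M24} (ha : orderOf a = 11) :
    (∀ b, Commute b a → b ∈ Subgroup.zpowers a) ∧ ∃ g, g * a * g⁻¹ = a ^ 2 := by
  classical
  haveI : Fact (Nat.Prime 11) := ⟨by norm_num⟩
  obtain ⟨y, hy, hy2, hyN⟩ := exists_x11
  set P := Subgroup.zpowers y with hP
  set N := Subgroup.normalizer (P : Set ↥M24)
  have hd : ¬ 11 * 11 ∣ Nat.card ↥M24 := by rw [M24_card]; norm_num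
  obtain ⟨g, hg⟩ := isConj_iff.1 hy2
  -- the normalizer has order 110
  have hfac : (Nat.card ↥M24).factorization 11 = 1 := by
    rw [M24_card, show (244823040 : ℕ) = 11 * 22256640 by norm_num,
      Nat.factorization_mul (by norm_num) (by norm_num), Finsupp.add_apply,
      (Fact.out : Nat.Prime 11).factorization_self, Nat.factorization_eq_zero_of_not_dvd (by norm_num)]
  let T : Sylow 11 ↥M24 := Sylow.ofCard P (by rw [hP, Nat.card_zpowers, hy, hfac, pow_one])
  have hmod : N.index % 11 = 1 := by
    have h := card_sylow_modEq_one 11 ↥M24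
    rw [T.card_eq_index_normalizer, Nat.ModEq] at h
    exact h.trans (Nat.one_mod _)
  have hN : Nat.card N = 110 := by
    have h := N.card_mul_index
    rw [M24_card] at h
    have h11 : 11 ∣ Nat.card N := by
      have := Subgroup.card_dvd_of_le (Subgroup.le_normalizer (H := P))
      rwa [hP, Nat.card_zpowers, hy] at this
    obtain ⟨m, hm⟩ := h11
    rw [hm] at h hyN ⊢
    have hm' : m ≤ 10 := by
      by_contra hc
      have : 11 * 11 ≤ 11 * m := Nat.mul_le_mul_left _ (not_le.1 hc)
      have := hyN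
      omega
    interval_cases m <;> omega
  -- the action on the subgroup has image of order 10
  set φ := Subgroup.normalizerMonoidHom P
  have hmap : ∀ (n : N), ((φ n ⟨y, Subgroup.mem_zpowers y⟩ : P) : ↥M24) = (n : ↥M24) * y * (n : ↥M24)⁻¹ :=
    fun n => rfl
  have hgN : g ∈ N := by
    rw [CfsgLib.Core.mem_normalizer_iff_conj_smul_eq, CfsgLib.Core.conj_smul_eq_map, hP, MonoidHom.map_zpowers]
    refine Subgroup.eq_of_le_of_card_ge (Subgroup.zpowers_le.2 ?_) (le_of_eq ?_)
    · show g * y * g⁻¹ ∈ _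
      rw [hg]
      exact pow_mem (Subgroup.mem_zpowers y) 2
    · rw [Nat.card_zpowers, Nat.card_zpowers, MulEquiv.toMonoidHom_eq_coe, MonoidHom.coe_coe, MulEquiv.orderOf_eq]
  have hr : 10 ≤ Nat.card φ.range := by
    let u : N := ⟨g, hgN⟩
    let f : Fin 10 → φ.range := fun i => ⟨φ (u ^ (i : ℕ)), ⟨_, rfl⟩⟩
    have hv : ∀ i : ℕ, ((u ^ i : N) : ↥M24) * y * ((u ^ i : N) : ↥M24)⁻¹ = y ^ (2 ^ i) := by
      intro i
      induction i with
      | zero => simp
      | succ i ih =>
        rw [pow_succ', Subgroup.coe_mul, show ((u : N) : ↥M24) * ((u ^ i : N) : ↥M24) * y *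
          (((u : N) : ↥M24) * ((u ^ i : N) : ↥M24))⁻¹ = (u : ↥M24) * (((u ^ i : N) : ↥M24) * y *
            ((u ^ i : N) : ↥M24)⁻¹) * (u : ↥M24)⁻¹ by group, ih, ← conj_pow, show (u : ↥M24) = g from rfl, hg,
          ← pow_mul, ← pow_succ']
    have hf : Function.Injective f := fun i j e => by
      have h : φ (u ^ (i : ℕ)) = φ (u ^ (j : ℕ)) := congrArg Subtype.val e
      have h' := (hmap _).symm.trans ((congrArg (fun q : MulAut P => ((q ⟨y, Subgroup.mem_zpowers y⟩ : P) : ↥M24))
        h).trans (hmap _))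
      rw [hv, hv, pow_eq_pow_iff_modEq, hy] at h'
      have key : ∀ a b : Fin 10, 2 ^ (a : ℕ) % 11 = 2 ^ (b : ℕ) % 11 → a = b := by decide
      exact key i j h'
    simpa using Nat.card_le_card_of_injective f hf
  -- self-centralising
  have hC : ∀ b : ↥M24, Commute b y → b ∈ P := by
    intro b hb
    have hcP : ∀ p ∈ P, Commute b p := by
      rintro _ ⟨k, rfl⟩; exact hb.zpow_right k
    have hbN : b ∈ N := Subgroup.mem_normalizer_iff.2 fun p =>
      ⟨fun hp => by rwa [(hcP p hp).eq, mul_inv_cancel_right], fun hp => by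
        have h := (hcP _ hp).eq
        rw [inv_mul_cancel_right, mul_left_cancel_iff] at h
        rwa [h] at hp⟩
    have hPk : P.subgroupOf N ≤ φ.ker := fun p hp => by
      rw [MonoidHom.mem_ker]
      refine MulEquiv.ext fun q => Subtype.ext ?_
      show (p : ↥M24) * q * (p : ↥M24)⁻¹ = q
      obtain ⟨i, hi⟩ := Subgroup.mem_subgroupOf.1 hp
      obtain ⟨j, hj⟩ := q.2
      rw [show (p : ↥M24) = y ^ i from hi.symm, show (q : ↥M24) = y ^ j from hj.symm,
        ((Commute.refl y).zpow_zpow i j).eq, mul_inv_cancel_right]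
    have h := φ.ker.card_mul_index
    rw [Subgroup.index_ker, hN] at h
    have hk : Nat.card φ.ker ≤ 11 := by
      by_contra hc
      have := Nat.mul_le_mul (not_le.1 hc) hr
      omega
    have e : P.subgroupOf N = φ.ker := Subgroup.eq_of_le_of_card_ge hPk (by
      rw [Nat.card_congr (Subgroup.subgroupOfEquivOfLe (Subgroup.le_normalizer (H := P))).toEquiv,
        show Nat.card P = 11 from (Nat.card_zpowers y).trans hy]
      exact hk)
    have hbk : (⟨b, hbN⟩ : N) ∈ φ.ker := by
      rw [MonoidHom.mem_ker]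
      refine MulEquiv.ext fun q => Subtype.ext ?_
      show b * (q : ↥M24) * b⁻¹ = q
      rw [(hcP q q.2).eq, mul_inv_cancel_right]
    rw [← e] at hbk
    exact Subgroup.mem_subgroupOf.1 hbk
  -- transport to `a`
  obtain ⟨h, -, hh⟩ := exists_conj_eq (K := (⊤ : Subgroup ↥M24)) (by rwa [Subgroup.card_top]) ha
    (Subgroup.mem_top _) hy (Subgroup.mem_top _) (Subgroup.mem_top g) hg
  refine ⟨fun b hb => ?_, h⁻¹ * g * h, ?_⟩
  · obtain ⟨k, hk⟩ := hC (h * b * h⁻¹) (hh ▸ (CfsgLib.ThreeTrans.LargeData.commute_conj_iff' (g := h)).2 hb)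
    refine ⟨k, ?_⟩
    have hk' : y ^ k = h * b * h⁻¹ := hk
    rw [← hh, conj_zpow] at hk'
    exact mul_left_cancel (mul_right_cancel hk')
  · rw [show h⁻¹ * g * h * a * (h⁻¹ * g * h)⁻¹ = h⁻¹ * (g * (h * a * h⁻¹) * g⁻¹) * h by group, hh, hg, ← hh,
      conj_pow]
    group

/-- The element of order eleven in the automorphism group of M22. -/
theorem aut_eleven {a : MulAut ↥Spor.M22} (ha : orderOf a = 11) :
    (∀ b, Commute b a → b ∈ Subgroup.zpowers a) ∧ ∃ g, g * a * g⁻¹ = a ^ 2 := by
  classical
  haveI : Fact (Nat.Prime 11) := ⟨by norm_num⟩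
  obtain ⟨e⟩ := nonempty_pairGroup_equiv
  set u : ↥pairGroup := e.symm a
  let ι : ↥pairGroup →* ↥M24 := pairGroup.subtype
  have hι : Function.Injective ι := pairGroup.subtype_injective
  have hu : orderOf (ι u) = 11 := by rw [orderOf_injective ι hι, show u = e.symm a from rfl, MulEquiv.orderOf_eq, ha]
  obtain ⟨hC, g, hg⟩ := m24_eleven hu
  refine ⟨fun b hb => ?_, ?_⟩
  · obtain ⟨k, hk⟩ := hC (ι (e.symm b)) ((hb.map e.symm.toMonoidHom).map ι)
    refine ⟨k, ?_⟩
    have hk' : ι u ^ k = ι (e.symm b) := hk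
    rw [← map_zpow] at hk'
    have h1 := congrArg e (hι hk')
    rwa [map_zpow, e.apply_symm_apply, e.apply_symm_apply] at h1
  · -- the normalizing element fixes the pair
    set F := Finset.univ.filter fun z : GolayPt => ι u • z = z
    have hF : F.card = 2 := MathieuAut.fixed_eleven hu
    have huP : (((u : ↥M24) : Equiv.Perm GolayPt) none = none ∧ ((u : ↥M24) : Equiv.Perm GolayPt) (some 0) = some 0) ∨
        (((u : ↥M24) : Equiv.Perm GolayPt) none = some 0 ∧ ((u : ↥M24) : Equiv.Perm GolayPt) (some 0) = none) :=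
      mem_pairGroup.1 u.2
    have hsub : ({none, some 0} : Finset GolayPt) ⊆ F := by
      intro z hz
      refine Finset.mem_filter.2 ⟨Finset.mem_univ _, ?_⟩
      have hp : u ^ 11 = 1 := by rw [← hu, orderOf_injective ι hι, pow_orderOf_eq_one]
      simp only [Finset.mem_insert, Finset.mem_singleton] at hz
      rcases huP with ⟨h1, h2⟩ | ⟨h1, h2⟩
      · rcases hz with rfl | rfl
        exacts [h1, h2]
      · exfalso
        have hsw : ∀ n : ℕ, (((u : ↥M24) : Equiv.Perm GolayPt) ^ (2 * n + 1)) none = some 0 := by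
          intro n
          induction n with
          | zero => simpa using h1
          | succ n ih =>
            rw [show 2 * (n + 1) + 1 = 2 + (2 * n + 1) by ring, pow_add, Equiv.Perm.mul_apply, ih, pow_two,
              Equiv.Perm.mul_apply, h2, h1]
        have h := hsw 5
        rw [show ((u : ↥M24) : Equiv.Perm GolayPt) ^ (2 * 5 + 1) = (((u ^ 11 : ↥pairGroup) : ↥M24) : Equiv.Perm GolayPt) from rfl,
          hp] at h
        simp at h
    have hFeq : ({none, some 0} : Finset GolayPt) = F :=
      Finset.eq_of_subset_of_card_le hsub (by rw [hF, Finset.card_pair (by simp)])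
    have hfix : ∀ z : GolayPt, ι u • z = z ↔ z = none ∨ z = some 0 := fun z => by
      have : z ∈ F ↔ z ∈ ({none, some 0} : Finset GolayPt) := by rw [hFeq]
      simpa [F] using this
    have hgp : ∀ z : GolayPt, ι u • z = z → ι u • (g • z) = g • z := by
      intro z hz
      have h2 : ι u ^ 2 • (g • z) = g • z := by rw [← hg, ← mul_smul, inv_mul_cancel_right, mul_smul, hz]
      have h12 : ι u = (ι u ^ 2) ^ 6 := by
        rw [← pow_mul, show 2 * 6 = 11 + 1 from rfl, pow_succ, ← hu, pow_orderOf_eq_one, one_mul]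
      have hn : ∀ n : ℕ, (ι u ^ 2) ^ n • (g • z) = g • z := fun n => by
        induction n with
        | zero => rw [pow_zero, one_smul]
        | succ n ih => rw [pow_succ, mul_smul, h2, ih]
      rw [h12]; exact hn 6
    have hgP : g ∈ pairGroup := by
      have h0 := (hfix _).1 (hgp none ((hfix _).2 (Or.inl rfl)))
      have h1 := (hfix _).1 (hgp (some 0) ((hfix _).2 (Or.inr rfl)))
      have hne : g • (none : GolayPt) ≠ g • some 0 := fun c => by simpa using smul_left_cancel g c
      refine mem_pairGroup.2 ?_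
      show (g • (none : GolayPt) = none ∧ g • (some 0 : GolayPt) = some 0) ∨
        (g • (none : GolayPt) = some 0 ∧ g • (some 0 : GolayPt) = none)
      rcases h0 with h0 | h0 <;> rcases h1 with h1 | h1
      · exact absurd (h0.trans h1.symm) hne
      · exact Or.inl ⟨h0, h1⟩
      · exact Or.inr ⟨h0, h1⟩
      · exact absurd (h0.trans h1.symm) hne
    refine ⟨e ⟨g, hgP⟩, ?_⟩
    have hh : (⟨g, hgP⟩ : ↥pairGroup) * u * (⟨g, hgP⟩ : ↥pairGroup)⁻¹ = u ^ 2 := hι (by
      rw [map_mul, map_mul, map_inv, map_pow]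
      exact hg)
    have h1 := congrArg e hh
    rwa [map_mul, map_mul, map_inv, map_pow, e.apply_symm_apply] at h1

/-- An elementary abelian subgroup of M24 has order less than 1024. -/
theorem no_elementary_1024 {R : Subgroup ↥M24} (hc : Nat.card R = 1024) (h2 : ∀ g ∈ R, g * g = 1) : False := by
  classical
  let R' := R.map (Subgroup.subtype M24)
  set S := R' ⊓ MulAction.stabilizer (Equiv.Perm GolayPt) (none : GolayPt)
  have h1 := MulAction.orbitProdStabilizerEquivGroup ↥R' (none : GolayPt)
  have hR' : Nat.card R' = 1024 := by rw [Subgroup.card_map_of_injective M24.subtype_injective, hc]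
  have e1 : Nat.card (MulAction.stabilizer ↥R' (none : GolayPt)) = Nat.card S :=
    Nat.card_congr
      { toFun := fun g => ⟨((g : ↥R') : Equiv.Perm GolayPt), (g : ↥R').2, g.2⟩
        invFun := fun g => ⟨⟨g, g.2.1⟩, g.2.2⟩
        left_inv := fun _ => rfl
        right_inv := fun _ => rfl }
  have h := (Nat.card_congr h1).symm
  rw [Nat.card_prod, e1, hR'] at h
  have ho : Nat.card (MulAction.orbit ↥R' (none : GolayPt)) ≤ 24 :=
    (Finite.card_subtype_le _).trans (le_of_eq (by rw [Nat.card_eq_fintype_card]; rfl))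
  have hS : Nat.card S ≤ 16 := card_le_sixteen (fun g hg => by
      obtain ⟨⟨m, -, rfl⟩, -⟩ := hg; exact m.2)
    (fun g hg => by
      obtain ⟨⟨m, hm, rfl⟩, -⟩ := hg
      exact congrArg Subtype.val (h2 m hm)) (p := none) fun g hg => hg.2
  have := Nat.mul_le_mul ho hS
  omega

end CfsgLib.JankoFour.Eleven
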