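import Cfsg.Agent.Lib.JankoFourEleven.TLocal
import Cfsg.Agent.Lib.JankoFourSevenLocal.Main
import Cfsg.Agent.Lib.JankoFourFive.Main
import Cfsg.Agent.Lib.JankoFourTwo.OrderThree

/-!
# No element of order five or seven commutes with one of order eleven (owner: helper25)

And an element of order three has a conjugate of `z` in the centre of its centralizer.
-/

set_option autoImplicit false
set_option linter.unusedSectionVars false

namespace CfsgLib.JankoFour.Eleven

open Cfsg CfsgLib.ThreeTrans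

variable {G : Type*} [Group G] [Finite G]

theorem commute_conj {g a b : G} : Commute (g * a * g⁻¹) (g * b * g⁻¹) ↔ Commute a b :=
  ⟨fun h => by
    have := (LargeData.commute_conj_iff' (g := g⁻¹)).2 h
    rwa [inv_inv, show g⁻¹ * (g * a * g⁻¹) * g = a by group, show g⁻¹ * (g * b * g⁻¹) * g = b by group] at this,
   fun h => (LargeData.commute_conj_iff' (g := g)).2 h⟩

theorem orderOf_conj' (g a : G) : orderOf (g * a * g⁻¹) = orderOf a := by
  rw [show g * a * g⁻¹ = MulAut.conj g a from rfl, MulEquiv.orderOf_eq]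

/-- A prime dividing only once: every element of that order is conjugate into a given subgroup of that order. -/
theorem exists_conj_of_not_sq {p : ℕ} [hp : Fact p.Prime] (hd : ¬ p * p ∣ Nat.card G) {x y : G}
    (hx : orderOf x = p) (hy : orderOf y = p) : ∃ g : G, g * y * g⁻¹ ∈ Subgroup.zpowers x := by
  have syl : ∀ {s : G}, orderOf s = p → ∃ X : Sylow p G, (X : Subgroup G) = Subgroup.zpowers s := by
    intro s hs
    have hc' : Nat.card (Subgroup.zpowers s) = p := by rw [Nat.card_zpowers, hs]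
    have hidx : ¬ p ∣ (Subgroup.zpowers s).index := fun h => hd (by
      rw [← (Subgroup.zpowers s).card_mul_index, hc']
      exact mul_dvd_mul_left _ h)
    exact ⟨(IsPGroup.of_card (n := 1) (by rw [hc', pow_one])).toSylow hidx, IsPGroup.toSylow_coe _ _⟩
  obtain ⟨X, hX⟩ := syl hx
  obtain ⟨Y, hY⟩ := syl hy
  obtain ⟨g, hg⟩ := MulAction.exists_smul_eq G Y X
  refine ⟨g, ?_⟩
  rw [← hX, ← hg]
  exact Subgroup.smul_mem_pointwise_smul _ (MulAut.conj g) (Y : Subgroup G) (hY ▸ Subgroup.mem_zpowers _)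

variable [IsSimpleGroup G]

theorem card_centralizer_H (hG : ¬ IsMulCommutative G) {z : G} (hJ : IsOfJankoFourTypeAt z) :
    Nat.card ↥(Subgroup.centralizer ({z} : Set G)) = 3 * 2 ^ 13 * 887040 := by
  obtain ⟨P, hP⟩ := hJ
  obtain ⟨S, rfl, -⟩ := exists_setting hP
  obtain ⟨F⟩ := exists_frame S
  haveI : Nonempty (Frame S) := ⟨F⟩
  exact S.card_H_five.trans (by norm_num)

/-- An element of order three centralises a conjugate of `z` centralised by its centralizer. -/
theorem three_center (hG : ¬ IsMulCommutative G) {z : G} (hJ : IsOfJankoFourTypeAt z) {y : G}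
    (hy : orderOf y = 3) : ∃ w, IsConj z w ∧ ∀ g, Commute g y → Commute g w := by
  obtain ⟨P, hP⟩ := hJ
  have hNP : Subgroup.normalizer (P : Set G) ≤ Subgroup.centralizer ({z} : Set G) :=
    (Cfsg.Agent.S5563.result hG z P hP).2.2.2.2
  haveI : Fact (Nat.Prime 3) := ⟨Nat.prime_three⟩
  have hPc : Nat.card ↥P = 3 := hP.2.2.2.2.2.1
  obtain ⟨p, hp⟩ := exists_prime_orderOf_dvd_card' (G := ↥P) 3 (by rw [hPc])
  have hp3 : orderOf (p : G) = 3 := by rw [Subgroup.orderOf_coe, hp]
  obtain ⟨g, hg⟩ := isConj_iff.1 (janko_four_one_class_three hG ⟨z, P, hP⟩ (p : G) y hp3 hy)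
  refine ⟨g * z * g⁻¹, isConj_iff.2 ⟨g, rfl⟩, fun c hc => ?_⟩
  have h1 : g⁻¹ * c * g ∈ Subgroup.normalizer (P : Set G) := by
    have hcp : Commute (g⁻¹ * c * g) (p : G) := by
      rw [← commute_conj (g := g), hg, show g * (g⁻¹ * c * g) * g⁻¹ = c by group]
      exact hc
    have hPz : P = Subgroup.zpowers (p : G) := (Subgroup.eq_of_le_of_card_ge (Subgroup.zpowers_le.2 p.2)
      (by rw [hPc, Nat.card_zpowers, hp3])).symm
    have hcw : ∀ w ∈ P, Commute (g⁻¹ * c * g) w := by
      intro w hw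
      obtain ⟨i, rfl⟩ : w ∈ Subgroup.zpowers (p : G) := hPz ▸ hw
      exact hcp.zpow_right i
    refine Subgroup.mem_normalizer_iff.2 fun w => ⟨fun hw => by rwa [(hcw w hw).eq, mul_inv_cancel_right], fun hw => ?_⟩
    have h := (hcw _ hw).eq
    rw [inv_mul_cancel_right, mul_left_cancel_iff] at h
    rwa [h] at hw
  have h2 := mem_centralizer_singleton_iff'.1 (hNP h1)
  have h3 := (commute_conj (g := g)).2 h2
  rwa [show g * (g⁻¹ * c * g) * g⁻¹ = c by group] at h3

/-- Elements of order five and eleven do not commute. -/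
theorem not_commute_five (hG : ¬ IsMulCommutative G) {z : G} (hJ : IsOfJankoFourTypeAt z) {y x : G}
    (hy : orderOf y = 5) (hx : orderOf x = 11) : ¬ Commute x y := by
  intro hxy
  classical
  haveI : Fact (Nat.Prime 5) := ⟨by norm_num⟩
  obtain ⟨q, hq⟩ := exists_prime_orderOf_dvd_card' (G := ↥(Subgroup.centralizer ({z} : Set G))) 5
    (by rw [card_centralizer_H hG hJ]; norm_num)
  have hq5 : orderOf (q : G) = 5 := by rw [Subgroup.orderOf_coe, hq]
  set Q := Subgroup.zpowers (q : G) with hQdef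
  have hQc : Nat.card ↥Q = 5 := by rw [hQdef, Nat.card_zpowers, hq5]
  obtain ⟨h25, ⟨J, hD, E, hEn, -, hE8, ⟨e⟩, -⟩, -, -⟩ :=
    order_five_local hG hJ hQc (Subgroup.zpowers_le.2 q.2)
  obtain ⟨g, hg⟩ := exists_conj_of_not_sq (p := 5) (by simpa using h25) hq5 hy
  set x1 := g * x * g⁻¹
  have hxC : x1 ∈ Subgroup.centralizer (Q : Set G) := by
    refine Subgroup.mem_centralizer_iff.2 fun w hw => ?_
    have hy1 : orderOf (g * y * g⁻¹) = 5 := (orderOf_conj' g y).trans hy
    obtain ⟨i, rfl⟩ : w ∈ Subgroup.zpowers (g * y * g⁻¹) := by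
      rw [Subgroup.eq_of_le_of_card_ge (Subgroup.zpowers_le.2 hg) (by rw [Nat.card_zpowers, Nat.card_zpowers, hy1, hq5])]
      exact hw
    exact ((commute_conj.2 hxy).zpow_right i).symm.eq
  obtain ⟨hQle, hJle, hcomm, hdisj, hsup⟩ := hD
  have hJn : J ≤ Subgroup.normalizer (Q : Set G) := fun b hb => Subgroup.mem_normalizer_iff.2 fun a => by
    constructor
    · intro ha; rwa [← hcomm a ha b hb, mul_inv_cancel_right]
    · intro ha
      have h := hcomm _ ha b hb
      rw [inv_mul_cancel_right, mul_left_cancel_iff] at h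
      rwa [← h] at ha
  obtain ⟨a, ha, b, hb, hab⟩ : ∃ a ∈ Q, ∃ b ∈ J, x1 = a * b := by
    have h := hsup.symm ▸ hxC
    rw [sup_comm] at h
    obtain ⟨b, hb, a, ha, e'⟩ := (CfsgLib.Core.mem_sup_iff_mul hJn).1 h
    exact ⟨a, ha, b, hb, e'.trans (hcomm a ha b hb).symm⟩
  have hab' : Commute a b := hcomm a ha b hb
  have h11 : a ^ 11 * b ^ 11 = 1 := by
    rw [← hab'.mul_pow, ← hab, ← (orderOf_conj' g x).trans hx, pow_orderOf_eq_one]
  have ha11 : a ^ 11 ∈ Q ⊓ J := Subgroup.mem_inf.2 ⟨pow_mem ha _, by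
    rw [eq_inv_of_mul_eq_one_left h11]; exact inv_mem (pow_mem hb _)⟩
  rw [hdisj, Subgroup.mem_bot] at ha11
  have ha5 : a ^ 5 = 1 := by
    have := congrArg Subtype.val (pow_card_eq_one' (G := ↥Q) (x := ⟨a, ha⟩))
    rwa [hQc] at this
  have ha1 : a = 1 := by
    have := pow_gcd_eq_one.2 (And.intro ha5 ha11)
    rwa [show Nat.gcd 5 11 = 1 from rfl, pow_one] at this
  rw [ha1, one_mul] at hab
  have hJc : Nat.card ↥J = 8 * 168 := by
    have h := E.card_mul_index
    rw [Subgroup.index_eq_card, Nat.card_congr e.toEquiv, CfsgLib.Recog.HJType.card_sl_three, hE8] at h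
    exact h.symm
  have := orderOf_dvd_natCard (⟨b, hb⟩ : J)
  rw [← Subgroup.orderOf_coe, hJc, show ((⟨b, hb⟩ : J) : G) = g * x * g⁻¹ from hab.symm,
    (orderOf_conj' g x).trans hx] at this
  norm_num at this

/-- Elements of order seven and eleven do not commute. -/
theorem not_commute_seven (hG : ¬ IsMulCommutative G) {z : G} (hJ : IsOfJankoFourTypeAt z) {y x : G}
    (hy : orderOf y = 7) (hx : orderOf x = 11) : ¬ Commute x y := by
  intro hxy
  classical
  haveI : Fact (Nat.Prime 7) := ⟨by norm_num⟩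
  have hJ' := hJ
  obtain ⟨P, hP⟩ := hJ
  obtain ⟨S, rfl, -⟩ := exists_setting hP
  obtain ⟨F⟩ := exists_frame S
  haveI : Nonempty (Frame S) := ⟨F⟩
  obtain ⟨q, hqC, hq⟩ := S.exists_order_in_C (q := 7) (Or.inr rfl)
  have hqz := (S.mem_C.1 hqC).1
  obtain ⟨g, hg⟩ := exists_conj_of_not_sq (p := 7) (Seven.not_sq_dvd S hq hqz hG hJ') hq hy
  have hy1 : orderOf (g * y * g⁻¹) = 7 := (orderOf_conj' g y).trans hy
  obtain ⟨i, hi⟩ : q ∈ Subgroup.zpowers (g * y * g⁻¹) := by
    rw [Subgroup.eq_of_le_of_card_ge (Subgroup.zpowers_le.2 hg) (by rw [Nat.card_zpowers, Nat.card_zpowers, hy1, hq])]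
    exact Subgroup.mem_zpowers q
  have hx1 : g * x * g⁻¹ ∈ Seven.CG q := Seven.mem_CG.2 (hi ▸ (commute_conj.2 hxy).zpow_right i)
  have := orderOf_dvd_natCard (⟨_, hx1⟩ : Seven.CG q)
  rw [← Subgroup.orderOf_coe, Seven.card_cent S hq hqz hG hJ', (orderOf_conj' g x).trans hx] at this
  norm_num at this

end CfsgLib.JankoFour.Eleven
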