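import Cfsg.Agent.Lib.JankoFourEleven.Sylow

/-!
# A small subgroup of `N(V)` (owner: helper25)

A subgroup in which an element of order eleven generates its own normalizer, not containing the involution of `V`
fixed by that element, has order at most 11264.
-/

set_option autoImplicit false
set_option linter.unusedSectionVars false

namespace CfsgLib.JankoFour.Eleven

open Cfsg CfsgLib.ThreeTrans CfsgLib.Sporadic

theorem mem_normalizer_of_conj {B : Type*} [Group B] [Finite B] {S : Subgroup B} {g : B}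
    (h : ∀ a ∈ S, g * a * g⁻¹ ∈ S) : g ∈ Subgroup.normalizer (S : Set B) := by
  rw [CfsgLib.Core.mem_normalizer_iff_conj_smul_eq, CfsgLib.Core.conj_smul_eq_map]
  refine Subgroup.eq_of_le_of_card_ge ?_ (by rw [Subgroup.card_map_of_injective (MulAut.conj g).injective])
  rintro _ ⟨a, ha, rfl⟩
  exact h a ha

/-- The order of an invariant subgroup in a group with a normal complement to `⟨b⟩`. -/
theorem exists_invariant_sylow {B : Type*} [Group B] [Finite B] {K : Subgroup B} [K.Normal] {b : B}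
    (hb : orderOf b = 11) (hd : ¬ 11 * 11 ∣ Nat.card B) (hK : Nat.card B = Nat.card ↥K * 11) (p : ℕ) [Fact p.Prime] :
    ∃ S : Subgroup B, S ≤ K ∧ Nat.card ↥S = p ^ (Nat.card ↥K).factorization p ∧ ∀ a ∈ S, b * a * b⁻¹ ∈ S := by
  classical
  haveI : Fact (Nat.Prime 11) := ⟨by norm_num⟩
  obtain ⟨P⟩ : Nonempty (Sylow p ↥K) := inferInstance
  set S0 := (P : Subgroup ↥K).map K.subtype
  set N := Subgroup.normalizer (S0 : Set B)
  have htop : N ⊔ K = ⊤ := Sylow.normalizer_sup_eq_top P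
  have h11 : 11 ∣ Nat.card ↥N := by
    let φ : ↥N →* B ⧸ K := (QuotientGroup.mk' K).comp N.subtype
    have hr : φ.range = ⊤ := by
      rw [MonoidHom.range_comp, Subgroup.range_subtype, ← top_le_iff]
      intro q _
      obtain ⟨g, rfl⟩ := QuotientGroup.mk'_surjective K q
      obtain ⟨n, hn, k, hk, rfl⟩ := (CfsgLib.Core.mem_sup_iff_mul
        (Subgroup.normalizer_eq_top_iff.2 (inferInstance : K.Normal) ▸ le_top : N ≤ Subgroup.normalizer (K : Set B))).1
        (htop ▸ Subgroup.mem_top g : g ∈ N ⊔ K)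
      exact ⟨n, hn, by rw [map_mul, (QuotientGroup.eq_one_iff k).2 hk |> fun e => (show QuotientGroup.mk' K k = 1 from e), mul_one]⟩
    have hq : Nat.card (B ⧸ K) = 11 := by
      have h := K.card_mul_index
      rw [hK, Subgroup.index_eq_card] at h
      exact Nat.eq_of_mul_eq_mul_left Nat.card_pos h
    have h := φ.ker.card_mul_index
    rw [Subgroup.index_ker, hr, Subgroup.card_top, hq] at h
    exact ⟨_, by rw [← h, mul_comm]⟩
  obtain ⟨n, hn⟩ := exists_prime_orderOf_dvd_card' 11 h11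
  have hn' : orderOf (n : B) = 11 := by rw [Subgroup.orderOf_coe, hn]
  obtain ⟨g, -, hg⟩ := exists_conj_mem (K := (⊤ : Subgroup B)) (by rwa [Subgroup.card_top]) hb (Subgroup.mem_top _)
    hn' (Subgroup.mem_top _)
  have hbN : g * b * g⁻¹ ∈ N := Subgroup.zpowers_le.2 n.2 hg
  refine ⟨S0.map (MulAut.conj g⁻¹).toMonoidHom, ?_, ?_, ?_⟩
  · rintro _ ⟨a, ha, rfl⟩
    exact (inferInstance : K.Normal).conj_mem a (Subgroup.map_subtype_le _ ha) g⁻¹
  · rw [Subgroup.card_map_of_injective (MulAut.conj g⁻¹).injective, Subgroup.card_map_of_injective K.subtype_injective,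
      P.card_eq_multiplicity]
  · rintro _ ⟨a, ha, rfl⟩
    refine ⟨g * b * g⁻¹ * a * (g * b * g⁻¹)⁻¹, (Subgroup.mem_normalizer_iff.1 hbN a).1 ha, ?_⟩
    show g⁻¹ * _ * g⁻¹⁻¹ = b * (g⁻¹ * a * g⁻¹⁻¹) * b⁻¹
    group

/-- A fixed-point-free invariant 2-subgroup of M24 is not of order 1024. -/
theorem no_invariant_1024 {S : Subgroup ↥M24} {b : ↥M24} (hb : b ^ 11 = 1) (hS : Nat.card ↥S = 2 ^ 10)
    (hbS : ∀ a ∈ S, b * a * b⁻¹ ∈ S) (hfix : ∀ a ∈ S, Commute a b → a = 1) : False := by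
  classical
  haveI : Fact (Nat.Prime 11) := ⟨by norm_num⟩
  haveI : Fact (Nat.Prime 2) := ⟨Nat.prime_two⟩
  -- an invariant nontrivial subgroup is everything
  have hall : ∀ R : Subgroup ↥M24, R ≤ S → R ≠ ⊥ → (∀ a ∈ R, b * a * b⁻¹ ∈ R) → R = S := by
    intro R hR hR1 hbR
    have h := card_inf_cent_modEq hb hbR
    have e : R ⊓ Subgroup.centralizer ({b} : Set ↥M24) = ⊥ := eq_bot_iff.2 fun a ha =>
      Subgroup.mem_bot.2 (hfix a (hR ha.1) (mem_centralizer_singleton_iff'.1 ha.2))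
    rw [e, Subgroup.card_bot] at h
    obtain ⟨k, hk⟩ := IsPGroup.iff_card.1 ((IsPGroup.of_card hS).to_le hR)
    rw [hk] at h
    have hk10 : k ≤ 10 := (Nat.pow_dvd_pow_iff_le_right (le_refl 2)).1 (by
      rw [← hk, ← hS]; exact Subgroup.card_dvd_of_le hR)
    have key : ∀ k ≤ 10, 2 ^ k % 11 = 1 % 11 → k = 0 ∨ k = 10 := by decide
    rcases key k hk10 h with rfl | rfl
    · exact absurd (Subgroup.card_eq_one.1 (by rw [hk]; rfl)) hR1
    · exact Subgroup.eq_of_le_of_card_ge hR (by rw [hk, hS])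
  have hpS : IsPGroup 2 ↥S := IsPGroup.of_card hS
  haveI : Nontrivial ↥S := by rw [← Finite.one_lt_card_iff_nontrivial, hS]; norm_num
  haveI : Nontrivial (Subgroup.center ↥S) := hpS.center_nontrivial
  set Z := (Subgroup.center ↥S).map S.subtype
  have hZ : Z = S := by
    refine hall Z (Subgroup.map_subtype_le _) (fun e => ?_) ?_
    · obtain ⟨c, hc⟩ := exists_ne (1 : Subgroup.center ↥S)
      have h1 : ((c : ↥S) : ↥M24) ∈ Z := ⟨c, c.2, rfl⟩
      rw [e, Subgroup.mem_bot] at h1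
      exact hc (Subtype.ext (Subtype.ext h1))
    · rintro _ ⟨c, hc, rfl⟩
      refine ⟨⟨_, hbS c c.2⟩, Subgroup.mem_center_iff.2 fun v => Subtype.ext ?_, rfl⟩
      have hv : b⁻¹ * (v : ↥M24) * b ∈ S := by
        have hb' : b⁻¹ ∈ Subgroup.normalizer (S : Set ↥M24) := inv_mem (mem_normalizer_of_conj hbS)
        have := (Subgroup.mem_normalizer_iff.1 hb' v).1 v.2
        rwa [inv_inv] at this
      have h1 : b⁻¹ * (v : ↥M24) * b * (c : ↥M24) = (c : ↥M24) * (b⁻¹ * (v : ↥M24) * b) :=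
        congrArg Subtype.val (Subgroup.mem_center_iff.1 hc ⟨_, hv⟩)
      show (v : ↥M24) * (b * (c : ↥M24) * b⁻¹) = b * (c : ↥M24) * b⁻¹ * v
      calc (v : ↥M24) * (b * (c : ↥M24) * b⁻¹) = b * (b⁻¹ * (v : ↥M24) * b * (c : ↥M24)) * b⁻¹ := by group
        _ = b * ((c : ↥M24) * (b⁻¹ * (v : ↥M24) * b)) * b⁻¹ := by rw [h1]
        _ = _ := by group
  have hcomm : ∀ a ∈ S, ∀ c ∈ S, Commute a c := by
    intro a ha c hc
    obtain ⟨c', hc', rfl⟩ := (hZ.symm ▸ hc : c ∈ Z)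
    exact congrArg Subtype.val (Subgroup.mem_center_iff.1 hc' ⟨a, ha⟩)
  let Ω : Subgroup ↥M24 :=
    { carrier := {a | a ∈ S ∧ a * a = 1}
      mul_mem' := fun {a c} ha hc => ⟨mul_mem ha.1 hc.1, by
        rw [(hcomm c hc.1 a ha.1).mul_mul_mul_comm, ha.2, hc.2, one_mul]⟩
      one_mem' := ⟨one_mem _, one_mul 1⟩
      inv_mem' := fun {a} ha => ⟨inv_mem ha.1, by rw [← mul_inv_rev, ha.2, inv_one]⟩ }
  have hΩ : Ω = S := by
    refine hall Ω (fun a ha => ha.1) (fun e => ?_) fun a ha => ⟨hbS a ha.1, ?_⟩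
    · obtain ⟨c, hc⟩ := exists_prime_orderOf_dvd_card' (G := ↥S) 2 (by rw [hS]; norm_num)
      have h1 : (c : ↥M24) ∈ Ω :=
        ⟨c.2, by rw [← Subgroup.coe_mul, ← pow_two, ← hc, pow_orderOf_eq_one, Subgroup.coe_one]⟩
      rw [e, Subgroup.mem_bot] at h1
      rw [Subtype.ext h1 |> fun e' => (show c = 1 from e'), orderOf_one] at hc
      norm_num at hc
    · rw [show b * a * b⁻¹ * (b * a * b⁻¹) = b * (a * a) * b⁻¹ by group, ha.2]; simp
  exact no_elementary_1024 (R := S) (by rw [hS]; norm_num) fun a ha => (hΩ.symm ▸ ha : a ∈ Ω).2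

variable {G : Type*} [Group G] [Finite G]

/-- The bound. -/
theorem small_stabilizer {V : Subgroup G} (hVc : Nat.card ↥V = 2 ^ 11)
    (hCV : Subgroup.centralizer (V : Set G) ≤ V) (π : ↥(Subgroup.normalizer (V : Set G)) →* ↥M24)
    (hπ : ∀ c, π c = 1 ↔ (c : G) ∈ V) {x t : G} (hx : orderOf x = 11)
    (hfix : ∀ v ∈ V, Commute v x → v = 1 ∨ v = t) {A : Subgroup G}
    (hA : A ≤ Subgroup.normalizer (V : Set G)) (hxA : x ∈ A) (htA : t ∉ A)
    (hself : ∀ a ∈ A, a * x * a⁻¹ ∈ Subgroup.zpowers x → a ∈ Subgroup.zpowers x) :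
    Nat.card ↥A ≤ 11264 := by
  classical
  haveI : Fact (Nat.Prime 11) := ⟨by norm_num⟩
  haveI : Fact (Nat.Prime 23) := ⟨by norm_num⟩
  haveI : Fact (Nat.Prime 2) := ⟨Nat.prime_two⟩
  have hx11 : x ^ 11 = 1 := hx ▸ pow_orderOf_eq_one x
  let πA : ↥A →* ↥M24 := π.comp (Subgroup.inclusion hA)
  set D := A ⊓ V
  have hker : Nat.card πA.ker = Nat.card ↥D :=
    Nat.card_congr
      { toFun := fun a => ⟨((a : ↥A) : G), Subgroup.mem_inf.2 ⟨(a : ↥A).2, (hπ _).1 a.2⟩⟩
        invFun := fun a => ⟨⟨a, (Subgroup.mem_inf.1 a.2).1⟩, (hπ _).2 (Subgroup.mem_inf.1 a.2).2⟩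
        left_inv := fun _ => rfl
        right_inv := fun _ => rfl }
  have hAc : Nat.card ↥A = Nat.card ↥D * Nat.card πA.range := by
    rw [← hker, ← Subgroup.index_ker]; exact (πA.ker.card_mul_index).symm
  -- the part in `V`
  obtain ⟨m, hm⟩ := IsPGroup.iff_card.1 ((IsPGroup.of_card hVc).to_le (inf_le_right : D ≤ V))
  have hxD : ∀ a ∈ D, x * a * x⁻¹ ∈ D := fun a ha =>
    Subgroup.mem_inf.2 ⟨mul_mem (mul_mem hxA (Subgroup.mem_inf.1 ha).1) (inv_mem hxA),
      (Subgroup.mem_normalizer_iff.1 (hA hxA) a).1 (Subgroup.mem_inf.1 ha).2⟩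
  have hm10 : m = 0 ∨ m = 10 := by
    have h := card_inf_cent_modEq hx11 hxD
    have e : D ⊓ Subgroup.centralizer ({x} : Set G) = ⊥ := eq_bot_iff.2 fun a ha => by
      obtain ⟨ha1, ha2⟩ := Subgroup.mem_inf.1 ha
      refine Subgroup.mem_bot.2 ((hfix a (Subgroup.mem_inf.1 ha1).2 (mem_centralizer_singleton_iff'.1 ha2)).resolve_right
        fun e => htA (e ▸ (Subgroup.mem_inf.1 ha1).1))
    rw [e, Subgroup.card_bot, hm] at h
    have hm11 : m ≤ 11 := (Nat.pow_dvd_pow_iff_le_right (le_refl 2)).1 (by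
      rw [← hm, ← hVc]; exact Subgroup.card_dvd_of_le inf_le_right)
    have key : ∀ m ≤ 11, 2 ^ m % 11 = 1 % 11 → m = 0 ∨ m = 10 := by decide
    exact key m hm11 h
  have hk11 : ¬ 11 ∣ Nat.card πA.ker := by
    rw [hker, hm]
    exact fun hd => by
      have := Nat.Prime.dvd_of_dvd_pow (Fact.out : Nat.Prime 11) hd
      norm_num at this
  let x' : ↥A := ⟨x, hxA⟩
  have hx' : orderOf x' = 11 := by rw [← Subgroup.orderOf_coe]; exact hx
  set B := πA.range
  let b : ↥B := ⟨πA x', ⟨x', rfl⟩⟩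
  have hb : orderOf b = 11 := by rw [← Subgroup.orderOf_coe]; exact orderOf_image hx' hk11
  have hBd : ¬ 11 * 11 ∣ Nat.card ↥B := fun hd => by
    have := hd.trans (Subgroup.card_subgroup_dvd_card B)
    rw [M24_card] at this
    norm_num at this
  -- `⟨b⟩` is its own normalizer
  have hself' : ∀ c : ↥B, c * b * c⁻¹ ∈ Subgroup.zpowers b → c ∈ Subgroup.zpowers b := by
    rintro ⟨_, a, rfl⟩ hc
    obtain ⟨j, hj⟩ := mem_powers_iff_mem_zpowers.2 hc
    have hj' : πA x' ^ j = πA a * πA x' * (πA a)⁻¹ := congrArg Subtype.val hj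
    obtain ⟨k, hk, e⟩ := exists_conj_lift πA hx' hk11 (g := a) (j := j) hj'.symm
    have h1 := hself ((k * a : ↥A) : G) (k * a).2 ⟨j, by
      show x ^ (j : ℤ) = _
      rw [zpow_natCast]
      exact (congrArg Subtype.val e).symm.trans (by simp [x'])⟩
    obtain ⟨i, hi⟩ := h1
    obtain ⟨l, hl⟩ := hk
    have hi' : x' ^ i = k * a := Subtype.ext (by rw [Subgroup.coe_zpow]; exact hi)
    refine ⟨i - l, Subtype.ext ?_⟩
    show ((b ^ (i - l) : ↥B) : ↥M24) = πA a
    rw [Subgroup.coe_zpow, show (b : ↥M24) = πA x' from rfl, zpow_sub, ← map_zpow, hi', map_mul,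
      show πA x' ^ l = πA k from hl]
    rw [← hl]
    rw [show πA x' ^ l * πA a * (πA x' ^ l)⁻¹ = πA x' ^ l * (πA a * (πA x' ^ l)⁻¹) by group]
    have hcomm : Commute (πA a) (πA x' ^ l) := by
      have h2 : πA k * πA a = πA x' ^ i := by rw [← map_mul, ← hi', map_zpow]
      rw [← hl] at h2
      rw [eq_inv_mul_iff_mul_eq.2 h2]
      exact (((Commute.refl (πA x')).zpow_zpow l l).inv_left).mul_left ((Commute.refl (πA x')).zpow_zpow i l)
    rw [← mul_assoc, ← hcomm.eq, mul_inv_cancel_right]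
  have hfacB : (Nat.card ↥B).factorization 11 = 1 := by
    refine le_antisymm ?_ ?_
    · by_contra hc
      refine hBd ?_
      rw [← pow_two]
      exact (Nat.Prime.pow_dvd_iff_le_factorization (Fact.out : Nat.Prime 11) Nat.card_pos.ne').2 (by omega)
    · refine (Nat.Prime.pow_dvd_iff_le_factorization (Fact.out : Nat.Prime 11) Nat.card_pos.ne').1 ?_
      rw [pow_one, ← hb]; exact orderOf_dvd_natCard b
  let P : Sylow 11 ↥B := Sylow.ofCard (Subgroup.zpowers b) (by rw [Nat.card_zpowers, hb, hfacB, pow_one])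
  have hP : (P : Subgroup ↥B) = Subgroup.zpowers b := Sylow.coe_ofCard _ _
  have hNC : Subgroup.normalizer ((P : Subgroup ↥B) : Set ↥B) ≤ Subgroup.centralizer ((P : Subgroup ↥B) : Set ↥B) := by
    intro c hc
    have h1 : c ∈ Subgroup.zpowers b := hself' c (by
      have := (Subgroup.mem_normalizer_iff.1 hc b).1 (hP.symm ▸ Subgroup.mem_zpowers b)
      rwa [hP] at this)
    refine Subgroup.mem_centralizer_iff.2 fun w hw => ?_
    obtain ⟨i, rfl⟩ := h1
    obtain ⟨j, rfl⟩ : w ∈ Subgroup.zpowers b := hP ▸ hw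
    exact ((Commute.refl b).zpow_zpow j i).eq
  set K := (MonoidHom.transferSylow P hNC).ker
  have hcompl : Subgroup.IsComplement' K (P : Subgroup ↥B) := MonoidHom.ker_transferSylow_isComplement' P hNC
  have hKc : Nat.card ↥B = Nat.card ↥K * 11 := by
    rw [← hcompl.card_mul, hP, Nat.card_zpowers, hb]
  have hKfix : ∀ c ∈ K, Commute c b → c = 1 := by
    intro c hc hcb
    have h1 : c ∈ Subgroup.zpowers b := hself' c (by rw [hcb.eq, mul_inv_cancel_right]; exact Subgroup.mem_zpowers b)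
    exact Subgroup.disjoint_def.1 hcompl.disjoint hc (hP.symm ▸ h1)
  -- primes of the complement
  have hdvd : Nat.card ↥K ∣ 22256640 := by
    have h := Subgroup.card_subgroup_dvd_card B
    rw [M24_card, hKc, show (244823040 : ℕ) = 22256640 * 11 by norm_num] at h
    exact Nat.dvd_of_mul_dvd_mul_right (by norm_num) h
  have hmod : ∀ p : ℕ, Fact p.Prime → p ^ (Nat.card ↥K).factorization p % 11 = 1 % 11 := by
    intro p hp
    obtain ⟨S, hSK, hSc, hSb⟩ := exists_invariant_sylow hb hBd hKc p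
    have h := card_inf_cent_modEq (x := b) (hb ▸ pow_orderOf_eq_one b) hSb
    have e : S ⊓ Subgroup.centralizer ({b} : Set ↥B) = ⊥ := eq_bot_iff.2 fun a ha =>
      Subgroup.mem_bot.2 (hKfix a (hSK (Subgroup.mem_inf.1 ha).1)
        (mem_centralizer_singleton_iff'.1 (Subgroup.mem_inf.1 ha).2))
    rw [e, Subgroup.card_bot, hSc] at h
    exact h
  have hbound : ∀ p v : ℕ, p.Prime → ¬ p ^ (v + 1) ∣ 22256640 → (Nat.card ↥K).factorization p ≤ v := by
    intro p v hp hnd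
    by_contra hc
    refine hnd ((pow_dvd_pow p (not_le.1 hc)).trans (dvd_trans ?_ hdvd))
    exact Nat.ordProj_dvd _ _
  have h2 : ¬ 2 ∣ Nat.card ↥K := by
    intro hd
    have hv1 := (Nat.Prime.factorization_pos_of_dvd Nat.prime_two Nat.card_pos.ne' hd)
    have hv10 := hbound 2 10 Nat.prime_two (by norm_num)
    have key : ∀ v ≤ 10, 2 ^ v % 11 = 1 % 11 → v = 0 ∨ v = 10 := by decide
    rcases key _ hv10 (hmod 2 inferInstance) with h0 | h10
    · omega
    obtain ⟨S, hSK, hSc, hSb⟩ := exists_invariant_sylow hb hBd hKc 2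
    rw [h10] at hSc
    refine no_invariant_1024 (S := S.map B.subtype) (b := (b : ↥M24)) ?_ ?_ ?_ ?_
    · rw [← Subgroup.coe_pow, show b ^ 11 = 1 from hb ▸ pow_orderOf_eq_one b, Subgroup.coe_one]
    · rw [Subgroup.card_map_of_injective B.subtype_injective, hSc]
    · rintro _ ⟨a, ha, rfl⟩; exact ⟨_, hSb a ha, rfl⟩
    · rintro _ ⟨a, ha, rfl⟩ hab
      rw [hKfix a (hSK ha) (Subtype.ext hab.eq), map_one]
  have hodd : ∀ p v : ℕ, Fact p.Prime → ¬ p ^ (v + 1) ∣ 22256640 → (∀ w ≤ v, p ^ w % 11 = 1 % 11 → w = 0) →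
      ¬ p ∣ Nat.card ↥K := by
    intro p v hp hnd hkey hd
    have h1 := Nat.Prime.factorization_pos_of_dvd hp.out Nat.card_pos.ne' hd
    have := hkey _ (hbound p v hp.out hnd) (hmod p hp)
    omega
  have h3 := hodd 3 3 ⟨Nat.prime_three⟩ (by norm_num) (by decide)
  have h5 := hodd 5 1 ⟨by norm_num⟩ (by norm_num) (by decide)
  have h7 := hodd 7 1 ⟨by norm_num⟩ (by norm_num) (by decide)
  have h23 : Nat.card ↥K = 1 ∨ Nat.card ↥K = 23 := by
    refine (Nat.dvd_prime (by norm_num : Nat.Prime 23)).1 ?_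
    refine Nat.Coprime.dvd_of_dvd_mul_left (m := 2 ^ 10 * 3 ^ 3 * 5 * 7) ?_ (hdvd.trans (dvd_of_eq (by norm_num)))
    refine Nat.Coprime.mul_right (Nat.Coprime.mul_right (Nat.Coprime.mul_right (Nat.Coprime.pow_right _ ?_)
      (Nat.Coprime.pow_right _ ?_)) ?_) ?_
    · exact ((Nat.Prime.coprime_iff_not_dvd Nat.prime_two).2 h2).symm
    · exact ((Nat.Prime.coprime_iff_not_dvd Nat.prime_three).2 h3).symm
    · exact ((Nat.Prime.coprime_iff_not_dvd (by norm_num : Nat.Prime 5)).2 h5).symm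
    · exact ((Nat.Prime.coprime_iff_not_dvd (by norm_num : Nat.Prime 7)).2 h7).symm
  rw [hAc, hm, hKc]
  rcases hm10 with rfl | rfl
  · rcases h23 with e | e <;> rw [e] <;> norm_num
  rcases h23 with e | e
  · rw [e]; norm_num
  -- twenty-three with a hyperplane
  exfalso
  have h23A : 23 ∣ Nat.card ↥A := by rw [hAc, hKc, e]; exact Dvd.dvd.mul_left (by norm_num) _
  obtain ⟨y, hy⟩ := exists_prime_orderOf_dvd_card' 23 h23A
  have hy23 : orderOf (y : G) = 23 := by rw [Subgroup.orderOf_coe, hy]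
  have hy1 : (y : G) ^ 23 = 1 := hy23 ▸ pow_orderOf_eq_one _
  have hyV : ∀ a ∈ V, (y : G) * a * (y : G)⁻¹ ∈ V := fun a ha => (Subgroup.mem_normalizer_iff.1 (hA y.2) a).1 ha
  have hyfix : V ⊓ Subgroup.centralizer ({(y : G)} : Set G) = ⊥ := by
    have h := card_inf_cent_modEq hy1 hyV
    obtain ⟨k, hk⟩ := IsPGroup.iff_card.1 ((IsPGroup.of_card hVc).to_le
      (inf_le_left : V ⊓ Subgroup.centralizer ({(y : G)} : Set G) ≤ V))
    rw [hVc, hk] at h
    have hk11' : k ≤ 11 := (Nat.pow_dvd_pow_iff_le_right (le_refl 2)).1 (by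
      rw [← hk, ← hVc]; exact Subgroup.card_dvd_of_le inf_le_left)
    have key : ∀ k ≤ 11, 2 ^ 11 % 23 = 2 ^ k % 23 → k = 0 ∨ k = 11 := by decide
    rcases key k hk11' h with rfl | rfl
    · exact Subgroup.card_eq_one.1 (by rw [hk]; rfl)
    · exfalso
      have eV : V ⊓ Subgroup.centralizer ({(y : G)} : Set G) = V :=
        Subgroup.eq_of_le_of_card_ge inf_le_left (by rw [hk, hVc])
      have hyC : (y : G) ∈ Subgroup.centralizer (V : Set G) := Subgroup.mem_centralizer_iff.2 fun a ha => by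
        have := (Subgroup.mem_inf.1 (eV.symm ▸ ha : a ∈ V ⊓ Subgroup.centralizer ({(y : G)} : Set G))).2
        exact mem_centralizer_singleton_iff'.1 this
      have := orderOf_dvd_natCard (⟨(y : G), hCV hyC⟩ : V)
      rw [← Subgroup.orderOf_coe, hy23, hVc] at this
      norm_num at this
  have hyD : ∀ a ∈ D, (y : G) * a * (y : G)⁻¹ ∈ D := fun a ha =>
    Subgroup.mem_inf.2 ⟨mul_mem (mul_mem y.2 (Subgroup.mem_inf.1 ha).1) (inv_mem y.2), hyV a (Subgroup.mem_inf.1 ha).2⟩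
  have hT : ((V : Set G) \ (D : Set G)).ncard = 1024 := by
    have h := Set.ncard_sdiff_add_ncard_of_subset (show (D : Set G) ⊆ (V : Set G) from fun a ha => (Subgroup.mem_inf.1 ha).2)
      (Set.toFinite _)
    rw [← Nat.card_coe_set_eq (D : Set G), ← Nat.card_coe_set_eq (V : Set G)] at h
    change _ + Nat.card ↥D = Nat.card ↥V at h
    rw [hm, hVc] at h
    omega
  obtain ⟨a, ⟨haV, haD⟩, hay⟩ := exists_fixed hy1 (s := (V : Set G) \ (D : Set G)) (fun a ha => ⟨hyV a ha.1, fun hc => ha.2 (by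
    have h1 : (y : G) ^ 22 * ((y : G) * a * (y : G)⁻¹) * ((y : G) ^ 22)⁻¹ ∈ D := by
      have hyN : (y : G) ∈ Subgroup.normalizer (D : Set G) := mem_normalizer_of_conj hyD
      exact (Subgroup.mem_normalizer_iff.1 (pow_mem hyN 22) _).1 hc
    rwa [show (y : G) ^ 22 * ((y : G) * a * (y : G)⁻¹) * ((y : G) ^ 22)⁻¹ = (y : G) ^ 23 * a * ((y : G) ^ 23)⁻¹ by group,
      hy1, one_mul, inv_one, mul_one] at h1)⟩) (by rw [hT]; norm_num)
  have : a ∈ V ⊓ Subgroup.centralizer ({(y : G)} : Set G) :=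
    Subgroup.mem_inf.2 ⟨haV, mem_centralizer_singleton_iff'.2 hay.eq⟩
  rw [hyfix, Subgroup.mem_bot] at this
  exact haD (this ▸ one_mem _)

end CfsgLib.JankoFour.Eleven
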