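import Cfsg.Agent.Lib.JankoFourEleven.Stabilizer

/-!
# An element of order eleven of the second kind has centralizer of order 242 (owner: helper25)

Otherwise it fixes 121 cosets of `N(V)`, at least 81 of them with small stabilizers, which need more orbits of
`N(V)` than the index allows.
-/

set_option autoImplicit false
set_option linter.unusedSectionVars false

namespace CfsgLib.JankoFour.Eleven

open Cfsg CfsgLib.ThreeTrans CfsgLib.Sporadic MulAction

variable {G : Type*} [Group G] [Finite G] [IsSimpleGroup G] {z : G} (h : Hyp z)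
include h

/-- The normalizer of `V` onto M24. -/
theorem Hyp.nv_hom {V : Subgroup G} (hV : IsElementaryAbelian 2 V) (hVc : Nat.card ↥V = 2 ^ 11) :
    Nat.card ↥(Subgroup.normalizer (V : Set G)) = 501397585920 ∧
      ∃ π : ↥(Subgroup.normalizer (V : Set G)) →* ↥M24, ∀ c, π c = 1 ↔ (c : G) ∈ V := by
  classical
  obtain ⟨-, K, hKN, hKV, hKV', ⟨eK⟩⟩ := Cfsg.Agent.S5567.result h.nonab ⟨z, h.type⟩ V hV hVc
  set N := Subgroup.normalizer (V : Set G) with hN
  have hVN : V ≤ N := Subgroup.le_normalizer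
  haveI : (V.subgroupOf N).Normal := (Subgroup.normal_subgroupOf_iff_le_normalizer hVN).2 le_rfl
  let π0 : ↥K →* ↥N ⧸ V.subgroupOf N := (QuotientGroup.mk' _).comp (Subgroup.inclusion hKN)
  have hb : Function.Bijective π0 := by
    refine ⟨(injective_iff_map_eq_one _).2 fun k hk => ?_, fun c => ?_⟩
    · have h1 : (k : G) ∈ V := Subgroup.mem_subgroupOf.1
        ((QuotientGroup.eq_one_iff (N := V.subgroupOf N) (Subgroup.inclusion hKN k)).1 hk)
      have h2 : (k : G) ∈ K ⊓ V := ⟨k.2, h1⟩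
      rw [hKV] at h2
      exact Subtype.ext (Subgroup.mem_bot.1 h2)
    · induction c using QuotientGroup.induction_on with | H c =>
      obtain ⟨k, hk, v, hv, hkv⟩ :=
        (CfsgLib.Core.mem_sup_iff_mul hKN).1 (hKV'.symm ▸ c.2 : (c : G) ∈ K ⊔ V)
      refine ⟨⟨k, hk⟩, QuotientGroup.eq.2 ?_⟩
      show k⁻¹ * (c : G) ∈ V
      rw [hkv, inv_mul_cancel_left]; exact hv
  let q := MulEquiv.ofBijective π0 hb
  let π : ↥N →* ↥M24 := eK.toMonoidHom.comp (q.symm.toMonoidHom.comp (QuotientGroup.mk' _))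
  have hker : ∀ c, π c = 1 ↔ (c : G) ∈ V := fun c => by
    show eK (q.symm (QuotientGroup.mk' _ c)) = 1 ↔ _
    rw [MulEquiv.map_eq_one_iff, MulEquiv.map_eq_one_iff, QuotientGroup.mk'_apply, QuotientGroup.eq_one_iff,
      Subgroup.mem_subgroupOf]
  have hsurj : Function.Surjective π :=
    eK.surjective.comp (q.symm.surjective.comp (QuotientGroup.mk'_surjective _))
  have hk : π.ker = V.subgroupOf N := by
    ext c; rw [MonoidHom.mem_ker, hker, Subgroup.mem_subgroupOf]
  refine ⟨?_, π, hker⟩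
  have h' := π.ker.card_mul_index
  rw [Subgroup.index_ker, MonoidHom.range_eq_top.2 hsurj, Subgroup.card_top, M24_card, hk,
    Nat.card_congr (Subgroup.subgroupOfEquivOfLe hVN).toEquiv, hVc] at h'
  rw [← h']; norm_num

/-- The centralizer of an element of the second kind has order 242. -/
theorem Hyp.t_cent {x t : G} (hx : orderOf x = 11) (ht : orderOf t = 2) (hnc : ¬ IsConj z t) (hxt : Commute x t) :
    Nat.card ↥(CX x) = 242 := by
  classical
  haveI : Fact (Nat.Prime 11) := ⟨by norm_num⟩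
  haveI : Fact (Nat.Prime 2) := ⟨Nat.prime_two⟩
  haveI : Fact (Nat.Prime 5) := ⟨by norm_num⟩
  obtain ⟨c, hc2, hc3, hc, U, hUc, hUX, hXU⟩ := h.t_sylow hx ht hnc hxt
  by_contra hne
  have hc' : c = 3 := by
    by_contra hh
    obtain rfl : c = 2 := by omega
    exact hne (by rw [hc]; norm_num)
  subst hc'
  obtain ⟨⟨h22, hinv, V, hV, hVc, htV, hCV, hfix⟩, -⟩ := t_data h.nonab h.type ht hnc hx hxt
  have hVV : Subgroup.centralizer (V : Set G) ≤ V := (Cfsg.Agent.S5567.result h.nonab ⟨z, h.type⟩ V hV hVc).1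
  set NV := Subgroup.normalizer (V : Set G) with hNV
  obtain ⟨hNc, π, hπ⟩ : Nat.card ↥NV = 501397585920 ∧ ∃ π : ↥NV →* ↥M24, ∀ c, π c = 1 ↔ (c : G) ∈ V := h.nv_hom hV hVc
  have hx11 : x ^ 11 = 1 := hx ▸ pow_orderOf_eq_one x
  have htt : t * t = 1 := by rw [← pow_two, ← ht, pow_orderOf_eq_one]
  have hxN : x ∈ NV := hCV (mem_centralizer_singleton_iff'.2 hxt.eq)
  -- elements of `N(V)` commuting with `x`
  have hNX : ∀ g ∈ NV, Commute g x → g ∈ CC t x := by
    intro g hg hgx
    refine mem_CC.2 ⟨?_, hgx⟩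
    have h1 := (Subgroup.mem_normalizer_iff.1 hg t).1 htV
    have h2 : Commute (g * t * g⁻¹) x := by
      have := (commute_conj (g := g)).2 hxt.symm
      rwa [hgx.eq, mul_inv_cancel_right] at this
    rcases hfix _ h1 h2 with e | e
    · rw [conj_eq_one_iff] at e
      rw [e, orderOf_one] at ht
      norm_num at ht
    · exact mul_inv_eq_iff_eq_mul.1 e
  have hxU : ∀ {a}, a ∈ U → Commute a x := fun ha => mem_CX.1 (hUX ha)
  -- elements of eleven-power order in the centralizer lie in `U`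
  have hmemU : ∀ a ∈ CX x, a ^ 11 ^ 3 = 1 → a ∈ U := by
    intro a ha ha3
    have hi : (U.subgroupOf (CX x)).index = 2 := by
      have h1 := (U.subgroupOf (CX x)).card_mul_index
      rw [Nat.card_congr (Subgroup.subgroupOfEquivOfLe hUX).toEquiv, hUc, hc, mul_comm 2] at h1
      exact Nat.eq_of_mul_eq_mul_left (by norm_num) h1
    exact Subgroup.mem_subgroupOf.1 (Seven.odd_mem_range _ hi (a := (⟨a, ha⟩ : ↥(CX x))) (k := 665)
      (Subtype.ext (by rw [Subgroup.coe_pow]; exact ha3)))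
  have hUn : ∀ g, g * x * g⁻¹ ∈ Subgroup.zpowers x → ∀ a ∈ U, g * a * g⁻¹ ∈ U := by
    intro g hg a ha
    refine hmemU _ ?_ ?_
    · obtain ⟨i, hi⟩ := hg
      have hgo : orderOf (g * x * g⁻¹) = 11 := (orderOf_conj' g x).trans hx
      obtain ⟨j, hj⟩ : x ∈ Subgroup.zpowers (g * x * g⁻¹) := by
        rw [Subgroup.eq_of_le_of_card_ge (Subgroup.zpowers_le.2 (Subgroup.mem_zpowers_iff.2 ⟨i, hi⟩))
          (by rw [Nat.card_zpowers, Nat.card_zpowers, hgo, hx])]
        exact Subgroup.mem_zpowers x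
      have hj' : (g * x * g⁻¹) ^ j = x := hj
      exact mem_CX.2 (hj' ▸ ((commute_conj (g := g)).2 (hxU ha)).zpow_right j)
    · rw [conj_pow, show a ^ 11 ^ 3 = 1 from by
        have := congrArg Subtype.val (pow_card_eq_one' (G := ↥U) (x := ⟨a, ha⟩))
        rwa [hUc] at this]
      simp
  -- the points
  let p : ↥U → G ⧸ NV := fun u => QuotientGroup.mk (u : G)
  have hp : ∀ u v : ↥U, p u = p v ↔ (u : G)⁻¹ * v ∈ Subgroup.zpowers x := by
    intro u v
    refine QuotientGroup.eq.trans ⟨fun hm => ?_, fun hm => Subgroup.zpowers_le.2 hxN hm⟩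
    set a := (u : G)⁻¹ * v with ha
    have haU : a ∈ U := mul_mem (inv_mem u.2) v.2
    have haC : a ∈ CC t x := hNX a hm (hxU haU)
    have ha11 : a ^ 11 = 1 := by
      have h1 : a ^ 22 = 1 := by
        have := congrArg Subtype.val (pow_card_eq_one' (G := ↥(CC t x)) (x := ⟨a, haC⟩))
        rwa [h22] at this
      have h2 : a ^ 11 ^ 3 = 1 := by
        have := congrArg Subtype.val (pow_card_eq_one' (G := ↥U) (x := ⟨a, haU⟩))
        rwa [hUc] at this
      have := pow_gcd_eq_one.2 (And.intro h1 h2)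
      rwa [show Nat.gcd 22 (11 ^ 3) = 11 from rfl] at this
    by_cases ha1 : a = 1
    · rw [ha1]; exact one_mem _
    have hao : orderOf a = 11 := orderOf_eq_prime ha11 ha1
    obtain ⟨g, hg, hga⟩ := exists_conj_mem (K := CC t x) (by rw [h22]; norm_num) hao haC hx
      (mem_CC.2 ⟨hxt, Commute.refl x⟩)
    -- the subgroup of order eleven is normal
    obtain ⟨i, hi⟩ := hga
    refine ⟨i, ?_⟩
    have hi' : x ^ i = g * a * g⁻¹ := hi
    show x ^ i = a
    have h3 : g⁻¹ * x ^ i * g = a := by rw [hi']; group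
    rw [← h3, ((mem_CC.1 hg).2.zpow_right i).inv_left.eq, inv_mul_cancel_right]
  set Pts : Set (G ⧸ NV) := Set.range p with hPts
  have hPc : Pts.ncard = 121 := by
    set I := (Subgroup.zpowers x).subgroupOf U
    have hle : Subgroup.zpowers x ≤ U := Subgroup.zpowers_le.2 (hmemU x (mem_CX.2 (Commute.refl x))
      (orderOf_dvd_iff_pow_eq_one.1 (by rw [hx]; norm_num)))
    let f : ↥U ⧸ I → Pts := Quotient.lift (fun u => (⟨p u, u, rfl⟩ : Pts)) fun u v huv => Subtype.ext
      ((hp u v).2 (Subgroup.mem_subgroupOf.1 (QuotientGroup.leftRel_apply.1 huv)))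
    have hf : Function.Bijective f := by
      refine ⟨fun a b e => ?_, ?_⟩
      · induction a using QuotientGroup.induction_on with | H a =>
        induction b using QuotientGroup.induction_on with | H b =>
        exact QuotientGroup.eq.2 (Subgroup.mem_subgroupOf.2 ((hp a b).1 (congrArg Subtype.val e)))
      · rintro ⟨_, u, rfl⟩
        exact ⟨QuotientGroup.mk u, rfl⟩
    rw [← Nat.card_coe_set_eq, ← Nat.card_congr (Equiv.ofBijective f hf), ← Subgroup.index_eq_card]
    have h1 := I.card_mul_index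
    rw [Nat.card_congr (Subgroup.subgroupOfEquivOfLe hle).toEquiv, Nat.card_zpowers, hx, hUc] at h1
    omega
  -- free points
  set NN : Subgroup G := NV ⊓ Subgroup.normalizer (Subgroup.zpowers x : Set G) with hNN
  have hconj : ∀ {n}, n ∈ NN → n * x * n⁻¹ ∈ Subgroup.zpowers x := fun hn =>
    (Subgroup.mem_normalizer_iff.1 (Subgroup.mem_inf.1 hn).2 x).1 (Subgroup.mem_zpowers x)
  set free : Set (G ⧸ NV) := {q | q ∈ Pts ∧ ∀ n ∈ NN, n • q = q → n ∈ Subgroup.zpowers x} with hfree
  -- the size of `NN`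
  have hNNc : Nat.card ↥NN ∣ 220 ∧ ∀ n ∈ NN, n ^ 11 = 1 → n ∈ Subgroup.zpowers x := by
    let φ : ↥NN →* MulAut ↥(Subgroup.zpowers x) :=
      (Subgroup.normalizerMonoidHom (Subgroup.zpowers x)).comp (Subgroup.inclusion inf_le_right)
    have hk : ∀ n : ↥NN, n ∈ φ.ker → (n : G) ∈ CC t x := fun n hn => hNX _ (Subgroup.mem_inf.1 n.2).1 (by
      have e := congrArg (fun f : MulAut ↥(Subgroup.zpowers x) => ((f ⟨x, Subgroup.mem_zpowers x⟩ : ↥(Subgroup.zpowers x)) : G))
        (MonoidHom.mem_ker.1 hn)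
      exact mul_inv_eq_iff_eq_mul.1 e)
    have hkd : Nat.card φ.ker ∣ 22 := h22 ▸ Subgroup.card_dvd_of_injective
      ((NN.subtype.comp φ.ker.subtype).codRestrict (CC t x) fun a => hk a a.2)
      fun a b e => Subtype.ext (Subtype.ext (congrArg (fun v : ↥(CC t x) => (v : G)) e :))
    have hrd : Nat.card φ.range ∣ 10 := by
      haveI : IsCyclic ↥(Subgroup.zpowers x) := inferInstance
      refine (Subgroup.card_subgroup_dvd_card _).trans (dvd_of_eq ?_)
      rw [IsCyclic.card_mulAut, Nat.card_zpowers, hx, Nat.totient_prime (by norm_num)]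
    refine ⟨?_, fun n hn h11 => ?_⟩
    · rw [← φ.ker.card_mul_index, Subgroup.index_ker]
      exact mul_dvd_mul hkd hrd
    · have h1 : φ ⟨n, hn⟩ = 1 := by
        refine orderOf_eq_one_iff.1 (Nat.eq_one_of_dvd_coprimes (a := 11) (b := 10) (by norm_num)
          (orderOf_dvd_of_pow_eq_one ?_) ?_)
        · rw [← map_pow, show (⟨n, hn⟩ : ↥NN) ^ 11 = 1 from Subtype.ext (by rw [Subgroup.coe_pow]; exact h11), map_one]
        · refine dvd_trans ?_ hrd
          have := orderOf_dvd_natCard (⟨φ ⟨n, hn⟩, ⟨⟨n, hn⟩, rfl⟩⟩ : φ.range)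
          rwa [← Subgroup.orderOf_coe] at this
      by_cases hn1 : n = 1
      · rw [hn1]; exact one_mem _
      obtain ⟨g, hg, i, hi⟩ := exists_conj_mem (K := CC t x) (by rw [h22]; norm_num)
        (orderOf_eq_prime h11 hn1) (hk _ (MonoidHom.mem_ker.2 h1)) hx (mem_CC.2 ⟨hxt, Commute.refl x⟩)
      have hi' : x ^ i = g * n * g⁻¹ := hi
      refine ⟨i, ?_⟩
      have h3 : g⁻¹ * x ^ i * g = n := by rw [hi']; group
      show x ^ i = n
      rw [← h3, ((mem_CC.1 hg).2.zpow_right i).inv_left.eq, inv_mul_cancel_right]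
  -- fixed sets of involutions
  let F : G → Set (G ⧸ NV) := fun s => p '' {u : ↥U | Commute (u : G) s}
  have hF : ∀ s, s * s = 1 → s ≠ 1 → (F s).ncard ≤ 11 := by
    intro s hs hs1
    refine (Set.ncard_image_le (Set.toFinite _)).trans ?_
    set W := U ⊓ Subgroup.centralizer ({s} : Set G)
    have e : {u : ↥U | Commute (u : G) s}.ncard = Nat.card ↥W := by
      rw [← Nat.card_coe_set_eq]
      exact Nat.card_congr
        { toFun := fun u => ⟨(u : ↥U), Subgroup.mem_inf.2 ⟨(u : ↥U).2, mem_centralizer_singleton_iff'.2 u.2.eq⟩⟩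
          invFun := fun a => ⟨⟨a, (Subgroup.mem_inf.1 a.2).1⟩, mem_centralizer_singleton_iff'.1 (Subgroup.mem_inf.1 a.2).2⟩
          left_inv := fun _ => rfl
          right_inv := fun _ => rfl }
    rw [e]
    obtain ⟨k, hk⟩ := IsPGroup.iff_card.1 ((IsPGroup.of_card hUc).to_le (inf_le_left : W ≤ U))
    have hd : Nat.card ↥W ∣ Nat.card ↥(CX s) := Subgroup.card_dvd_of_le inf_le_right
    have hns := h.not_sq_cent (u := s) (orderOf_eq_prime (by rw [pow_two]; exact hs) hs1)
    rw [hk] at hd ⊢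
    calc 11 ^ k ≤ 11 ^ 1 := Nat.pow_le_pow_right (by norm_num) (by
          by_contra hk2
          exact hns ((pow_two 11).symm.dvd.trans ((pow_dvd_pow 11 (not_le.1 hk2)).trans hd)))
      _ = 11 := pow_one 11
  obtain ⟨s0, hs0⟩ : ∃ s0 : G, ∀ s, (s ∈ NN ∧ s * s = 1 ∧ s ≠ 1 ∧ ¬ Commute s x) →
      (s0 ∈ NN ∧ s0 * s0 = 1 ∧ s0 ≠ 1 ∧ ¬ Commute s0 x) := by
    by_cases he : ∃ s, s ∈ NN ∧ s * s = 1 ∧ s ≠ 1 ∧ ¬ Commute s x
    · obtain ⟨s, hs⟩ := he; exact ⟨s, fun _ _ => hs⟩
    · exact ⟨1, fun s hs => absurd ⟨s, hs⟩ he⟩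
  set B : Set (G ⧸ NV) := F t ∪ (if s0 * s0 = 1 ∧ s0 ≠ 1 then F s0 else ∅) ∪
    (if s0 * t * (s0 * t) = 1 ∧ s0 * t ≠ 1 then F (s0 * t) else ∅) with hB
  have hBc : B.ncard ≤ 33 := by
    refine (Set.ncard_union_le _ _).trans (le_trans (add_le_add ((Set.ncard_union_le _ _).trans
      (add_le_add (hF t htt fun e => ?_) ?_)) ?_) (by norm_num : (11 + 11) + 11 ≤ 33))
    · rw [e, orderOf_one] at ht; norm_num at ht
    · split_ifs with hh
      · exact hF _ hh.1 hh.2
      · simp
    · split_ifs with hh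
      · exact hF _ hh.1 hh.2
      · simp
  have hbad : Pts ⊆ free ∪ B := by
    rintro q ⟨u, rfl⟩
    by_cases hq : p u ∈ free
    · exact Or.inl hq
    right
    simp only [hfree, Set.mem_setOf_eq, not_and, not_forall] at hq
    obtain ⟨n, hnN, hnq, hnx⟩ := hq ⟨u, rfl⟩
    -- an element of prime order
    have ho : ¬ orderOf n ∣ 11 := fun hd => hnx (hNNc.2 n hnN (orderOf_dvd_iff_pow_eq_one.1 hd))
    have ho220 : orderOf n ∣ 220 :=
      ((Subgroup.orderOf_mk n hnN).symm ▸ orderOf_dvd_natCard (⟨n, hnN⟩ : ↥NN)).trans hNNc.1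
    obtain ⟨r, hr, hrd⟩ : ∃ r, (r = 2 ∨ r = 5) ∧ r ∣ orderOf n := by
      by_contra hno
      simp only [not_exists, not_and] at hno
      have h2 := (Nat.Prime.coprime_iff_not_dvd Nat.prime_two).2 (hno 2 (Or.inl rfl))
      have h5 := (Nat.Prime.coprime_iff_not_dvd (by norm_num : Nat.Prime 5)).2 (hno 5 (Or.inr rfl))
      exact ho (Nat.Coprime.dvd_of_dvd_mul_left (m := 2 ^ 2 * 5) ((h2.pow_left 2).mul_left h5).symm
        (ho220.trans (dvd_of_eq (by norm_num))))
    set m := n ^ (orderOf n / r) with hm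
    have hmo : orderOf m = r := orderOf_pow_orderOf_div (orderOf_pos n).ne' hrd
    have hmN : m ∈ NN := pow_mem hnN _
    have hmq : m • p u = p u := by
      have hmem : n ∈ MulAction.stabilizer G (p u) := hnq
      exact pow_mem hmem _
    haveI : Fact r.Prime := ⟨by rcases hr with rfl | rfl <;> norm_num⟩
    have hm1 : m ^ r = 1 := hmo ▸ pow_orderOf_eq_one m
    -- a fixed lift
    have hmem : (u : G)⁻¹ * (m * u * m⁻¹) ∈ Subgroup.zpowers x := by
      refine (hp u ⟨m * u * m⁻¹, hUn m (hconj hmN) u u.2⟩).1 ?_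
      rw [← hmq]
      show m • (QuotientGroup.mk (u : G) : G ⧸ NV) = QuotientGroup.mk (m * u * m⁻¹)
      rw [MulAction.Quotient.smul_mk, QuotientGroup.eq]
      show (m * (u : G))⁻¹ * (m * u * m⁻¹) ∈ NV
      rw [show (m * (u : G))⁻¹ * (m * u * m⁻¹) = m⁻¹ by group]
      exact inv_mem (Subgroup.mem_inf.1 hmN).1
    have hmem' : m * u * m⁻¹ * (u : G)⁻¹ ∈ Subgroup.zpowers x := by
      obtain ⟨i, hi⟩ := hmem
      refine ⟨i, ?_⟩
      have hi' : x ^ i = (u : G)⁻¹ * (m * u * m⁻¹) := hi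
      show x ^ i = _
      calc x ^ i = (u : G) * x ^ i * (u : G)⁻¹ := by rw [((hxU u.2).zpow_right i).eq, mul_inv_cancel_right]
        _ = _ := by rw [hi']; group
    obtain ⟨a, ha, ham⟩ := exists_fixed_coset (p := r) hm1 (I := Subgroup.zpowers x) (u := (u : G))
      (by rw [Nat.card_zpowers, hx]; rcases hr with rfl | rfl <;> norm_num)
      (fun a ha => by
        obtain ⟨i, rfl⟩ := ha
        show m * x ^ i * m⁻¹ ∈ _
        rw [← conj_zpow]
        exact zpow_mem (hconj hmN) i) hmem'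
    have haU : a ∈ U := by
      rw [show a = a * (u : G)⁻¹ * u by group]
      exact mul_mem ((Subgroup.zpowers_le.2 (hmemU x (mem_CX.2 (Commute.refl x))
        (orderOf_dvd_iff_pow_eq_one.1 (by rw [hx]; norm_num)))) ha) u.2
    have hpa : p ⟨a, haU⟩ = p u := by
      refine ((hp u ⟨a, haU⟩).2 ?_).symm
      obtain ⟨i, hi⟩ := ha
      refine ⟨i, ?_⟩
      have hi' : x ^ i = a * (u : G)⁻¹ := hi
      show x ^ i = (u : G)⁻¹ * a
      calc x ^ i = (u : G)⁻¹ * x ^ i * u := by rw [((hxU u.2).zpow_right i).inv_left.eq, inv_mul_cancel_right]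
        _ = _ := by rw [hi']; group
    rcases hr with rfl | rfl
    · -- an involution
      have hmm : m * m = 1 := by rw [← pow_two]; exact hm1
      have hmne : m ≠ 1 := fun e => by rw [e, orderOf_one] at hmo; norm_num at hmo
      by_cases hmc : Commute m x
      · have hmC := mem_CC.1 (hNX m (Subgroup.mem_inf.1 hmN).1 hmc)
        rw [hinv m hmC.1 hmc hmm hmne] at ham
        exact Or.inl (Or.inl ⟨⟨a, haU⟩, ham, hpa⟩)
      -- inverting
      have hinvx : ∀ {s}, s ∈ NN → s * s = 1 → ¬ Commute s x → s * x * s⁻¹ = x⁻¹ := by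
        intro s hs hss hsc
        obtain ⟨i, hi⟩ := mem_powers_iff_mem_zpowers.2 (hconj hs)
        have hi' : x ^ i = s * x * s⁻¹ := hi
        have h4 : x ^ (i * i) = x := by
          rw [pow_mul, hi', conj_pow, hi', show s * (s * x * s⁻¹) * s⁻¹ = (s * s) * x * (s * s)⁻¹ by group, hss]
          simp
        conv_rhs at h4 => rw [← pow_one x]
        rw [pow_eq_pow_iff_modEq, hx] at h4
        have key : ∀ r < 11, r * r % 11 = 1 % 11 → r = 1 ∨ r = 10 := by decide
        rcases key _ (Nat.mod_lt i (by norm_num)) (by rw [← Nat.mul_mod]; exact h4) with e | e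
        · refine absurd (mul_inv_eq_iff_eq_mul.1 ?_) hsc
          rw [← hi', ← pow_mod_orderOf, hx, e, pow_one]
        · rw [← hi', ← pow_mod_orderOf, hx, e, eq_inv_iff_mul_eq_one, ← pow_succ, hx11]
      obtain ⟨hs0N, hs02, hs01, hs0c⟩ := hs0 m ⟨hmN, hmm, hmne, hmc⟩
      set d := s0 * m with hd
      have hs0i : s0⁻¹ = s0 := inv_eq_of_mul_eq_one_right hs02
      have hdC : d ∈ CC t x := hNX d (mul_mem (Subgroup.mem_inf.1 hs0N).1 (Subgroup.mem_inf.1 hmN).1)
        (mul_inv_eq_iff_eq_mul.1 (by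
          rw [hd, show s0 * m * x * (s0 * m)⁻¹ = s0 * (m * x * m⁻¹) * s0⁻¹ by group, hinvx hmN hmm hmc,
            ← conj_inv, hinvx hs0N hs02 hs0c, inv_inv]))
      have hst : Commute s0 t := by
        have h1 := (Subgroup.mem_normalizer_iff.1 (Subgroup.mem_inf.1 hs0N).1 t).1 htV
        have h2 : Commute (s0 * t * s0⁻¹) x := by
          have h3 := ((commute_conj (g := s0)).2 hxt.symm)
          rw [hinvx hs0N hs02 hs0c] at h3
          simpa using h3.inv_right
        rcases hfix _ h1 h2 with e | e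
        · rw [conj_eq_one_iff] at e
          rw [e, orderOf_one] at ht; norm_num at ht
        · exact mul_inv_eq_iff_eq_mul.1 e
      -- `d` is a power of `x`, possibly times `t`
      obtain ⟨v, hv, i, hdi⟩ : ∃ v : G, (v = 1 ∨ v = t) ∧ ∃ i : ℤ, d = v * x ^ i := by
        set d2 := d ^ 11 with hd2
        have hd22 : d ^ 22 = 1 := by
          have := congrArg Subtype.val (pow_card_eq_one' (G := ↥(CC t x)) (x := ⟨d, hdC⟩))
          rwa [h22] at this
        have hd2C := mem_CC.1 (pow_mem hdC 11)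
        by_cases h1 : d2 = 1
        · refine ⟨1, Or.inl rfl, ?_⟩
          by_cases hd1 : d = 1
          · exact ⟨0, by rw [hd1]; simp⟩
          obtain ⟨g, hg, j, hj⟩ := exists_conj_mem (K := CC t x) (by rw [h22]; norm_num)
            (orderOf_eq_prime h1 hd1) hdC hx (mem_CC.2 ⟨hxt, Commute.refl x⟩)
          have hj' : x ^ j = g * d * g⁻¹ := hj
          refine ⟨j, ?_⟩
          have h3 : g⁻¹ * x ^ j * g = d := by rw [hj']; group
          rw [one_mul, ← h3, ((mem_CC.1 hg).2.zpow_right j).inv_left.eq, inv_mul_cancel_right]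
        · have e2 : d2 = t := hinv d2 hd2C.1 hd2C.2 (by rw [hd2, ← pow_add]; exact hd22) h1
          refine ⟨t, Or.inr rfl, ?_⟩
          by_cases hd1 : t * d = 1
          · exact ⟨0, by
              rw [zpow_zero, mul_one]
              exact (eq_inv_of_mul_eq_one_right hd1).trans (inv_eq_of_mul_eq_one_right htt)⟩
          have htd : (t * d) ^ 11 = 1 := by
            rw [(mem_CC.1 hdC).1.symm.mul_pow, show d ^ 11 = t from e2,
              show t ^ 11 = t * (t * t) ^ 5 by rw [← pow_two, ← pow_mul, ← pow_succ'], htt, one_pow, mul_one, htt]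
          obtain ⟨g, hg, j, hj⟩ := exists_conj_mem (K := CC t x) (by rw [h22]; norm_num)
            (orderOf_eq_prime htd hd1) (mul_mem (mem_CC.2 ⟨Commute.refl t, hxt.symm⟩) hdC) hx
            (mem_CC.2 ⟨hxt, Commute.refl x⟩)
          have hj' : x ^ j = g * (t * d) * g⁻¹ := hj
          refine ⟨j, ?_⟩
          have h3 : g⁻¹ * x ^ j * g = t * d := by rw [hj']; group
          rw [show x ^ j = t * d by rw [← h3, ((mem_CC.1 hg).2.zpow_right j).inv_left.eq, inv_mul_cancel_right],
            ← mul_assoc, htt, one_mul]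
      -- `m = s0 v x^i` is conjugate under `⟨x⟩` to `s0 v`
      have hmv : m = s0 * v * x ^ i := by
        rw [mul_assoc, ← hdi, hd, ← mul_assoc, hs02, one_mul]
      have hav : Commute a (s0 * v) := by
        have hvx : Commute v x := by rcases hv with rfl | rfl; exacts [Commute.one_left x, hxt.symm]
        -- `i = 2 j` modulo eleven
        obtain ⟨j, hj⟩ : ∃ j : ℤ, x ^ (j + j) = x ^ i :=
          ⟨6 * i, by rw [show 6 * i + 6 * i = i + 11 * i by ring, zpow_add, zpow_mul, zpow_ofNat, hx11, one_zpow, mul_one]⟩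
        have h5 : s0 * x ^ j * s0⁻¹ = (x ^ j)⁻¹ := by
          rw [← conj_zpow, hinvx hs0N hs02 hs0c, inv_zpow]
        have h6 : x ^ (-j) * (s0 * v) * (x ^ (-j))⁻¹ = m := by
          rw [hmv, ← hj, zpow_neg, inv_inv]
          calc (x ^ j)⁻¹ * (s0 * v) * x ^ j = s0 * x ^ j * s0⁻¹ * (s0 * v) * x ^ j := by rw [h5]
            _ = s0 * (x ^ j * v) * x ^ j := by group
            _ = s0 * (v * x ^ j) * x ^ j := by rw [(hvx.zpow_right j).eq]
            _ = _ := by rw [zpow_add]; group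
        have h7 : Commute (x ^ (-j) * a * (x ^ (-j))⁻¹) (x ^ (-j) * (s0 * v) * (x ^ (-j))⁻¹) := by
          rw [h6, ((hxU haU).zpow_right (-j)).symm.eq, mul_inv_cancel_right]
          exact ham
        exact commute_conj.1 h7
      rcases hv with rfl | rfl
      · rw [mul_one] at hav
        refine Or.inl (Or.inr ?_)
        rw [if_pos ⟨hs02, hs01⟩]
        exact ⟨⟨a, haU⟩, hav, hpa⟩
      · refine Or.inr ?_
        rw [if_pos ⟨by rw [hst.symm.mul_mul_mul_comm, hs02, htt, one_mul], fun e => hs0c (by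
          rw [eq_inv_of_mul_eq_one_left e]; exact hxt.symm.inv_left)⟩]
        exact ⟨⟨a, haU⟩, hav, hpa⟩
    · -- order five: only the origin
      have ha1 : a = 1 := by
        by_contra hne'
        have hord : orderOf a ∣ 11 ^ 3 := hUc ▸ (Subgroup.orderOf_mk a haU ▸ orderOf_dvd_natCard (⟨a, haU⟩ : ↥U))
        obtain ⟨k, hk, hk'⟩ := (Nat.dvd_prime_pow (by norm_num : Nat.Prime 11)).1 hord
        have hk1 : 1 ≤ k := by
          by_contra hk0
          exact hne' (orderOf_eq_one_iff.1 (by rw [hk', show k = 0 by omega, pow_zero]))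
        have h11 : orderOf (a ^ (orderOf a / 11)) = 11 :=
          orderOf_pow_orderOf_div (orderOf_pos a).ne' (hk' ▸ dvd_pow_self 11 (by omega))
        exact not_commute_five h.nonab h.type hmo h11 (ham.pow_left _)
      exact Or.inl (Or.inl ⟨⟨a, haU⟩, (show Commute a t from ha1.symm ▸ Commute.one_left t), hpa⟩)
  have hfc : 88 ≤ free.ncard := by
    have := (Set.ncard_le_ncard hbad (Set.toFinite _)).trans (Set.ncard_union_le _ _)
    omega
  -- orbits of free points
  have hxfix : ∀ q ∈ Pts, x • q = q := by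
    rintro q ⟨u, rfl⟩
    show (QuotientGroup.mk (x * (u : G)) : G ⧸ NV) = QuotientGroup.mk (u : G)
    rw [QuotientGroup.eq, show (x * (u : G))⁻¹ * u = ((u : G)⁻¹ * x * u)⁻¹ by group,
      (hxU u.2).inv_left.eq, inv_mul_cancel_right]
    exact inv_mem hxN
  have hstab : ∀ q ∈ free, Nat.card ↥(NV ⊓ MulAction.stabilizer G q) ≤ 11264 := by
    intro q hq
    refine small_stabilizer hVc hVV π hπ hx hfix inf_le_left
      (Subgroup.mem_inf.2 ⟨hxN, hxfix q hq.1⟩) (fun htA => ?_) (fun a ha hax => ?_)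
    · have htN : t ∈ NN := Subgroup.mem_inf.2 ⟨(Subgroup.mem_inf.1 htA).1, mem_normalizer_of_conj (fun a ha => by
        obtain ⟨i, rfl⟩ := ha
        show t * x ^ i * t⁻¹ ∈ _
        rw [(hxt.symm.zpow_right i).eq, mul_inv_cancel_right]
        exact zpow_mem (Subgroup.mem_zpowers x) i)⟩
      have h1 := orderOf_dvd_of_mem_zpowers (hq.2 t htN (Subgroup.mem_inf.1 htA).2)
      rw [ht, hx] at h1
      norm_num at h1
    · refine hq.2 a (Subgroup.mem_inf.2 ⟨(Subgroup.mem_inf.1 ha).1, mem_normalizer_of_conj (fun w hw => ?_)⟩)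
        (Subgroup.mem_inf.1 ha).2
      obtain ⟨i, rfl⟩ := hw
      show a * x ^ i * a⁻¹ ∈ _
      rw [← conj_zpow]
      exact zpow_mem hax i
  have hNNx : x ∈ NN := Subgroup.mem_inf.2 ⟨hxN, Subgroup.le_normalizer (Subgroup.mem_zpowers x)⟩
  have hsmall : ∀ q ∈ free, (MulAction.orbit ↥NV q ∩ free).ncard ≤ 20 := by
    intro q hq
    have hsub : MulAction.orbit ↥NV q ∩ free ⊆ MulAction.orbit ↥NN q := by
      rintro r ⟨⟨n, rfl⟩, hr⟩
      set A := NV ⊓ MulAction.stabilizer G q
      have h1 : (n : G)⁻¹ * x * n ∈ A := Subgroup.mem_inf.2 ⟨mul_mem (mul_mem (inv_mem n.2) hxN) n.2, by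
        show ((n : G)⁻¹ * x * n) • q = q
        rw [mul_smul, mul_smul, show x • ((n : G) • q) = (n : G) • q from hxfix _ hr.1, inv_smul_smul]⟩
      obtain ⟨a, ha, hax⟩ := exists_conj_mem (K := A) (fun hd => by
          have := hd.trans (Subgroup.card_dvd_of_le (inf_le_left : A ≤ NV))
          rw [hNc] at this
          norm_num at this)
        hx (Subgroup.mem_inf.2 ⟨hxN, hxfix q hq.1⟩) (show orderOf ((n : G)⁻¹ * x * n) = 11 by
          have := orderOf_conj' ((n : G)⁻¹) x
          rw [inv_inv] at this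
          exact this.trans hx) h1
      have hna : ((n : G) * a) * x * ((n : G) * a)⁻¹ ∈ Subgroup.zpowers x := by
        obtain ⟨i, hi⟩ := hax
        have hi' : ((n : G)⁻¹ * x * n) ^ i = a * x * a⁻¹ := hi
        refine ⟨i, ?_⟩
        show x ^ i = _
        rw [show (n : G) * a * x * ((n : G) * a)⁻¹ = (n : G) * (a * x * a⁻¹) * (n : G)⁻¹ by group, ← hi',
          ← conj_zpow, show (n : G) * ((n : G)⁻¹ * x * n) * (n : G)⁻¹ = x by group]
      refine ⟨⟨(n : G) * a, Subgroup.mem_inf.2 ⟨mul_mem n.2 (Subgroup.mem_inf.1 ha).1,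
        mem_normalizer_of_conj fun w hw => ?_⟩⟩, ?_⟩
      · obtain ⟨i, rfl⟩ := hw
        show (n : G) * a * x ^ i * ((n : G) * a)⁻¹ ∈ _
        rw [← conj_zpow]
        exact zpow_mem hna i
      · show ((n : G) * a) • q = (n : G) • q
        rw [mul_smul, show a • q = q from (Subgroup.mem_inf.1 ha).2]
    refine (Set.ncard_le_ncard hsub (Set.toFinite _)).trans ?_
    have h1 := (Nat.card_congr (MulAction.orbitProdStabilizerEquivGroup ↥NN q))
    rw [Nat.card_prod, Nat.card_coe_set_eq] at h1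
    have h2 : 11 ≤ Nat.card ↥(MulAction.stabilizer ↥NN q) := by
      refine Nat.le_of_dvd Nat.card_pos ?_
      have := orderOf_dvd_natCard (⟨⟨x, hNNx⟩, hxfix q hq.1⟩ : MulAction.stabilizer ↥NN q)
      rwa [← Subgroup.orderOf_coe, ← Subgroup.orderOf_coe, hx] at this
    have h3 := Nat.le_of_dvd (by norm_num) hNNc.1
    rw [← h1] at h3
    have := (Nat.mul_le_mul_left _ h2).trans h3
    omega
  have hbig : ∀ q ∈ free, 44513280 ≤ (MulAction.orbit ↥NV q).ncard := by
    intro q hq
    have h1 := (Nat.card_congr (MulAction.orbitProdStabilizerEquivGroup ↥NV q))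
    rw [Nat.card_prod, Nat.card_coe_set_eq, hNc] at h1
    have h2 : Nat.card ↥(MulAction.stabilizer ↥NV q) ≤ 11264 := by
      refine le_trans (le_of_eq ?_) (hstab q hq)
      exact Nat.card_congr
        { toFun := fun a => ⟨((a : ↥NV) : G), Subgroup.mem_inf.2 ⟨(a : ↥NV).2, a.2⟩⟩
          invFun := fun a => ⟨⟨a, (Subgroup.mem_inf.1 a.2).1⟩, (Subgroup.mem_inf.1 a.2).2⟩
          left_inv := fun _ => rfl
          right_inv := fun _ => rfl }
    by_contra hlt
    have h3 := Nat.mul_le_mul (Nat.le_sub_one_of_lt (not_le.1 hlt)) h2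
    omega
  -- counting
  have hidx : Nat.card (G ⧸ NV) = 173067389 := by
    have h1 := NV.card_mul_index
    rw [hNc, h.order, Subgroup.index_eq_card] at h1
    refine Nat.eq_of_mul_eq_mul_left (by norm_num : 0 < 501397585920) (h1.trans ?_)
    norm_num
  haveI : Fintype (G ⧸ NV) := Fintype.ofFinite _
  set O : Finset (Set (G ⧸ NV)) := free.toFinset.image fun q => MulAction.orbit ↥NV q
  have hO : free.ncard ≤ 20 * O.card := by
    rw [Set.ncard_eq_toFinset_card']
    refine Finset.card_le_mul_card_image _ _ fun b hb => ?_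
    obtain ⟨q, hq, rfl⟩ := Finset.mem_image.1 hb
    rw [Set.mem_toFinset] at hq
    refine le_trans ?_ (hsmall q hq)
    rw [Set.ncard_eq_toFinset_card']
    refine Finset.card_le_card fun r hr => ?_
    obtain ⟨hr1, hr2⟩ := Finset.mem_filter.1 hr
    rw [Set.mem_toFinset] at hr1 ⊢
    exact ⟨hr2 ▸ MulAction.mem_orbit_self r, hr1⟩
  have hdisj : (O : Set (Set (G ⧸ NV))).PairwiseDisjoint fun s => s.toFinset := by
    intro a ha b hb hab
    obtain ⟨q, -, rfl⟩ := Finset.mem_image.1 ha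
    obtain ⟨r, -, rfl⟩ := Finset.mem_image.1 hb
    rw [Function.onFun, Finset.disjoint_left]
    intro v hva hvb
    rw [Set.mem_toFinset] at hva hvb
    exact hab ((MulAction.orbit_eq_iff.2 hva).symm.trans (MulAction.orbit_eq_iff.2 hvb))
  have hsum : O.card * 44513280 ≤ 173067389 := by
    rw [← hidx, Nat.card_eq_fintype_card, ← smul_eq_mul]
    refine le_trans ?_ (Finset.card_le_univ (O.biUnion fun s => s.toFinset))
    rw [Finset.card_biUnion hdisj]
    refine Finset.card_nsmul_le_sum _ _ _ fun s hs => ?_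
    obtain ⟨q, hq, rfl⟩ := Finset.mem_image.1 hs
    rw [Set.mem_toFinset] at hq
    rw [← Set.ncard_eq_toFinset_card']
    exact hbig q hq
  omega

end CfsgLib.JankoFour.Eleven
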