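import Cfsg.Agent.Lib.JankoFourEleven.Centralizers

/-!
# The Sylow 11-subgroup of the centralizer of an element of order eleven (owner: helper25)

It has order at least 121 and is normal; for an element commuting with `z` it has order 1331.
-/

set_option autoImplicit false
set_option linter.unusedSectionVars false

namespace CfsgLib.JankoFour.Eleven

open Cfsg CfsgLib.ThreeTrans

variable {G : Type*} [Group G] [Finite G]

/-- An element commuting with an involution in a coset of a subgroup of odd order normalized by it. -/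
theorem exists_fixed_coset {p : ℕ} [Fact p.Prime] {s u : G} (hs : s ^ p = 1) {I : Subgroup G} (hI : ¬ p ∣ Nat.card ↥I)
    (hsI : ∀ a ∈ I, s * a * s⁻¹ ∈ I) (hu : s * u * s⁻¹ * u⁻¹ ∈ I) : ∃ a, a * u⁻¹ ∈ I ∧ Commute a s := by
  refine exists_fixed hs (s := {a | a * u⁻¹ ∈ I}) (fun a ha => ?_) ?_
  · show s * a * s⁻¹ * u⁻¹ ∈ I
    rw [show s * a * s⁻¹ * u⁻¹ = s * (a * u⁻¹) * s⁻¹ * (s * u * s⁻¹ * u⁻¹) by group]
    exact mul_mem (hsI _ ha) hu
  · rwa [← Nat.card_coe_set_eq, Nat.card_congr (show ↥{a | a * u⁻¹ ∈ I} ≃ ↥I from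
      { toFun := fun a => ⟨(a : G) * u⁻¹, a.2⟩
        invFun := fun a => ⟨(a : G) * u, by show (a : G) * u * u⁻¹ ∈ I; rw [mul_inv_cancel_right]; exact a.2⟩
        left_inv := fun a => Subtype.ext (inv_mul_cancel_right _ _)
        right_inv := fun a => Subtype.ext (mul_inv_cancel_right _ _) })]

/-- Automorphisms of a group of prime order commute. -/
theorem mulAut_comm {Q : Type*} [Group Q] [Finite Q] {p : ℕ} [Fact p.Prime] (hQ : Nat.card Q = p) (a b : MulAut Q) :
    a * b = b * a := by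
  haveI := isCyclic_of_prime_card hQ
  obtain ⟨m, hm⟩ := MonoidHom.map_cyclic a.toMonoidHom
  obtain ⟨k, hk⟩ := MonoidHom.map_cyclic b.toMonoidHom
  refine MulEquiv.ext fun v => ?_
  show a (b v) = b (a v)
  rw [show b v = v ^ k from hk v, show a v = v ^ m from hm v, map_zpow, map_zpow, show a v = v ^ m from hm v,
    show b v = v ^ k from hk v, ← zpow_mul, ← zpow_mul, mul_comm]

variable [IsSimpleGroup G] {z : G} (h : Hyp z)
include h

/-- The Sylow subgroups have order 1331. -/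
theorem Hyp.card_sylow (U : Sylow 11 G) : Nat.card ↥(U : Subgroup G) = 11 ^ 3 := by
  haveI : Fact (Nat.Prime 11) := ⟨by norm_num⟩
  rw [U.card_eq_multiplicity, h.order]
  congr 1
  rw [show 2 ^ 21 * 3 ^ 3 * 5 * 7 * 11 ^ 3 * 23 * 29 * 31 * 37 * 43 = 11 ^ 3 * (2 ^ 21 * 3 ^ 3 * 5 * 7 * (23 * 29 * 31 * 37 * 43)) by ring,
    Nat.factorization_mul (by norm_num) (by norm_num), Finsupp.add_apply,
    Nat.Prime.factorization_pow (Fact.out : Nat.Prime 11), Finsupp.single_eq_same,
    Nat.factorization_eq_zero_of_not_dvd (by norm_num)]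

/-- Every centralizer of an element of order eleven has a subgroup of order 121. -/
theorem Hyp.sq_dvd {x : G} (hx : orderOf x = 11) : 11 ^ 2 ∣ Nat.card ↥(CX x) := by
  classical
  haveI : Fact (Nat.Prime 11) := ⟨by norm_num⟩
  obtain ⟨U, hU⟩ := (IsPGroup.of_card (n := 1) (by rw [Nat.card_zpowers, hx, pow_one]) :
    IsPGroup 11 (Subgroup.zpowers x)).exists_le_sylow
  have hxU : x ∈ (U : Subgroup G) := hU (Subgroup.mem_zpowers x)
  set W : Subgroup G := (U : Subgroup G) ⊓ CX x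
  obtain ⟨k, hk⟩ := IsPGroup.iff_card.1 (U.2.to_le (inf_le_left : W ≤ (U : Subgroup G)))
  have hWX : Nat.card ↥W ∣ Nat.card ↥(CX x) := Subgroup.card_dvd_of_le inf_le_right
  suffices 2 ≤ k from ((pow_dvd_pow 11 this).trans (dvd_of_eq hk.symm)).trans hWX
  by_contra hlt
  have hle : Subgroup.zpowers x ≤ W := le_inf hU (Subgroup.zpowers_le.2 (mem_CX.2 (Commute.refl x)))
  have hWx : Subgroup.zpowers x = W := Subgroup.eq_of_le_of_card_ge hle (by
    rw [hk, Nat.card_zpowers, hx]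
    calc 11 ^ k ≤ 11 ^ 1 := Nat.pow_le_pow_right (by norm_num) (by omega)
      _ = 11 := pow_one 11)
  -- the centre lies in `⟨x⟩`
  haveI : Nontrivial ↥(U : Subgroup G) := ⟨⟨⟨x, hxU⟩, 1, fun e => by
    rw [show x = 1 from congrArg Subtype.val e, orderOf_one] at hx
    norm_num at hx⟩⟩
  haveI : Nontrivial (Subgroup.center ↥(U : Subgroup G)) := U.2.center_nontrivial
  obtain ⟨c, hc⟩ := exists_ne (1 : Subgroup.center ↥(U : Subgroup G))
  have hcc : ∀ w ∈ (U : Subgroup G), Commute w (((c : ↥(U : Subgroup G)) : G)) := fun w hw =>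
    congrArg Subtype.val (Subgroup.mem_center_iff.1 c.2 ⟨w, hw⟩)
  have hcW : ((c : ↥(U : Subgroup G)) : G) ∈ Subgroup.zpowers x :=
    by rw [hWx]; exact Subgroup.mem_inf.2 ⟨(c : ↥(U : Subgroup G)).2, mem_CX.2 (hcc x hxU).symm⟩
  have hc1 : ((c : ↥(U : Subgroup G)) : G) ≠ 1 := fun e => hc (Subtype.ext (Subtype.ext e))
  have hgen : x ∈ Subgroup.zpowers (((c : ↥(U : Subgroup G)) : G)) := by
    have ho : orderOf (((c : ↥(U : Subgroup G)) : G)) = 11 :=
      ((Nat.dvd_prime (Fact.out : Nat.Prime 11)).1 ((orderOf_dvd_of_mem_zpowers hcW).trans (dvd_of_eq hx))).resolve_left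
        fun e => hc1 (orderOf_eq_one_iff.1 e)
    rw [Subgroup.eq_of_le_of_card_ge (Subgroup.zpowers_le.2 hcW) (by rw [Nat.card_zpowers, Nat.card_zpowers, ho, hx])]
    exact Subgroup.mem_zpowers x
  obtain ⟨i, hi⟩ := hgen
  have hUW : (U : Subgroup G) ≤ W := fun w hw =>
    Subgroup.mem_inf.2 ⟨hw, mem_CX.2 (hi ▸ (hcc w hw).zpow_right i)⟩
  have := Subgroup.card_dvd_of_le hUW
  rw [h.card_sylow, ← hWx, Nat.card_zpowers, hx] at this
  norm_num at this

/-- For an element commuting with `z`: a normal Sylow subgroup of order 1331. -/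
theorem Hyp.z_sylow {x : G} (hx : orderOf x = 11) (hxz : Commute x z) :
    Nat.card ↥(CX x) = 24 * 11 ^ 3 ∧
      ∃ U : Subgroup G, Nat.card ↥U = 11 ^ 3 ∧ U ≤ CX x ∧ CX x ≤ Subgroup.normalizer (U : Set G) := by
  classical
  haveI : Fact (Nat.Prime 11) := ⟨by norm_num⟩
  haveI : Fact (Nat.Prime 2) := ⟨Nat.prime_two⟩
  obtain ⟨hD, -, -⟩ := z_data h.nonab h.type hx hxz
  have hz2 : orderOf z = 2 := h.type.choose_spec.1
  have hzz : z ^ 2 = 1 := hz2 ▸ pow_orderOf_eq_one z
  obtain ⟨c, hc3, hc⟩ := h.card_z hx hxz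
  have hc2 : 2 ≤ c := by
    have h2 := h.sq_dvd hx
    rw [hc] at h2
    exact (Nat.pow_dvd_pow_iff_le_right (by norm_num : 1 < 11)).1
      ((Nat.Coprime.pow_left 2 (by norm_num : Nat.Coprime 11 24)).dvd_of_dvd_mul_left h2)
  set X := CX x
  have hfac : (Nat.card ↥X).factorization 11 = c := by
    rw [hc, Nat.factorization_mul (by norm_num) (by positivity), Finsupp.add_apply,
      Nat.Prime.factorization_pow (Fact.out : Nat.Prime 11), Finsupp.single_eq_same,
      Nat.factorization_eq_zero_of_not_dvd (by norm_num), zero_add]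
  obtain ⟨D⟩ : Nonempty (Sylow 11 ↥X) := inferInstance
  have hDc : Nat.card (D : Subgroup ↥X) = 11 ^ c := by rw [D.card_eq_multiplicity, hfac]
  let z' : ↥X := ⟨z, mem_CX.2 hxz.symm⟩
  let x' : ↥X := ⟨x, mem_CX.2 (Commute.refl x)⟩
  have hx'c : ∀ g : ↥X, Commute g x' := fun g => Subtype.ext (mem_CX.1 g.2).eq
  have hx'D : ∀ P : Sylow 11 ↥X, x' ∈ (P : Subgroup ↥X) := by
    intro P
    have hpg : IsPGroup 11 (Subgroup.zpowers x') :=
      IsPGroup.of_card (n := 1) (by rw [Nat.card_zpowers, ← Subgroup.orderOf_coe, pow_one]; exact hx)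
    have hn : x' ∈ Subgroup.normalizer ((P : Subgroup ↥X) : Set ↥X) := Subgroup.mem_normalizer_iff.2 fun w => by
      rw [(hx'c w).symm.eq, mul_inv_cancel_right]
    have h1 : Subgroup.zpowers x' ⊓ Subgroup.normalizer ((P : Subgroup ↥X) : Set ↥X) =
        Subgroup.zpowers x' ⊓ (P : Subgroup ↥X) := hpg.inf_normalizer_sylow P
    have h2 : x' ∈ Subgroup.zpowers x' ⊓ (P : Subgroup ↥X) :=
      h1 ▸ Subgroup.mem_inf.2 ⟨Subgroup.mem_zpowers _, hn⟩
    exact (Subgroup.mem_inf.1 h2).2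
  set C := (CC z x).subgroupOf X
  have hCc : Nat.card ↥C = 264 := by
    rw [Nat.card_congr (Subgroup.subgroupOfEquivOfLe (inf_le_right : CC z x ≤ X)).toEquiv, hD.card_eq]
  -- fixed points of `z` in a Sylow subgroup
  have hfix : ∀ {a : ↥X}, a ∈ (D : Subgroup ↥X) → Commute a z' → a ∈ Subgroup.zpowers x' := by
    intro a ha haz
    have haC : a ∈ (D : Subgroup ↥X) ⊓ C :=
      Subgroup.mem_inf.2 ⟨ha, mem_CC.2 ⟨congrArg Subtype.val haz.eq, mem_CX.1 a.2⟩⟩
    have hxC : x' ∈ (D : Subgroup ↥X) ⊓ C :=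
      Subgroup.mem_inf.2 ⟨hx'D D, mem_CC.2 ⟨hxz, Commute.refl x⟩⟩
    obtain ⟨k, hk⟩ := IsPGroup.iff_card.1 (D.2.to_le (inf_le_left : (D : Subgroup ↥X) ⊓ C ≤ (D : Subgroup ↥X)))
    have hd : Nat.card ↥((D : Subgroup ↥X) ⊓ C) ∣ 264 := hCc ▸ Subgroup.card_dvd_of_le inf_le_right
    rw [Subgroup.eq_of_le_of_card_ge (Subgroup.zpowers_le.2 hxC) ?_]
    · exact haC
    rw [hk] at hd ⊢
    rw [Nat.card_zpowers, show orderOf x' = 11 from (Subgroup.orderOf_coe x').symm.trans hx]
    calc 11 ^ k ≤ 11 ^ 1 := Nat.pow_le_pow_right (by norm_num) (by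
          by_contra hk2
          have := (pow_dvd_pow 11 (not_le.1 hk2)).trans hd
          norm_num at this)
      _ = 11 := pow_one 11
  -- `D` is normal
  have hnorm : ∀ P : Sylow 11 ↥X, P = D := by
    by_contra hne
    have hn : Nat.card (Sylow 11 ↥X) = 12 := by
      have h1 := card_sylow_modEq_one 11 ↥X
      have hidx : (D : Subgroup ↥X).index = 24 := by
        have h' := (D : Subgroup ↥X).card_mul_index
        rw [hDc, hc, mul_comm 24] at h'
        exact Nat.eq_of_mul_eq_mul_left (by positivity) h'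
      have h2 : Nat.card (Sylow 11 ↥X) ∣ 24 := hidx ▸ D.card_dvd_index
      have h3 : Nat.card (Sylow 11 ↥X) ≠ 1 := fun e => hne fun P => by
        haveI := (Nat.card_eq_one_iff_unique.1 e).1
        exact Subsingleton.elim _ _
      have h4 : Nat.card (Sylow 11 ↥X) ≤ 24 := Nat.le_of_dvd (by norm_num) h2
      unfold Nat.ModEq at h1
      interval_cases hh : Nat.card (Sylow 11 ↥X) <;> omega
    have horb := Nat.card_congr (MulAction.orbitProdStabilizerEquivGroup ↥C D)
    rw [Nat.card_prod, hCc] at horb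
    set St := MulAction.stabilizer ↥C D
    have hStd : Nat.card ↥St ∣ 22 := by
      have hidx := (Subgroup.normalizer ((D : Subgroup ↥X) : Set ↥X)).card_mul_index
      have hi' : (Subgroup.normalizer ((D : Subgroup ↥X) : Set ↥X)).index = 12 := D.card_eq_index_normalizer.symm.trans hn
      rw [hi', hc] at hidx
      have hN : Nat.card ↥(Subgroup.normalizer ((D : Subgroup ↥X) : Set ↥X)) = 2 * 11 ^ c := by omega
      have hinj : Nat.card ↥St ∣ 2 * 11 ^ c := by
        rw [← hN]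
        refine Subgroup.card_dvd_of_injective
          (((C.subtype).comp St.subtype).codRestrict (Subgroup.normalizer ((D : Subgroup ↥X) : Set ↥X)) fun a => ?_)
          fun a b e => Subtype.ext (Subtype.ext (congrArg (fun v : ↥(Subgroup.normalizer ((D : Subgroup ↥X) : Set ↥X)) => (v : ↥X)) e :))
        exact Sylow.smul_eq_iff_mem_normalizer.1 (show ((a : ↥C) : ↥X) • D = D from a.2)
      have hgd := Nat.dvd_gcd hinj (hCc ▸ Subgroup.card_subgroup_dvd_card St : Nat.card ↥St ∣ 264)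
      refine hgd.trans ?_
      have hc' : c = 2 ∨ c = 3 := by omega
      rcases hc' with rfl | rfl <;> norm_num
    have ho : Nat.card (MulAction.orbit ↥C D) ≤ 12 := hn ▸ Finite.card_subtype_le _
    have hSt : Nat.card ↥St = 22 := by
      refine le_antisymm (Nat.le_of_dvd (by norm_num) hStd) ?_
      by_contra hlt
      have h1 := Nat.mul_le_mul ho (le_of_lt (not_le.1 hlt))
      have h2 : Nat.card ↥St ≤ 21 := by omega
      have := Nat.mul_le_mul ho h2
      omega
    have horb12 : Nat.card (MulAction.orbit ↥C D) = 12 := by rw [hSt] at horb; omega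
    -- `z` fixes every Sylow subgroup
    obtain ⟨s, hs⟩ := exists_prime_orderOf_dvd_card' (G := ↥St) 2 (by rw [hSt]; norm_num)
    have hsz : ((s : ↥C) : ↥X) = z' := by
      have hs2 : orderOf ((((s : ↥C) : ↥X) : G)) = 2 := by
        rw [Subgroup.orderOf_coe, Subgroup.orderOf_coe, Subgroup.orderOf_coe, hs]
      refine Subtype.ext (hD.inv_unique _ (mem_CC.1 (s : ↥C).2).1 (mem_CC.1 (s : ↥C).2).2
        (by rw [← pow_two, ← hs2, pow_orderOf_eq_one]) fun e => by rw [e, orderOf_one] at hs2; norm_num at hs2)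
    have hzD : z' • D = D := hsz ▸ s.2
    have hall : ∀ P : Sylow 11 ↥X, z' • P = P := by
      intro P
      have : (MulAction.orbit ↥C D) = Set.univ :=
        Set.eq_of_subset_of_ncard_le (Set.subset_univ _)
          (by rw [Set.ncard_univ, hn, ← Nat.card_coe_set_eq, horb12]) (Set.toFinite _)
      obtain ⟨g, rfl⟩ := (this.symm ▸ Set.mem_univ P : P ∈ MulAction.orbit ↥C D)
      show z' • ((g : ↥X) • D) = (g : ↥X) • D
      rw [← mul_smul, show z' * (g : ↥X) = g * z' from Subtype.ext (mem_CC.1 g.2).1.symm.eq, mul_smul, hzD]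
    -- the kernel
    set K : Subgroup ↥X := (MulAction.toPermHom ↥X (Sylow 11 ↥X)).ker
    have hK : ∀ {a : ↥X}, a ∈ K ↔ ∀ P : Sylow 11 ↥X, a • P = P := by
      intro a
      rw [MonoidHom.mem_ker]
      exact ⟨fun e P => Equiv.Perm.ext_iff.1 e P, fun e => Equiv.ext e⟩
    have hxK : x' ∈ K := hK.2 fun P => Sylow.smul_eq_iff_mem_normalizer.2 (Subgroup.le_normalizer (hx'D P))
    have hzK : z' ∈ K := hK.2 hall
    have hDK : (D : Subgroup ↥X) ≤ K := by
      intro u hu
      have hcom : z' * u * z'⁻¹ * u⁻¹ ∈ (D : Subgroup ↥X) ⊓ K := by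
        refine Subgroup.mem_inf.2 ⟨?_, ?_⟩
        · exact mul_mem ((Subgroup.mem_normalizer_iff.1 (Sylow.smul_eq_iff_mem_normalizer.1 hzD) u).1 hu) (inv_mem hu)
        · rw [show z' * u * z'⁻¹ * u⁻¹ = z' * (u * z'⁻¹ * u⁻¹) by group]
          exact mul_mem hzK ((inferInstance : K.Normal).conj_mem _ (inv_mem hzK) u)
      obtain ⟨a, ha, haz⟩ := exists_fixed_coset (p := 2) (s := z') (u := u)
        (I := (D : Subgroup ↥X) ⊓ K) (Subtype.ext (by rw [Subgroup.coe_pow]; exact hzz)) (by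
          obtain ⟨k, hk⟩ := IsPGroup.iff_card.1 (D.2.to_le (inf_le_left : (D : Subgroup ↥X) ⊓ K ≤ (D : Subgroup ↥X)))
          rw [hk]
          exact fun hd => by
            have := Nat.Prime.dvd_of_dvd_pow Nat.prime_two hd
            norm_num at this)
        (fun a ha => Subgroup.mem_inf.2
          ⟨(Subgroup.mem_normalizer_iff.1 (Sylow.smul_eq_iff_mem_normalizer.1 hzD) a).1 (Subgroup.mem_inf.1 ha).1,
            (inferInstance : K.Normal).conj_mem _ (Subgroup.mem_inf.1 ha).2 z'⟩) hcom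
      have haD : a ∈ (D : Subgroup ↥X) := by
        rw [show a = a * u⁻¹ * u by group]; exact mul_mem (Subgroup.mem_inf.1 ha).1 hu
      have haK : a ∈ K := Subgroup.zpowers_le.2 hxK (hfix haD haz)
      rw [show u = (a * u⁻¹)⁻¹ * a by group]
      exact mul_mem (inv_mem (Subgroup.mem_inf.1 ha).2) haK
    refine hne fun P => ?_
    have h1 : (D : Subgroup ↥X) ⊓ Subgroup.normalizer ((P : Subgroup ↥X) : Set ↥X) =
        (D : Subgroup ↥X) ⊓ (P : Subgroup ↥X) := D.2.inf_normalizer_sylow P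
    have h2 : (D : Subgroup ↥X) ≤ Subgroup.normalizer ((P : Subgroup ↥X) : Set ↥X) := fun u hu =>
      Sylow.smul_eq_iff_mem_normalizer.1 (hK.1 (hDK hu) P)
    rw [inf_eq_left.2 h2] at h1
    exact Sylow.ext (Subgroup.eq_of_le_of_card_ge (inf_eq_left.1 h1.symm)
      (by rw [P.card_eq_multiplicity, D.card_eq_multiplicity])).symm
  haveI hDn : (D : Subgroup ↥X).Normal := by
    haveI : Subsingleton (Sylow 11 ↥X) := ⟨fun a b => (hnorm a).trans (hnorm b).symm⟩
    exact D.normal_of_subsingleton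
  -- the order is 1331
  have hc' : c = 3 := by
    by_contra hne3
    obtain rfl : c = 2 := by omega
    set I := Subgroup.zpowers x'
    have hxo : orderOf x' = 11 := (Subgroup.orderOf_coe x').symm.trans hx
    haveI : I.Normal := ⟨fun a ha g => by
      obtain ⟨i, rfl⟩ := ha
      show g * x' ^ i * g⁻¹ ∈ I
      rw [((hx'c g).zpow_right i).eq, mul_inv_cancel_right]
      exact zpow_mem (Subgroup.mem_zpowers x') i⟩
    let DI : Subgroup (↥X ⧸ I) := (D : Subgroup ↥X).map (QuotientGroup.mk' I)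
    haveI : DI.Normal := hDn.map _ (QuotientGroup.mk'_surjective I)
    have hDI : Nat.card ↥DI = 11 := by
      have h1 := Subgroup.card_mul_index ((QuotientGroup.mk' I).comp (D : Subgroup ↥X).subtype).ker
      rw [Subgroup.index_ker, hDc] at h1
      have e1 : ((QuotientGroup.mk' I).comp (D : Subgroup ↥X).subtype).range = DI := by
        rw [MonoidHom.range_comp, Subgroup.range_subtype]
      have e2 : ((QuotientGroup.mk' I).comp (D : Subgroup ↥X).subtype).ker = I.subgroupOf (D : Subgroup ↥X) := by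
        rw [← MonoidHom.comap_ker, QuotientGroup.ker_mk']; rfl
      rw [e1, e2, Nat.card_congr (Subgroup.subgroupOfEquivOfLe (Subgroup.zpowers_le.2 (hx'D D))).toEquiv,
        Nat.card_zpowers, hxo] at h1
      omega
    let ψ : ↥X →* MulAut ↥DI := (MulAut.conjNormal).comp (QuotientGroup.mk' I)
    have hzz' : z' * z' = 1 := Subtype.ext (by rw [Subgroup.coe_mul, ← pow_two]; exact hzz)
    obtain ⟨Q, hQ, hQ8, hzQ, hsq, -, -⟩ := hD.quat
    obtain ⟨i, hi, j, hj, hij⟩ := quat_commutator (by rw [← pow_two]; exact hzz) hQ8 hzQ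
      (fun a ha => (mem_CC.1 (hQ ha)).1) hsq
    let i' : ↥X := ⟨i, mem_CX.2 (mem_CC.1 (hQ hi)).2⟩
    let j' : ↥X := ⟨j, mem_CX.2 (mem_CC.1 (hQ hj)).2⟩
    have hψz : ψ z' = 1 := by
      rw [show z' = i' * j' * i'⁻¹ * j'⁻¹ from Subtype.ext hij.symm, map_mul, map_mul, map_mul, map_inv, map_inv,
        mulAut_comm hDI (ψ i') (ψ j'), mul_inv_cancel_right, mul_inv_cancel]
    have hDle : (D : Subgroup ↥X) ≤ I := by
      intro u hu
      have e : ψ z' ⟨QuotientGroup.mk' I u, ⟨u, hu, rfl⟩⟩ = ⟨QuotientGroup.mk' I u, ⟨u, hu, rfl⟩⟩ := by rw [hψz]; rfl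
      have e' : QuotientGroup.mk' I (z' * u * z'⁻¹) = QuotientGroup.mk' I u := by
        rw [map_mul, map_mul, map_inv]; exact congrArg Subtype.val e
      have hmem : z' * u * z'⁻¹ * u⁻¹ ∈ I := by
        rw [← QuotientGroup.ker_mk' I, MonoidHom.mem_ker, map_mul, map_inv, e', mul_inv_cancel]
      obtain ⟨a, ha, haz⟩ := exists_fixed_coset (p := 2) (s := z') (u := u) (I := I) (by rw [pow_two]; exact hzz')
        (by rw [Nat.card_zpowers, hxo]; norm_num)
        (fun a ha => (inferInstance : I.Normal).conj_mem a ha z') hmem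
      have haD : a ∈ (D : Subgroup ↥X) := by
        rw [show a = a * u⁻¹ * u by group]; exact mul_mem (Subgroup.zpowers_le.2 (hx'D D) ha) hu
      rw [show u = (a * u⁻¹)⁻¹ * a by group]
      exact mul_mem (inv_mem ha) (hfix haD haz)
    have := Subgroup.card_le_of_le hDle
    rw [hDc, Nat.card_zpowers, hxo] at this
    norm_num at this
  subst hc'
  refine ⟨hc, (D : Subgroup ↥X).map X.subtype, by rw [Subgroup.card_map_of_injective X.subtype_injective, hDc],
    Subgroup.map_subtype_le _, fun g hg => ?_⟩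
  refine Subgroup.mem_normalizer_iff.2 fun w => ⟨?_, ?_⟩
  · rintro ⟨d, hd, rfl⟩
    exact ⟨_, hDn.conj_mem d hd ⟨g, hg⟩, rfl⟩
  · rintro ⟨d, hd, hdw⟩
    refine ⟨_, hDn.conj_mem d hd ⟨g, hg⟩⁻¹, ?_⟩
    show g⁻¹ * (d : G) * g⁻¹⁻¹ = w
    rw [show (d : G) = g * w * g⁻¹ from hdw]; group

/-- For an element commuting with another involution: a normal Sylow subgroup of index two. -/
theorem Hyp.t_sylow {x t : G} (hx : orderOf x = 11) (ht : orderOf t = 2) (hnc : ¬ IsConj z t) (hxt : Commute x t) :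
    ∃ c, 2 ≤ c ∧ c ≤ 3 ∧ Nat.card ↥(CX x) = 2 * 11 ^ c ∧
      ∃ U : Subgroup G, Nat.card ↥U = 11 ^ c ∧ U ≤ CX x ∧ CX x ≤ Subgroup.normalizer (U : Set G) := by
  classical
  haveI : Fact (Nat.Prime 11) := ⟨by norm_num⟩
  obtain ⟨c, hc3, hc⟩ := h.card_t hx ht hnc hxt
  have hc2 : 2 ≤ c := by
    have h2 := h.sq_dvd hx
    rw [hc] at h2
    exact (Nat.pow_dvd_pow_iff_le_right (by norm_num : 1 < 11)).1
      ((Nat.Coprime.pow_left 2 (by norm_num : Nat.Coprime 11 2)).dvd_of_dvd_mul_left h2)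
  set X := CX x
  obtain ⟨D⟩ : Nonempty (Sylow 11 ↥X) := inferInstance
  have hDc : Nat.card (D : Subgroup ↥X) = 11 ^ c := by
    rw [D.card_eq_multiplicity, hc, Nat.factorization_mul (by norm_num) (by positivity), Finsupp.add_apply,
      Nat.Prime.factorization_pow (Fact.out : Nat.Prime 11), Finsupp.single_eq_same,
      Nat.factorization_eq_zero_of_not_dvd (by norm_num), zero_add]
  have hidx : (D : Subgroup ↥X).index = 2 := by
    have h' := (D : Subgroup ↥X).card_mul_index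
    rw [hDc, hc, mul_comm 2] at h'
    exact Nat.eq_of_mul_eq_mul_left (by positivity) h'
  have hDn : (D : Subgroup ↥X).Normal := Subgroup.normal_of_index_eq_two hidx
  refine ⟨c, hc2, hc3, hc, (D : Subgroup ↥X).map X.subtype,
    by rw [Subgroup.card_map_of_injective X.subtype_injective, hDc], Subgroup.map_subtype_le _, fun g hg => ?_⟩
  refine Subgroup.mem_normalizer_iff.2 fun w => ⟨?_, ?_⟩
  · rintro ⟨d, hd, rfl⟩
    exact ⟨_, hDn.conj_mem d hd ⟨g, hg⟩, rfl⟩
  · rintro ⟨d, hd, hdw⟩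
    refine ⟨_, hDn.conj_mem d hd ⟨g, hg⟩⁻¹, ?_⟩
    show g⁻¹ * (d : G) * g⁻¹⁻¹ = w
    rw [show (d : G) = g * w * g⁻¹ from hdw]; group

end CfsgLib.JankoFour.Eleven
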