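import Mathlib
import Cfsg.Agent.Lib.ThreeTrans.LargeExtra

/-!
# General tools for the elements of order eleven (owner: helper25)

Fixed points of an element of prime order, lifting through a map with kernel of order prime to eleven,
and conjugacy of elements of order eleven.
-/

set_option autoImplicit false
set_option linter.unusedSectionVars false

namespace CfsgLib.JankoFour.Eleven

open CfsgLib.ThreeTrans

variable {G : Type*} [Group G] [Finite G]

/-- Counting fixed points of a conjugation of prime order on a set. -/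
theorem ncard_fixed_modEq {p : ℕ} [hp : Fact p.Prime] {x : G} (hx : x ^ p = 1) {s : Set G}
    (hs : ∀ a ∈ s, x * a * x⁻¹ ∈ s) :
    s.ncard ≡ {a ∈ s | Commute a x}.ncard [MOD p] := by
  classical
  let f : Function.End ↥s := fun a => ⟨x * a * x⁻¹, hs a a.2⟩
  have hit : ∀ (k : ℕ) (a : ↥s), ((f ^ k) a : G) = x ^ k * a * (x ^ k)⁻¹ := by
    intro k
    induction k with
    | zero => intro a; rw [pow_zero]; show (a : G) = _; simp
    | succ k ih =>
      intro a
      rw [pow_succ']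
      show x * ((f ^ k) a : G) * x⁻¹ = _
      rw [ih, pow_succ']
      group
  have hf : f ^ p ^ 1 = 1 := funext fun a => Subtype.ext (by
    rw [pow_one, hit, hx]; show 1 * (a : G) * 1⁻¹ = (a : G); simp)
  have : Fintype ↥s := Fintype.ofFinite _
  have h := Equiv.Perm.card_fixedPoints_modEq hf
  have e : Fintype.card ↥(Function.fixedPoints f) = {a ∈ s | Commute a x}.ncard := by
    rw [← Nat.card_eq_fintype_card, ← Nat.card_coe_set_eq {a ∈ s | Commute a x}]
    refine Nat.card_congr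
      { toFun := fun a => ⟨(a : ↥s), (a : ↥s).2, (mul_inv_eq_iff_eq_mul.1 (congrArg Subtype.val a.2)).symm⟩
        invFun := fun a => ⟨⟨a, a.2.1⟩, Subtype.ext (mul_inv_eq_iff_eq_mul.2 a.2.2.symm.eq)⟩
        left_inv := fun _ => rfl
        right_inv := fun _ => rfl }
  rw [← Nat.card_coe_set_eq s, Nat.card_eq_fintype_card, ← e]
  exact h

/-- An invariant set of size prime to `p` has a fixed point. -/
theorem exists_fixed {p : ℕ} [hp : Fact p.Prime] {x : G} (hx : x ^ p = 1) {s : Set G}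
    (hs : ∀ a ∈ s, x * a * x⁻¹ ∈ s) (h : ¬ p ∣ s.ncard) : ∃ a ∈ s, Commute a x := by
  by_contra hno
  have e : {a ∈ s | Commute a x} = ∅ := Set.eq_empty_iff_forall_notMem.2 fun a ha => hno ⟨a, ha.1, ha.2⟩
  have h1 := ncard_fixed_modEq hx hs
  rw [e, Set.ncard_empty] at h1
  exact h (Nat.modEq_zero_iff_dvd.1 h1)

/-- Counting fixed points on an invariant subgroup. -/
theorem card_inf_cent_modEq {p : ℕ} [hp : Fact p.Prime] {x : G} (hx : x ^ p = 1) {K : Subgroup G}
    (hK : ∀ a ∈ K, x * a * x⁻¹ ∈ K) :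
    Nat.card ↥K ≡ Nat.card ↥(K ⊓ Subgroup.centralizer ({x} : Set G)) [MOD p] := by
  have h := ncard_fixed_modEq hx (s := (K : Set G)) hK
  rw [← Nat.card_coe_set_eq, ← Nat.card_coe_set_eq] at h
  rw [show Nat.card ↥(K ⊓ Subgroup.centralizer ({x} : Set G)) = Nat.card ↑{a ∈ (K : Set G) | Commute a x} from
    Nat.card_congr (Equiv.subtypeEquivRight fun a => Subgroup.mem_inf.trans
      (and_congr SetLike.mem_coe.symm mem_centralizer_singleton_iff'))]
  exact h

section cover

variable {A : Type*} [Group A]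

/-- The centralizer of an element of order eleven through a map with kernel of order prime to eleven. -/
theorem cover_card (π : G →* A) {x : G} (hA : ∀ a, Commute a (π x) → a ∈ Subgroup.zpowers (π x))
    (hπx : orderOf (π x) = 11) :
    Nat.card ↥(Subgroup.centralizer ({x} : Set G)) =
      11 * Nat.card ↥(π.ker ⊓ Subgroup.centralizer ({x} : Set G)) := by
  set C := Subgroup.centralizer ({x} : Set G)
  let φ : ↥C →* A := π.comp C.subtype
  have hr : φ.range = Subgroup.zpowers (π x) := by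
    refine le_antisymm ?_ (Subgroup.zpowers_le.2 ⟨⟨x, mem_centralizer_singleton_iff'.2 rfl⟩, rfl⟩)
    rintro _ ⟨c, rfl⟩
    exact hA _ ((show Commute (c : G) x from mem_centralizer_singleton_iff'.1 c.2).map π)
  have h := φ.ker.card_mul_index
  rw [Subgroup.index_ker, hr, Nat.card_zpowers, hπx] at h
  have e : Nat.card φ.ker = Nat.card ↥(π.ker ⊓ C) :=
    Nat.card_congr
      { toFun := fun a => ⟨((a : ↥C) : G), a.2, (a : ↥C).2⟩
        invFun := fun a => ⟨⟨a, a.2.2⟩, a.2.1⟩
        left_inv := fun _ => rfl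
        right_inv := fun _ => rfl }
  rw [← h, e, mul_comm]

theorem orderOf_image {π : G →* A} {x : G} (hx : orderOf x = 11) (hk : ¬ 11 ∣ Nat.card π.ker) :
    orderOf (π x) = 11 := by
  have : Fact (Nat.Prime 11) := ⟨by norm_num⟩
  refine orderOf_eq_prime (by rw [← map_pow, ← hx, pow_orderOf_eq_one, map_one]) fun e => hk ?_
  have := orderOf_dvd_natCard (⟨x, e⟩ : π.ker)
  rwa [← Subgroup.orderOf_coe, hx] at this

/-- A conjugation in the image lifts. -/
theorem exists_conj_lift (π : G →* A) {x : G} (hx : orderOf x = 11) (hk : ¬ 11 ∣ Nat.card π.ker) {g : G} {j : ℕ}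
    (e : π g * π x * (π g)⁻¹ = π x ^ j) : ∃ k, π k ∈ Subgroup.zpowers (π x) ∧ k * g * x * (k * g)⁻¹ = x ^ j := by
  classical
  have : Fact (Nat.Prime 11) := ⟨by norm_num⟩
  have hfo := orderOf_image hx hk
  set K : Subgroup G := (Subgroup.zpowers (π x)).comap π with hK
  have hxK : x ∈ K := Subgroup.mem_zpowers (π x)
  have hgK : g * x * g⁻¹ ∈ K := by
    show π (g * x * g⁻¹) ∈ Subgroup.zpowers (π x)
    rw [map_mul, map_mul, map_inv, e]
    exact pow_mem (Subgroup.mem_zpowers _) j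
  have hsq : ¬ 11 * 11 ∣ Nat.card K := by
    let φ : K →* A := π.comp K.subtype
    have h := φ.ker.card_mul_index
    rw [Subgroup.index_ker] at h
    have ha : Nat.card φ.ker ∣ Nat.card π.ker := Subgroup.card_dvd_of_injective
      ((K.subtype.comp φ.ker.subtype).codRestrict π.ker fun x => MonoidHom.mem_ker.1 x.2)
      fun a b e => Subtype.ext (Subtype.ext (congrArg (fun y : π.ker => (y : G)) e :))
    have hb : Nat.card φ.range ∣ 11 := by
      rw [← hfo, ← Nat.card_zpowers]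
      exact Subgroup.card_dvd_of_le (by rintro _ ⟨y, rfl⟩; exact y.2)
    intro hd
    rw [← h] at hd
    exact hk (Nat.dvd_of_mul_dvd_mul_right (by norm_num) (hd.trans (mul_dvd_mul ha hb)))
  have syl : ∀ {s : K}, orderOf (s : G) = 11 → ∃ X : Sylow 11 K, (X : Subgroup K) = Subgroup.zpowers s := by
    intro s hs
    have hc' : Nat.card (Subgroup.zpowers s) = 11 := by rw [Nat.card_zpowers, ← Subgroup.orderOf_coe, hs]
    have hidx : ¬ 11 ∣ (Subgroup.zpowers s).index := fun hd => hsq (by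
      rw [← (Subgroup.zpowers s).card_mul_index, hc']
      exact mul_dvd_mul_left _ hd)
    exact ⟨(IsPGroup.of_card (n := 1) (by rw [hc', pow_one])).toSylow hidx, IsPGroup.toSylow_coe _ _⟩
  obtain ⟨X, hX⟩ := syl (s := ⟨g * x * g⁻¹, hgK⟩)
    (by show orderOf (MulAut.conj g x) = 11; rw [MulEquiv.orderOf_eq, hx])
  obtain ⟨Y, hY⟩ := syl (s := ⟨x, hxK⟩) hx
  obtain ⟨k, hk'⟩ := MulAction.exists_smul_eq K X Y
  have hm : k * ⟨g * x * g⁻¹, hgK⟩ * k⁻¹ ∈ (Y : Subgroup K) := by
    rw [← hk']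
    exact Subgroup.smul_mem_pointwise_smul _ (MulAut.conj k) (X : Subgroup K) (hX ▸ Subgroup.mem_zpowers _)
  rw [hY] at hm
  obtain ⟨n, hn⟩ := hm
  have hn' : x ^ n = (k : G) * (g * x * g⁻¹) * (k : G)⁻¹ := congrArg Subtype.val hn
  obtain ⟨m, hm⟩ := k.2
  have hm' : π x ^ m = π k := hm
  have e1 : π (x ^ n) = π x ^ j := by
    rw [hn', map_mul, map_mul, map_mul, map_mul, map_inv, map_inv, e, ← hm',
      (((Commute.refl (π x)).zpow_left m).pow_right j).eq, mul_inv_cancel_right]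
  have e2 : x ^ n = x ^ j := by
    rw [map_zpow, ← zpow_natCast (π x) j, zpow_eq_zpow_iff_modEq, hfo] at e1
    rw [← zpow_natCast x j, zpow_eq_zpow_iff_modEq, hx]
    exact e1
  refine ⟨k, k.2, ?_⟩
  rw [← e2, hn']; group

end cover

/-- If the square of a normalizing element's action is available, all powers are conjugate. -/
theorem isConj_pow_of_square {x g : G} (hx : orderOf x = 11) (hg : g * x * g⁻¹ = x ^ 2) {y : G}
    (hy : y ∈ Subgroup.zpowers x) (hy1 : y ≠ 1) : ∃ k ∈ Subgroup.zpowers g, k * x * k⁻¹ = y := by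
  have hk : ∀ i : ℕ, g ^ i * x * (g ^ i)⁻¹ = x ^ (2 ^ i) := by
    intro i
    induction i with
    | zero => simp
    | succ i ih =>
      rw [show g ^ (i + 1) * x * (g ^ (i + 1))⁻¹ = g * (g ^ i * x * (g ^ i)⁻¹) * g⁻¹ by rw [pow_succ']; group, ih,
        ← conj_pow, hg, ← pow_mul, ← pow_succ']
  obtain ⟨n, rfl⟩ := mem_powers_iff_mem_zpowers.2 hy
  have hn : x ^ n = x ^ (n % 11) := by rw [← hx, pow_mod_orderOf]
  have h0 : n % 11 ≠ 0 := fun e => hy1 (by show x ^ n = 1; rw [hn, e, pow_zero])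
  have key : ∀ m : ℕ, m < 11 → m ≠ 0 → ∃ i : ℕ, i < 10 ∧ 2 ^ i % 11 = m := by decide
  obtain ⟨i, -, hi⟩ := key _ (Nat.mod_lt _ (by norm_num)) h0
  refine ⟨g ^ i, pow_mem (Subgroup.mem_zpowers g) i, ?_⟩
  show _ = x ^ n
  rw [hk, hn, ← hi, ← hx, pow_mod_orderOf]

/-- Conjugacy of the subgroups of order eleven in a group with Sylow order eleven. -/
theorem exists_conj_mem {K : Subgroup G} (hd : ¬ 11 * 11 ∣ Nat.card K) {x y : G} (hx : orderOf x = 11)
    (hxK : x ∈ K) (hy : orderOf y = 11) (hyK : y ∈ K) :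
    ∃ h ∈ K, h * x * h⁻¹ ∈ Subgroup.zpowers y := by
  classical
  have : Fact (Nat.Prime 11) := ⟨by norm_num⟩
  have syl : ∀ {s : K}, orderOf (s : G) = 11 → ∃ X : Sylow 11 K, (X : Subgroup K) = Subgroup.zpowers s := by
    intro s hs
    have hc' : Nat.card (Subgroup.zpowers s) = 11 := by rw [Nat.card_zpowers, ← Subgroup.orderOf_coe, hs]
    have hidx : ¬ 11 ∣ (Subgroup.zpowers s).index := fun h => hd (by
      rw [← (Subgroup.zpowers s).card_mul_index, hc']
      exact mul_dvd_mul_left _ h)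
    exact ⟨(IsPGroup.of_card (n := 1) (by rw [hc', pow_one])).toSylow hidx, IsPGroup.toSylow_coe _ _⟩
  obtain ⟨X, hX⟩ := syl (s := ⟨x, hxK⟩) hx
  obtain ⟨Y, hY⟩ := syl (s := ⟨y, hyK⟩) hy
  obtain ⟨h, hh⟩ := MulAction.exists_smul_eq K X Y
  refine ⟨h, h.2, ?_⟩
  have hm : h * ⟨x, hxK⟩ * h⁻¹ ∈ (Y : Subgroup K) := by
    rw [← hh]
    exact Subgroup.smul_mem_pointwise_smul _ (MulAut.conj h) (X : Subgroup K) (hX ▸ Subgroup.mem_zpowers _)
  rw [hY] at hm
  obtain ⟨n, hn⟩ := hm
  exact ⟨n, congrArg Subtype.val hn⟩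

/-- All elements of order eleven in such a group are conjugate. -/
theorem exists_conj_eq {K : Subgroup G} (hd : ¬ 11 * 11 ∣ Nat.card K) {x y g : G} (hx : orderOf x = 11)
    (hxK : x ∈ K) (hy : orderOf y = 11) (hyK : y ∈ K) (hgK : g ∈ K) (hg : g * y * g⁻¹ = y ^ 2) :
    ∃ h ∈ K, h * x * h⁻¹ = y := by
  obtain ⟨h, hhK, hh⟩ := exists_conj_mem hd hx hxK hy hyK
  have h1 : h * x * h⁻¹ ≠ 1 := fun e => by
    rw [conj_eq_one_iff] at e
    rw [e, orderOf_one] at hx
    norm_num at hx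
  obtain ⟨k, hk, e⟩ := isConj_pow_of_square hy hg hh h1
  refine ⟨k⁻¹ * h, mul_mem (inv_mem (Subgroup.zpowers_le.2 hgK hk)) hhK, ?_⟩
  rw [show k⁻¹ * h * x * (k⁻¹ * h)⁻¹ = k⁻¹ * (h * x * h⁻¹) * k by group, ← e]
  group

end CfsgLib.JankoFour.Eleven
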